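/-
Codes for the monomial elements of Co1 and the sextet element.

A code is a pair (sign mask, packed permutation).

* `MonT` : the monomial subgroup of Co1;  `xiT` : the sextet element
* `el`, `V` : the element of a code and its validity;  `el_mul` : products checked by `isMul`
* `conj_el` : `xiT * el l * xiT = el l'` checked by `isConj`
* `el_mem_cz1`, `xiT_mem_cz1` : membership in the centralizer of the octad involution
-/
import Cfsg.Agent.Lib.Co2Centralizer.Elements
import Cfsg.Agent.Lib.Co1Centralizer.Main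

set_option autoImplicit false
open scoped Pointwise
open Cfsg
open Cfsg.Agent.Leech
open Cfsg.Agent.Golay (fn imgMask validPerm toPerm isAut idx pt pts)

namespace Cfsg.Agent.CoOneUniq

/-- The monomial subgroup of Co1. -/
def MonT : Subgroup Spor.Co1 := stdStab.map (QuotientGroup.mk' (Subgroup.center Co0))

/-- The sextet element of Co1. -/
def xiT : Spor.Co1 := QuotientGroup.mk Co2Centralizer.xiEl

theorem mk_negOne_mul (g : Co0) :
    (QuotientGroup.mk (negOne * g) : Spor.Co1) = QuotientGroup.mk g := by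
  rw [QuotientGroup.mk_mul, Co1Centralizer.mk_eq_one_iff.2 (Or.inr rfl), one_mul]

theorem xiEl_mul_self : Co2Centralizer.xiEl * Co2Centralizer.xiEl = 1 :=
  co0_ext fun v => Subtype.ext (by
    rw [mul_smul, Co2Centralizer.vec_xiEl, Co2Centralizer.vec_xiEl,
      Co2Centralizer.xiFun_xiFun v.2, one_smul])

theorem xiT_mul_self : xiT * xiT = 1 := by
  rw [xiT, ← QuotientGroup.mk_mul, xiEl_mul_self]
  rfl

/-- A code is valid. -/
def V (c : ℕ × ℕ) : Prop :=
  c.1 < 2 ^ 24 ∧ pts c.1 ∈ supports (golayCode : Set (GolayPt → ZMod 2)) ∧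
    validPerm c.2 = true ∧ toPerm c.2 ∈ M24

/-- The Boolean test for validity. -/
def isV (c : ℕ × ℕ) : Bool := Golay.isCode c.1 && isAut c.2

theorem V_of_isV {c : ℕ × ℕ} (h : isV c = true) : V c := by
  simp only [isV, Bool.and_eq_true] at h
  exact ⟨Golay.lt_of_isCode h.1, (Golay.pts_mem_supports_iff (Golay.lt_of_isCode h.1)).2 h.1,
    Golay.validPerm_of_isAut h.2, Golay.toPerm_mem_M24 h.2⟩

open Classical in
/-- The monomial element of Co0 of a code. -/
noncomputable def el0 (c : ℕ × ℕ) : Co0 :=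
  if h : toPerm c.2 ∈ M24 ∧ pts c.1 ∈ supports (golayCode : Set (GolayPt → ZMod 2)) then
    mono (toPerm c.2) h.1 (pts c.1) h.2 else 1

theorem el0_eq {c : ℕ × ℕ} (h : V c) :
    el0 c = mono (toPerm c.2) h.2.2.2 (pts c.1) h.2.1 := dif_pos ⟨h.2.2.2, h.2.1⟩

theorem el0_mem (c : ℕ × ℕ) : el0 c ∈ stdStab := by
  unfold el0
  split
  · exact mono_mem_stdStab _ _ _ _
  · exact one_mem _

/-- The monomial element of Co1 of a code. -/
noncomputable def el (c : ℕ × ℕ) : MonT :=
  ⟨QuotientGroup.mk (el0 c), Subgroup.mem_map_of_mem _ (el0_mem c)⟩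

theorem el_coe (c : ℕ × ℕ) : (el c : Spor.Co1) = QuotientGroup.mk (el0 c) := rfl

theorem vec_el0 {c : ℕ × ℕ} (h : V c) (v : leechLattice) :
    ((el0 c • v : leechLattice) : GolayPt → ℤ) = signedPerm (toPerm c.2) (pts c.1) v := by
  rw [el0_eq h, vec_mono]

/-- All signs. -/
def full : ℕ := 16777215

/-- The product test. -/
def isMul (a b c : ℕ × ℕ) : Bool :=
  validPerm c.2 && (List.range 24).all (fun i => fn c.2 i == fn a.2 (fn b.2 i)) &&
    (c.1 == a.1 ^^^ imgMask a.2 b.1 || c.1 == a.1 ^^^ imgMask a.2 b.1 ^^^ full)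

theorem toPerm_mul {a b c : ℕ} (ha : validPerm a = true) (hb : validPerm b = true)
    (hc : validPerm c = true) (h : ∀ i < 24, fn c i = fn a (fn b i)) :
    toPerm a * toPerm b = toPerm c := by
  refine Equiv.ext fun p => Golay.idx_injective ?_
  rw [Equiv.Perm.mul_apply, Golay.idx_toPerm ha, Golay.idx_toPerm hb, Golay.idx_toPerm hc,
    h _ (Golay.idx_lt p)]

theorem imgMask_lt {a : ℕ} (ha : validPerm a = true) (m : ℕ) : imgMask a m < 2 ^ 24 := by
  refine Nat.lt_pow_two_of_testBit _ fun i hi => Bool.eq_false_iff.2 fun h => ?_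
  obtain ⟨k, hk, -, rfl⟩ := (Golay.testBit_imgAux a m i 24).1 h
  have := Golay.fn_lt_of_valid ha hk
  omega

theorem el_mul {a b c : ℕ × ℕ} (ha : V a) (hb : V b) (h : isMul a b c = true) :
    V c ∧ el a * el b = el c := by
  simp only [isMul, Bool.and_eq_true, List.all_eq_true, List.mem_range, beq_iff_eq,
    Bool.or_eq_true] at h
  obtain ⟨⟨hv, hf⟩, hw⟩ := h
  have hp := toPerm_mul ha.2.2.1 hb.2.2.1 hv hf
  have hM : toPerm c.2 ∈ M24 := hp ▸ mul_mem ha.2.2.2 hb.2.2.2
  have hlt : a.1 ^^^ imgMask a.2 b.1 < 2 ^ 24 := Nat.xor_lt_two_pow ha.1 (imgMask_lt ha.2.2.1 _)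
  have hmem : pts (a.1 ^^^ imgMask a.2 b.1) ∈ supports (golayCode : Set (GolayPt → ZMod 2)) := by
    rw [Golay.pts_xor, Golay.pts_imgMask ha.2.2.1]
    exact Golay.symmDiff_mem ha.2.1 (Golay.smul_mem_supports ha.2.2.2 hb.2.1)
  have key : ∀ w : ℕ, w = a.1 ^^^ imgMask a.2 b.1 → ∀ v : leechLattice, ∀ i : GolayPt,
      ((el0 a • el0 b • v : leechLattice) : GolayPt → ℤ) i =
        signedPerm (toPerm c.2) (pts w) v i := by
    rintro w rfl v i
    rw [vec_el0 ha]
    simp only [signedPerm, vec_el0 hb]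
    rw [← hp]
    simp only [Equiv.Perm.mul_def, Equiv.symm_trans_apply, Golay.pts_xor,
      Golay.pts_imgMask ha.2.2.1, Finset.mem_symmDiff, ← Finset.inv_smul_mem_iff,
      Equiv.Perm.smul_def, Equiv.Perm.coe_inv]
    by_cases h1 : i ∈ pts a.1 <;> by_cases h2 : (toPerm a.2).symm i ∈ pts b.1 <;> simp [h1, h2]
  rcases hw with hw | hw
  · have hV : V c := ⟨hw ▸ hlt, hw ▸ hmem, hv, hM⟩
    refine ⟨hV, Subtype.ext ?_⟩
    rw [Subgroup.coe_mul, el_coe, el_coe, el_coe, ← QuotientGroup.mk_mul]
    refine congrArg _ (co0_ext fun v => Subtype.ext (funext fun i => ?_))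
    rw [mul_smul, key c.1 hw, vec_el0 hV]
  · have hV : V c := by
      refine ⟨hw ▸ Nat.xor_lt_two_pow hlt (by norm_num [full]), ?_, hv, hM⟩
      rw [hw, Golay.pts_xor]
      exact Golay.symmDiff_mem hmem (by rw [full, Golay.pts_full]; exact Golay.univ_mem)
    refine ⟨hV, Subtype.ext ?_⟩
    rw [Subgroup.coe_mul, el_coe, el_coe, el_coe, ← QuotientGroup.mk_mul,
      ← mk_negOne_mul (el0 c)]
    refine congrArg _ (co0_ext fun v => Subtype.ext (funext fun i => ?_))
    rw [mul_smul, key (a.1 ^^^ imgMask a.2 b.1) rfl, mul_smul, vec_negOne, Pi.neg_apply,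
      vec_el0 hV]
    simp only [signedPerm, hw, Golay.pts_xor, full, Golay.pts_full, Finset.mem_symmDiff,
      Finset.mem_univ, not_true, and_false, or_false, false_or, true_and]
    simp only [Golay.mem_pts]
    cases a.1.testBit (idx i) <;> cases (imgMask a.2 b.1).testBit (idx i) <;> simp

/-! ### The sextet element -/

/-- The support of the image of the `i`-th frame vector. -/
def tT (i : ℕ) : ℕ := (Co2Centralizer.tetradData.find? fun T => T.testBit i).getD 0

/-- Its negative entries. -/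
def tN (i : ℕ) : ℕ :=
  if (Co2Centralizer.tetradData.getD 0 0).testBit i then 2 ^ i else tT i ^^^ 2 ^ i

/-- A vector with entries `±4` on a mask. -/
def sv (T N : ℕ) : GolayPt → ℤ := fun p =>
  if T.testBit (idx p) then (if N.testBit (idx p) then -4 else 4) else 0

theorem xi_eight_table : ∀ p i : GolayPt,
    Co2Centralizer.xiFun (Pi.single p 8) i = sv (tT (idx p)) (tN (idx p)) i := by
  decide +kernel

theorem xiEl_eight (p : GolayPt) :
    ((Co2Centralizer.xiEl • eightVec p : leechLattice) : GolayPt → ℤ) = sv (tT (idx p)) (tN (idx p)) := by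
  rw [Co2Centralizer.vec_xiEl, coe_eightVec]
  exact funext fun i => xi_eight_table p i

theorem signedPerm_sv {d : ℕ} (hd : validPerm d = true) (w T N : ℕ) :
    signedPerm (toPerm d) (pts w) (sv T N) = sv (imgMask d T) (imgMask d N ^^^ w) := by
  funext p
  have hb : ∀ m, (imgMask d m).testBit (idx p) = m.testBit (idx ((toPerm d).symm p)) := by
    intro m
    have e : p ∈ pts (imgMask d m) ↔ (toPerm d).symm p ∈ pts m := by
      rw [Golay.pts_imgMask hd, ← Finset.inv_smul_mem_iff, Equiv.Perm.smul_def,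
        Equiv.Perm.coe_inv]
    simp only [Golay.mem_pts] at e
    cases h1 : (imgMask d m).testBit (idx p) <;>
      cases h2 : m.testBit (idx ((toPerm d).symm p)) <;> simp_all
  simp only [signedPerm, sv, Golay.mem_pts, Nat.testBit_xor, hb]
  cases T.testBit (idx ((toPerm d).symm p)) <;> cases N.testBit (idx ((toPerm d).symm p)) <;>
    cases w.testBit (idx p) <;> simp

/-- The vector of `el0 c * xiEl` at the frame vector `i`. -/
def rImg (c : ℕ × ℕ) (i : ℕ) : ℕ × ℕ :=
  (imgMask c.2 (tT i), (imgMask c.2 (tN i) ^^^ c.1) &&& imgMask c.2 (tT i))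

/-- The vector of `xiEl * el0 c` at the frame vector `i`. -/
def lImg (c : ℕ × ℕ) (i : ℕ) : ℕ × ℕ :=
  let j := fn c.2 i
  (tT j, (tN j ^^^ bif c.1.testBit j then full else 0) &&& tT j)

theorem sv_and (T N : ℕ) : sv T (N &&& T) = sv T N := by
  funext p
  simp only [sv, Nat.testBit_and]
  cases T.testBit (idx p) <;> simp

theorem sv_flip (T N : ℕ) : sv T ((N ^^^ full) &&& T) = -sv T N := by
  funext p
  have h : full.testBit (idx p) = true := by
    rw [full, show (16777215 : ℕ) = 2 ^ 24 - 1 from rfl, Nat.testBit_two_pow_sub_one,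
      decide_eq_true_eq]
    exact Golay.idx_lt p
  simp only [sv, Nat.testBit_and, Nat.testBit_xor, h, Pi.neg_apply]
  cases T.testBit (idx p) <;> cases N.testBit (idx p) <;> simp

theorem vec_rImg {c : ℕ × ℕ} (h : V c) (p : GolayPt) :
    (((el0 c * Co2Centralizer.xiEl) • eightVec p : leechLattice) : GolayPt → ℤ) =
      sv (rImg c (idx p)).1 (rImg c (idx p)).2 := by
  rw [mul_smul, vec_el0 h, xiEl_eight, signedPerm_sv h.2.2.1]
  exact (sv_and _ _).symm

theorem vec_lImg {c : ℕ × ℕ} (h : V c) (p : GolayPt) :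
    (((Co2Centralizer.xiEl * el0 c) • eightVec p : leechLattice) : GolayPt → ℤ) =
      sv (lImg c (idx p)).1 (lImg c (idx p)).2 := by
  have hj := Golay.idx_toPerm h.2.2.1 p
  have e : el0 c • eightVec p =
      if (pts c.1 : Finset GolayPt).card = 0 ∨ toPerm c.2 p ∉ pts c.1 then eightVec (toPerm c.2 p)
      else -eightVec (toPerm c.2 p) := by
    refine Subtype.ext ?_
    rw [vec_el0 h, coe_eightVec, signedPerm_single]
    by_cases hm : toPerm c.2 p ∈ pts c.1
    · rw [if_pos hm, if_neg (by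
        rintro (h0 | h0)
        · exact absurd (Finset.card_eq_zero.1 h0 ▸ hm) (Finset.notMem_empty _)
        · exact h0 hm)]
      rw [show ((-eightVec (toPerm c.2 p) : leechLattice) : GolayPt → ℤ) =
        -(eightVec (toPerm c.2 p) : GolayPt → ℤ) from rfl, coe_eightVec, ← Pi.single_neg]
    · rw [if_neg hm, if_pos (Or.inr hm), coe_eightVec]
  rw [mul_smul, e]
  simp only [lImg, ← hj, Golay.mem_pts]
  by_cases hm : c.1.testBit (idx (toPerm c.2 p)) = true
  · rw [if_neg (by
      rintro (h0 | h0)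
      · exact absurd (Finset.card_eq_zero.1 h0 ▸ (Golay.mem_pts.2 hm)) (Finset.notMem_empty _)
      · exact h0 hm), smul_vneg, hm, cond_true, sv_flip]
    show -((Co2Centralizer.xiEl • eightVec (toPerm c.2 p) : leechLattice) : GolayPt → ℤ) = _
    rw [xiEl_eight]
  · rw [if_pos (Or.inr hm), Bool.not_eq_true _ |>.mp hm, cond_false, Nat.xor_zero, sv_and,
      xiEl_eight]

/-- The conjugation test: `xiT * el a * xiT = el b`. -/
def isConj (a b : ℕ × ℕ) : Bool :=
  (List.range 24).all (fun i => lImg a i == rImg b i) ||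
    (List.range 24).all (fun i => lImg a i == ((rImg b i).1, ((rImg b i).2 ^^^ full) &&& (rImg b i).1))

theorem conj_el {a b : ℕ × ℕ} (ha : V a) (hb : V b) (h : isConj a b = true) :
    xiT * (el a : Spor.Co1) * xiT = el b := by
  have main : xiT * (el a : Spor.Co1) = el b * xiT := by
    simp only [isConj, Bool.or_eq_true, List.all_eq_true, List.mem_range, beq_iff_eq] at h
    rw [xiT, el_coe, el_coe, ← QuotientGroup.mk_mul, ← QuotientGroup.mk_mul]
    rcases h with h | h
    · refine congrArg _ (ext_frame fun p => Subtype.ext ?_)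
      rw [vec_lImg ha, vec_rImg hb, h _ (Golay.idx_lt p)]
    · rw [← mk_negOne_mul (el0 b * _)]
      refine congrArg _ (ext_frame fun p => Subtype.ext ?_)
      rw [vec_lImg ha, mul_smul negOne, vec_negOne, vec_rImg hb, h _ (Golay.idx_lt p), sv_flip]
  rw [main, mul_assoc, xiT_mul_self, mul_one]

/-! ### The centralizer of the octad involution -/

theorem oct_flip_check : ∀ p : GolayPt, ∀ i : GolayPt,
    (if i ∈ Co2Centralizer.oct then sv (tT (idx p)) (tN (idx p)) i
      else -sv (tT (idx p)) (tN (idx p)) i) =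
      if p ∈ Co2Centralizer.oct then sv (tT (idx p)) (tN (idx p)) i
      else -sv (tT (idx p)) (tN (idx p)) i := by
  decide +kernel

theorem xiT_mem_cz1 : xiT ∈ Co1Centralizer.cz1 := by
  refine Co1Centralizer.mk_mem_cz1.2 (Co1Centralizer.mem_cen.2 ?_)
  refine ext_frame fun p => Subtype.ext (funext fun i => ?_)
  rw [mul_smul, mul_smul]
  have e : Co2Centralizer.inv0 • eightVec p =
      if p ∈ Co2Centralizer.oct then eightVec p else -eightVec p := by
    refine Subtype.ext (funext fun l => ?_)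
    rw [Co2Centralizer.inv0_smul]
    by_cases hp : p ∈ Co2Centralizer.oct
    · rw [if_pos hp, coe_eightVec]
      by_cases hl : l = p
      · subst hl; rw [if_pos hp]
      · rw [Pi.single_eq_of_ne hl]; simp
    · rw [if_neg hp]
      show _ = -((eightVec p : GolayPt → ℤ) l)
      rw [coe_eightVec]
      by_cases hl : l = p
      · subst hl; rw [if_neg hp]
      · rw [Pi.single_eq_of_ne hl]; simp
  rw [e, Co2Centralizer.inv0_smul, xiEl_eight, oct_flip_check]
  by_cases hp : p ∈ Co2Centralizer.oct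
  · rw [if_pos hp, if_pos hp, xiEl_eight]
  · rw [if_neg hp, if_neg hp, smul_vneg]
    rw [show ((-(Co2Centralizer.xiEl • eightVec p) : leechLattice) : GolayPt → ℤ) i =
      -(((Co2Centralizer.xiEl • eightVec p : leechLattice) : GolayPt → ℤ) i) from rfl, xiEl_eight]

theorem el_mem_cz1 {c : ℕ × ℕ} (h : V c)
    (ho : imgMask c.2 Golay.octad0 = Golay.octad0) : (el c : Spor.Co1) ∈ Co1Centralizer.cz1 := by
  refine Co1Centralizer.mk_mem_cz1.2 (Co1Centralizer.mem_cen.2 ?_)
  have hfix : toPerm c.2 • Co2Centralizer.oct = Co2Centralizer.oct := by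
    show _ • pts Golay.octad0 = pts Golay.octad0
    rw [← Golay.pts_imgMask h.2.2.1, ho]
  refine co0_ext fun v => Subtype.ext (funext fun i => ?_)
  have hiff : (toPerm c.2).symm i ∈ Co2Centralizer.oct ↔ i ∈ Co2Centralizer.oct := by
    conv_rhs => rw [← hfix, ← Finset.inv_smul_mem_iff, Equiv.Perm.smul_def, Equiv.Perm.coe_inv]
  rw [mul_smul, mul_smul, vec_el0 h, Co2Centralizer.inv0_smul, vec_el0 h]
  simp only [signedPerm, Co2Centralizer.inv0_smul, hiff]
  split_ifs <;> simp

end Cfsg.Agent.CoOneUniq
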