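/-
The monomial subgroup of Co1.

* `nmono σ c` : the class of the monomial element; `nmono_mul`, `nmono_eq_iff`
* `N0` : the image of the stabilizer of the standard cross; `mem_N0`, `natCard_N0`
* `exists_hom_of_mono` : homomorphisms on `N0`
-/
import Cfsg.Agent.Lib.Co1Centralizer.Main
import Cfsg.Agent.Lib.Leech.Monomial
import Cfsg.Agent.Lib.Leech.Co1Simple

set_option autoImplicit false
open scoped Pointwise symmDiff

namespace Cfsg.Agent.CoOneUniq

open Cfsg Cfsg.Agent.Leech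

/-- The sets supporting a code word. -/
abbrev CodeSet : Type := ↥(supports (golayCode : Set (GolayPt → ZMod 2)))

/-- The translate of a code set. -/
def mv (σ : ↥M24) (c : CodeSet) : CodeSet := ⟨σ.1 • c.1, Golay.smul_mem_supports σ.2 c.2⟩

/-- The sum of code sets. -/
def cadd (c d : CodeSet) : CodeSet := ⟨c.1 ∆ d.1, Golay.symmDiff_mem c.2 d.2⟩

theorem univ_mem_supports : (Finset.univ : Finset GolayPt) ∈ supports (golayCode : Set (GolayPt → ZMod 2)) :=
  ⟨1, one_mem_code, Finset.ext fun p => by simp [support₂]⟩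

/-- The whole set. -/
def cuniv : CodeSet := ⟨Finset.univ, univ_mem_supports⟩
/-- The empty set. -/
def cempty : CodeSet := ⟨∅, Golay.empty_mem⟩

/-- A monomial element of Co0. -/
noncomputable def mono0 (σ : ↥M24) (c : CodeSet) : Co0 := mono σ.1 σ.2 c.1 c.2

/-- A monomial element of Co1. -/
noncomputable def nmono (σ : ↥M24) (c : CodeSet) : Spor.Co1 := QuotientGroup.mk (mono0 σ c)

theorem mono0_mul (σ τ : ↥M24) (c d : CodeSet) :
    mono0 σ c * mono0 τ d = mono0 (σ * τ) (cadd c (mv σ d)) := by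
  refine co0_ext fun v => Subtype.ext (funext fun i => ?_)
  rw [mul_smul, mono0, mono0, mono0, vec_mono, vec_mono, vec_mono]
  simp only [signedPerm, cadd, mv, Subgroup.coe_mul, Finset.mem_symmDiff, mem_smul_iff_symm,
    Equiv.Perm.mul_def, Equiv.symm_trans_apply]
  by_cases h1 : i ∈ c.1 <;> by_cases h2 : σ.1.symm i ∈ d.1 <;> simp [h1, h2]

theorem nmono_mul (σ τ : ↥M24) (c d : CodeSet) :
    nmono σ c * nmono τ d = nmono (σ * τ) (cadd c (mv σ d)) := by
  rw [nmono, nmono, ← QuotientGroup.mk_mul, mono0_mul]; rfl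

theorem negOne_eq_mono : negOne = mono0 1 cuniv := by
  refine co0_ext fun v => Subtype.ext (funext fun i => ?_)
  rw [vec_negOne, mono0, vec_mono]
  simp [signedPerm, cuniv]
  rfl

theorem mono0_one : mono0 1 cempty = 1 := by
  refine co0_ext fun v => Subtype.ext (funext fun i => ?_)
  rw [mono0, vec_mono, one_smul]
  simp [signedPerm, cempty]
  rfl

theorem nmono_one : nmono 1 cempty = 1 := by rw [nmono, mono0_one]; rfl

theorem mono0_inj {σ τ : ↥M24} {c d : CodeSet} (h : mono0 σ c = mono0 τ d) : σ = τ ∧ c = d :=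
  ⟨Subtype.ext (mono_injective h).1, Subtype.ext (mono_injective h).2⟩

theorem negOne_mul_mono0 (σ : ↥M24) (c : CodeSet) :
    negOne * mono0 σ c = mono0 σ (cadd cuniv c) := by
  rw [negOne_eq_mono, mono0_mul, one_mul]
  congr 2
  exact Subtype.ext (one_smul _ c.1)

theorem nmono_eq_iff {σ τ : ↥M24} {c d : CodeSet} :
    nmono σ c = nmono τ d ↔ σ = τ ∧ (c = d ∨ d = cadd cuniv c) := by
  constructor
  · intro h
    have h1 : (QuotientGroup.mk (mono0 τ d * (mono0 σ c)⁻¹) : Spor.Co1) = 1 := by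
      rw [QuotientGroup.mk_mul, QuotientGroup.mk_inv]
      exact mul_inv_eq_one.2 h.symm
    rcases Co1Centralizer.mk_eq_one_iff.1 h1 with e | e
    · obtain ⟨h2, h3⟩ := mono0_inj (mul_inv_eq_one.1 e)
      exact ⟨h2.symm, Or.inl h3.symm⟩
    · rw [mul_inv_eq_iff_eq_mul, negOne_mul_mono0] at e
      obtain ⟨h2, h3⟩ := mono0_inj e
      exact ⟨h2.symm, Or.inr h3⟩
  · rintro ⟨rfl, rfl | rfl⟩
    · rfl
    · rw [nmono, nmono, ← negOne_mul_mono0, QuotientGroup.mk_mul,
        Co1Centralizer.mk_eq_one_iff.2 (Or.inr rfl), one_mul]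

/-- The monomial subgroup of Co1. -/
def N0 : Subgroup Spor.Co1 := stdStab.map (QuotientGroup.mk' _)

theorem nmono_mem (σ : ↥M24) (c : CodeSet) : nmono σ c ∈ N0 :=
  ⟨mono0 σ c, mono_mem_stdStab σ.1 σ.2 c.1 c.2, rfl⟩

theorem mem_N0 {x : Spor.Co1} : x ∈ N0 ↔ ∃ σ c, x = nmono σ c := by
  refine ⟨?_, fun ⟨σ, c, h⟩ => h ▸ nmono_mem σ c⟩
  rintro ⟨g, hg, rfl⟩
  obtain ⟨σ, hσ, c, hc, rfl⟩ := exists_mono_of_mem hg
  exact ⟨⟨σ, hσ⟩, ⟨c, hc⟩, rfl⟩

theorem center_le_stdStab : Subgroup.center Co0 ≤ stdStab := fun g hg => by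
  rcases center_eq hg with rfl | rfl
  · exact one_mem _
  · rw [negOne_eq_mono]; exact mono_mem_stdStab _ _ _ _

theorem natCard_N0 : Nat.card N0 = 501397585920 := by
  let f : stdStab →* Spor.Co1 := (QuotientGroup.mk' _).comp stdStab.subtype
  have hr : f.range = N0 := MonoidHom.range_comp _ _ |>.trans (by rw [stdStab.range_subtype]; rfl)
  have hk : Nat.card f.ker = 2 := by
    have e : f.ker = (Subgroup.center Co0).subgroupOf stdStab := by
      ext g
      rw [MonoidHom.mem_ker, Subgroup.mem_subgroupOf]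
      exact QuotientGroup.eq_one_iff _
    rw [e, Nat.card_congr (Subgroup.subgroupOfEquivOfLe center_le_stdStab).toEquiv, natCard_center]
  have h := f.ker.index_mul_card
  rw [Subgroup.index_ker, hr, hk, natCard_stdStab] at h
  omega

/-- A homomorphism on the monomial group from its values on monomial elements. -/
theorem exists_hom_of_mono {G : Type*} [Group G] (Φ : ↥M24 → CodeSet → G)
    (hmul : ∀ σ τ c d, Φ σ c * Φ τ d = Φ (σ * τ) (cadd c (mv σ d))) (huniv : Φ 1 cuniv = 1) :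
    ∃ f : N0 →* G, ∀ σ c, f ⟨nmono σ c, nmono_mem σ c⟩ = Φ σ c := by
  have hinv : ∀ σ c, Φ σ (cadd cuniv c) = Φ σ c := fun σ c => by
    have h := hmul 1 σ cuniv c
    rw [huniv, one_mul, one_mul, show mv 1 c = c from Subtype.ext (one_smul _ c.1)] at h
    exact h.symm
  choose sel sc hsel using fun x : N0 => mem_N0.1 x.2
  have hwd : ∀ (x : N0) σ c, (x : Spor.Co1) = nmono σ c → Φ (sel x) (sc x) = Φ σ c := by
    intro x σ c h
    obtain ⟨h1, h2 | h2⟩ := nmono_eq_iff.1 ((hsel x).symm.trans h)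
    · rw [h1, h2]
    · rw [h1, h2, hinv]
  refine ⟨MonoidHom.mk' (fun x => Φ (sel x) (sc x)) fun x y => ?_, fun σ c => hwd _ σ c rfl⟩
  rw [hmul, hwd (x * y) _ _ (by rw [Subgroup.coe_mul, hsel x, hsel y, nmono_mul])]

end Cfsg.Agent.CoOneUniq
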