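/-
The action of Co1 on the lattice modulo two.

* `clv` : the 24 bit class of a lattice vector;  `mat g` : the rows of the matrix of `g`
* `mat_mul`, `mat_inj` : a faithful representation;  `mat_el`, `mat_xi` : evaluation on generators
* `fr` : the frame of an element;  `fr_eq_iff` : it determines the coset of `N0`
-/
import Cfsg.Agent.Lib.CoOneUniq.RepData
import Cfsg.Agent.Lib.CoOneUniq.Model
import Cfsg.Agent.Lib.CoOneUniq.Codes
import Cfsg.Agent.Lib.Leech.MatEl
import Cfsg.Agent.Lib.Leech.Co0Center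
import Cfsg.Agent.Lib.Co2Centralizer.Elements

set_option autoImplicit false
set_option maxRecDepth 100000

namespace Cfsg.Agent.CoOneUniq

open Cfsg Cfsg.Agent.Leech
open Cfsg.Agent.Golay (idx pt encAux fn)

/-- An entry of eight times the inverse basis. -/
def invE (c j : ℕ) : ℤ := (invL.getD c []).getD j 0

/-- A basis vector. -/
def basV (c : ℕ) : GolayPt → ℤ := vOf (basL.getD c [])

/-- Eight times a coordinate. -/
def qv (c : ℕ) (x : GolayPt → ℤ) : ℤ := ∑ i, invE c (idx i) * x i

theorem qv_add (c : ℕ) (x y : GolayPt → ℤ) : qv c (x + y) = qv c x + qv c y := by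
  simp only [qv, Pi.add_apply, mul_add, Finset.sum_add_distrib]

theorem qv_gens : ∀ g ∈ genLists, ∀ c < 24, (qv c (vOf g)) % 8 = 0 := by decide +kernel

theorem bas_check : (∀ c < 24, inLatL (basL.getD c []) = true) ∧
    ∀ j k : GolayPt, ∑ c ∈ Finset.range 24, invE c (idx j) * basV c k = if j = k then 8 else 0 := by
  decide +kernel

theorem basV_mem {c : ℕ} (hc : c < 24) : basV c ∈ leechLattice := mem_of_inLatL (bas_check.1 c hc)

theorem qv_dvd {x : GolayPt → ℤ} (hx : x ∈ leechLattice) {c : ℕ} (hc : c < 24) : (8 : ℤ) ∣ qv c x := by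
  let A : AddSubgroup (GolayPt → ℤ) :=
    { carrier := {x | (8 : ℤ) ∣ qv c x}
      zero_mem' := by simp [qv]
      add_mem' := fun {a b} ha hb => by
        show (8 : ℤ) ∣ qv c (a + b)
        rw [qv_add]; exact dvd_add ha hb
      neg_mem' := fun {a} ha => by
        show (8 : ℤ) ∣ qv c (-a)
        simp only [qv, Pi.neg_apply, mul_neg, Finset.sum_neg_distrib]
        exact ha.neg_right }
  have hg : ∀ g ∈ genLists, vOf g ∈ A := fun g hg => Int.dvd_of_emod_eq_zero (qv_gens g hg c hc)
  refine mem_of_gens A (fun i => ?_) ?_ (fun r hr => ?_) ?_ hx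
  · obtain ⟨g, h1, h2⟩ := genLists_spec.2.1 i
    exact h2 ▸ hg g h1
  · obtain ⟨g, h1, h2⟩ := genLists_spec.2.2.1
    exact h2 ▸ hg g h1
  · obtain ⟨g, h1, h2⟩ := genLists_spec.2.2.2.2 r hr
    exact h2 ▸ hg g h1
  · obtain ⟨g, h1, h2⟩ := genLists_spec.2.2.2.1
    exact h2 ▸ hg g h1

theorem expand (x : GolayPt → ℤ) : (8 : ℤ) • x = ∑ c ∈ Finset.range 24, qv c x • basV c := by
  funext k
  rw [Pi.smul_apply, Finset.sum_apply, smul_eq_mul]
  simp only [Pi.smul_apply, smul_eq_mul, qv, Finset.sum_mul]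
  rw [Finset.sum_comm]
  have h : ∀ j, ∑ c ∈ Finset.range 24, invE c (idx j) * x j * basV c k =
      x j * if j = k then 8 else 0 := fun j => by
    rw [← bas_check.2 j k, Finset.mul_sum]
    exact Finset.sum_congr rfl fun c _ => by ring
  rw [Finset.sum_congr rfl fun j _ => h j]
  simp [mul_ite, mul_comm]

/-- The class of a lattice vector, as 24 bits. -/
def clv (x : GolayPt → ℤ) : ℕ := Nat.ofBits fun c : Fin 24 => decide (qv c x / 8 % 2 = 1)

theorem clv_lt (x : GolayPt → ℤ) : clv x < 2 ^ 24 := Nat.ofBits_lt_two_pow _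

theorem testBit_clv (x : GolayPt → ℤ) {c : ℕ} (hc : c < 24) :
    (clv x).testBit c = decide (qv c x / 8 % 2 = 1) := Nat.testBit_ofBits_lt _ c hc

theorem eq_of_bits {a b : ℕ} (ha : a < 2 ^ 24) (hb : b < 2 ^ 24)
    (h : ∀ c < 24, a.testBit c = b.testBit c) : a = b := by
  refine Nat.eq_of_testBit_eq fun i => ?_
  by_cases hi : i < 24
  · exact h i hi
  · have h2 : 2 ^ 24 ≤ 2 ^ i := Nat.pow_le_pow_right (by norm_num) (not_lt.1 hi)
    rw [Nat.testBit_lt_two_pow (ha.trans_le h2), Nat.testBit_lt_two_pow (hb.trans_le h2)]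

theorem clv_add {x y : GolayPt → ℤ} (hx : x ∈ leechLattice) (hy : y ∈ leechLattice) :
    clv (x + y) = clv x ^^^ clv y := by
  refine eq_of_bits (clv_lt _) (Nat.xor_lt_two_pow (clv_lt _) (clv_lt _)) fun c hc => ?_
  rw [Nat.testBit_xor, testBit_clv _ hc, testBit_clv _ hc, testBit_clv _ hc, qv_add]
  obtain ⟨a, ha⟩ := qv_dvd hx hc
  obtain ⟨b, hb⟩ := qv_dvd hy hc
  rw [ha, hb, ← mul_add, Int.mul_ediv_cancel_left _ (by norm_num), Int.mul_ediv_cancel_left _ (by norm_num),
    Int.mul_ediv_cancel_left _ (by norm_num)]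
  by_cases h1 : a % 2 = 1 <;> by_cases h2 : b % 2 = 1 <;> simp [h1, h2] <;> omega

theorem congr_of_clv_eq {x y : GolayPt → ℤ} (hx : x ∈ leechLattice) (hy : y ∈ leechLattice)
    (h : clv x = clv y) : Congr x y := by
  refine ⟨∑ c ∈ Finset.range 24, ((qv c x - qv c y) / 16) • basV c,
    leechLattice.sum_mem fun c hc => leechLattice.zsmul_mem (basV_mem (Finset.mem_range.1 hc)) _, ?_⟩
  have e : (8 : ℤ) • (x - y) = (8 : ℤ) •
      (2 • ∑ c ∈ Finset.range 24, ((qv c x - qv c y) / 16) • basV c) := by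
    rw [smul_sub, expand, expand, ← Finset.sum_sub_distrib, ← natCast_zsmul, smul_smul, Finset.smul_sum]
    refine Finset.sum_congr rfl fun c hc => ?_
    rw [← sub_smul, smul_smul]
    congr 1
    obtain ⟨a, ha⟩ := qv_dvd hx (Finset.mem_range.1 hc)
    obtain ⟨b, hb⟩ := qv_dvd hy (Finset.mem_range.1 hc)
    have := congrArg (fun n => n.testBit c) h
    simp only [testBit_clv _ (Finset.mem_range.1 hc), decide_eq_decide, ha, hb] at this
    push_cast
    omega
  funext k
  have := congrFun e k
  simp only [Pi.smul_apply, smul_eq_mul] at this ⊢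
  omega

theorem clv_eq_of_congr {x y : GolayPt → ℤ} (hy : y ∈ leechLattice) (h : Congr x y) : clv x = clv y := by
  obtain ⟨z, hz, he⟩ := h
  rw [show x = y + (z + z) by rw [← two_nsmul, ← he]; abel, clv_add hy (leechLattice.add_mem hz hz),
    clv_add hz hz, Nat.xor_self, Nat.xor_zero]

theorem clv_neg {x : GolayPt → ℤ} (hx : x ∈ leechLattice) : clv (-x) = clv x :=
  (clv_eq_of_congr (leechLattice.neg_mem hx) (congr_neg hx)).symm

theorem clv_basV : ∀ c < 24, clv (basV c) = 2 ^ c := by decide +kernel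

theorem clv_zero : clv 0 = 0 := by
  have h := clv_add leechLattice.zero_mem leechLattice.zero_mem
  rw [add_zero, Nat.xor_self] at h
  exact h

/-! ### Matrices -/

/-- The matrix rows of an element of Co0. -/
def mat0 (g : Co0) : List ℕ :=
  (List.range 24).map fun c =>
    if h : c < 24 then clv ((g • (⟨basV c, basV_mem h⟩ : leechLattice) : leechLattice) : GolayPt → ℤ) else 0

theorem getD_mat0 (g : Co0) {c : ℕ} (h : c < 24) :
    (mat0 g).getD c 0 = clv ((g • (⟨basV c, basV_mem h⟩ : leechLattice) : leechLattice) : GolayPt → ℤ) := by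
  rw [List.getD_eq_getElem _ _ (by simpa [mat0] using h)]
  simp [mat0, h]

theorem encAux_two_pow : ∀ (gs : List ℕ) (c : ℕ), encAux gs (2 ^ c) = gs.getD c 0
  | [], c => by simp [encAux]
  | g :: gs, 0 => by simp [encAux, Golay.encAux_zero]
  | g :: gs, c + 1 => by
    rw [encAux, pow_succ, Nat.mul_mod_left, if_neg (by norm_num), Nat.zero_xor,
      Nat.mul_div_cancel _ (by norm_num), encAux_two_pow gs c, List.getD_cons_succ]

theorem app_mat0 (g : Co0) (v : leechLattice) :
    clv ((g • v : leechLattice) : GolayPt → ℤ) = encAux (mat0 g) (clv v) := by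
  let A : AddSubgroup leechLattice :=
    { carrier := {v | clv ((g • v : leechLattice) : GolayPt → ℤ) = encAux (mat0 g) (clv v)}
      zero_mem' := by
        show _ = _
        rw [smul_vzero, ZeroMemClass.coe_zero, clv_zero, Golay.encAux_zero]
      add_mem' := fun {a b} ha hb => by
        show _ = _
        rw [smul_vadd, AddSubgroup.coe_add, AddSubgroup.coe_add, clv_add (g • a).2 (g • b).2,
          clv_add a.2 b.2, Golay.encAux_xor, ha, hb]
      neg_mem' := fun {a} ha => by
        show _ = _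
        rw [smul_vneg, AddSubgroup.coe_neg, AddSubgroup.coe_neg, clv_neg (g • a).2, clv_neg a.2, ha] }
  suffices h : v ∈ A from h
  have hb : ∀ c (hc : c < 24), (⟨basV c, basV_mem hc⟩ : leechLattice) ∈ A := fun c hc => by
    show _ = _
    rw [clv_basV c hc, encAux_two_pow, getD_mat0 g hc]
  have hv : v = ∑ c ∈ (Finset.range 24).attach, (qv c.1 (v : GolayPt → ℤ) / 8) •
      (⟨basV c.1, basV_mem (Finset.mem_range.1 c.2)⟩ : leechLattice) := by
    refine Subtype.ext ?_
    rw [AddSubgroup.val_finsetSum]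
    simp only [AddSubgroup.coe_zsmul]
    rw [Finset.sum_attach (Finset.range 24) (fun c => (qv c (v : GolayPt → ℤ) / 8) • basV c)]
    have h8 : (8 : ℤ) • (v : GolayPt → ℤ) = (8 : ℤ) •
        ∑ c ∈ Finset.range 24, (qv c (v : GolayPt → ℤ) / 8) • basV c := by
      rw [expand, Finset.smul_sum]
      refine Finset.sum_congr rfl fun c hc => ?_
      rw [smul_smul, Int.mul_ediv_cancel' (qv_dvd v.2 (Finset.mem_range.1 hc))]
    funext k
    have := congrFun h8 k
    simpa using this
  rw [hv]
  exact A.sum_mem fun c _ => A.zsmul_mem (hb c.1 (Finset.mem_range.1 c.2)) _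

theorem mat0_negOne_mul (g : Co0) : mat0 (negOne * g) = mat0 g := by
  unfold mat0
  refine List.map_congr_left fun c _ => ?_
  split
  next h =>
    rw [mul_smul, negOne_smul, AddSubgroup.coe_neg,
      clv_neg (g • (⟨basV c, basV_mem h⟩ : leechLattice) : leechLattice).2]
  next => rfl

theorem mat0_congr {g h : Co0} (e : (QuotientGroup.mk g : Spor.Co1) = QuotientGroup.mk h) :
    mat0 g = mat0 h := by
  have h1 : (QuotientGroup.mk (g * h⁻¹) : Spor.Co1) = 1 := by
    rw [QuotientGroup.mk_mul, QuotientGroup.mk_inv, e, mul_inv_cancel]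
  rcases Co1Centralizer.mk_eq_one_iff.1 h1 with e' | e'
  · rw [mul_inv_eq_one.1 e']
  · rw [mul_inv_eq_iff_eq_mul.1 e', mat0_negOne_mul]

/-- The matrix rows of an element of Co1. -/
noncomputable def mat (x : Spor.Co1) : List ℕ := mat0 x.out

theorem mat_mk (g : Co0) : mat (QuotientGroup.mk g) = mat0 g :=
  mat0_congr (QuotientGroup.out_eq' _)

/-- The product of matrices given by rows. -/
def mmul (a b : List ℕ) : List ℕ := b.map (encAux a)

theorem mat_mul (x y : Spor.Co1) : mat (x * y) = mmul (mat x) (mat y) := by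
  obtain ⟨g, rfl⟩ := QuotientGroup.mk_surjective x
  obtain ⟨h, rfl⟩ := QuotientGroup.mk_surjective y
  rw [← QuotientGroup.mk_mul, mat_mk, mat_mk, mat_mk, mmul]
  conv_rhs => rw [show mat0 h = (List.range 24).map fun c =>
    if hc : c < 24 then clv ((h • (⟨basV c, basV_mem hc⟩ : leechLattice) : leechLattice) : GolayPt → ℤ)
    else 0 from rfl, List.map_map]
  refine List.map_congr_left fun c hc => ?_
  simp only [Function.comp_apply, List.mem_range.1 hc, dif_pos, mul_smul]
  exact app_mat0 g _

theorem mat_inj {x y : Spor.Co1} (e : mat x = mat y) : x = y := by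
  obtain ⟨g, rfl⟩ := QuotientGroup.mk_surjective x
  obtain ⟨h, rfl⟩ := QuotientGroup.mk_surjective y
  rw [mat_mk, mat_mk] at e
  rw [QuotientGroup.eq, Subgroup.mem_center_iff]
  intro k
  rcases eq_one_or_negOne_of_congr (g := g⁻¹ * h) fun v => by
      have h1 : Congr ((g • v : leechLattice) : GolayPt → ℤ) ((h • v : leechLattice) : GolayPt → ℤ) :=
        congr_of_clv_eq (g • v).2 (h • v).2 (by rw [app_mat0, app_mat0, e])
      have h2 := congr_symm (congr_smul g⁻¹ h1)
      rwa [inv_smul_smul, ← mul_smul] at h2 with h1 | h1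
  · rw [h1, mul_one, one_mul]
  · rw [h1]; exact Subgroup.mem_center_iff.1 negOne_mem_center k

theorem mat_one : mat (1 : Spor.Co1) = (List.range 24).map (2 ^ ·) := by
  rw [← QuotientGroup.mk_one, mat_mk, mat0]
  refine List.map_congr_left fun c hc => ?_
  rw [dif_pos (List.mem_range.1 hc), one_smul]
  exact clv_basV c (List.mem_range.1 hc)

/-! ### Evaluation on generators -/

/-- The class computed from a list of entries. -/
def clL (l : List ℤ) : ℕ := Nat.ofBits fun c : Fin 24 =>
  decide (((List.range 24).map fun k => invE c k * l.getD k 0).sum / 8 % 2 = 1)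

theorem clL_eq {x : GolayPt → ℤ} {l : List ℤ} (h : ∀ k < 24, l.getD k 0 = x (pt k)) :
    clL l = clv x := by
  have hsum : ∀ (n : ℕ) (f : ℕ → ℤ), ((List.range n).map f).sum = ∑ k ∈ Finset.range n, f k := by
    intro n f
    induction n with
    | zero => rfl
    | succ n ih => rw [List.range_succ, List.map_append, List.sum_append, ih, Finset.sum_range_succ]; simp
  have hq : ∀ c : ℕ, qv c x = ∑ k ∈ Finset.range 24, invE c k * x (pt k) := fun c => by
    rw [← sum_idx (fun k => invE c k * x (pt k))]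
    exact Finset.sum_congr rfl fun i _ => by rw [Golay.pt_idx]
  refine congrArg Nat.ofBits (funext fun c => ?_)
  rw [hsum, hq, Finset.sum_congr rfl fun k hk => by rw [h k (Finset.mem_range.1 hk)]]

/-- The signed permuted list, by the sources. -/
def monoL (d' m : ℕ) (x : List ℤ) : List ℤ :=
  (List.range 24).map fun i => bif m.testBit i then -(x.getD (fn d' i) 0) else x.getD (fn d' i) 0

/-- The matrix rows of a code, given with the inverse permutation. -/
def monoRows (d' m : ℕ) : List ℕ := (List.range 24).map fun c => clL (monoL d' m (basL.getD c []))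

/-- The inverse test. -/
def isInv (d d' : ℕ) : Bool :=
  (List.range 24).all fun i => fn d (fn d' i) == i && Nat.blt (fn d' i) 24

theorem mat_el {c : ℕ × ℕ} (h : V c) {d' : ℕ} (hi : isInv c.2 d' = true) :
    mat (el c : Spor.Co1) = monoRows d' c.1 := by
  simp only [isInv, List.all_eq_true, List.mem_range, Bool.and_eq_true, beq_iff_eq, Nat.blt_eq] at hi
  rw [el_coe, mat_mk, mat0, monoRows]
  refine List.map_congr_left fun j hj => ?_
  rw [dif_pos (List.mem_range.1 hj)]
  refine (clL_eq fun k hk => ?_).symm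
  rw [monoL, List.getD_eq_getElem _ _ (by simpa using hk), List.getElem_map, List.getElem_range, vec_el0 h]
  have hs : (Golay.toPerm c.2).symm (pt k) = pt (fn d' k) := by
    rw [Equiv.symm_apply_eq, Golay.toPerm_pt h.2.2.1 (hi k hk).2, (hi k hk).1]
  simp only [signedPerm, hs, Golay.mem_pts, Golay.idx_pt hk]
  have hx : basV j (pt (fn d' k)) = (basL.getD j []).getD (fn d' k) 0 := by
    rw [basV, vOf, Golay.idx_pt (hi k hk).2]
  cases c.1.testBit k <;> simp [hx]

/-- The matrix rows of the sextet element. -/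
def xiRows : List ℕ :=
  (List.range 24).map fun c =>
    clL ((List.range 24).map fun k => Co2Centralizer.xiFun (basV c) (pt k))

theorem mat_xi : mat xiT = xiRows := by
  rw [xiT, mat_mk, mat0, xiRows]
  refine List.map_congr_left fun c hc => ?_
  rw [dif_pos (List.mem_range.1 hc)]
  refine (clL_eq fun k hk => ?_).symm
  rw [List.getD_eq_getElem _ _ (by simpa using hk), List.getElem_map, List.getElem_range,
    Co2Centralizer.vec_xiEl]

/-! ### Frames -/

/-- The standard frame. -/
def F0 : ℕ := 8388608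

theorem clv_eight : clv (eightVec none : GolayPt → ℤ) = F0 := by
  show clv (Pi.single none 8) = F0
  decide +kernel

/-- The frame of an element. -/
noncomputable def fr (x : Spor.Co1) : ℕ := encAux (mat x) F0

theorem fr_mul (x y : Spor.Co1) : fr (x * y) = encAux (mat x) (fr y) := by
  obtain ⟨g, rfl⟩ := QuotientGroup.mk_surjective x
  obtain ⟨h, rfl⟩ := QuotientGroup.mk_surjective y
  simp only [fr, ← QuotientGroup.mk_mul, mat_mk, ← clv_eight, ← app_mat0, mul_smul]

theorem fr_eq_F0_iff {x : Spor.Co1} : fr x = F0 ↔ x ∈ N0 := by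
  obtain ⟨g, rfl⟩ := QuotientGroup.mk_surjective x
  rw [fr, mat_mk, ← clv_eight, ← app_mat0]
  constructor
  · intro h
    refine ⟨g, ?_, rfl⟩
    exact (mem_stdCross_iff_congr none).2 ⟨by rw [sqNorm_smul, sqNorm_eightVec],
      congr_of_clv_eq (g • eightVec none).2 (eightVec none).2 h⟩
  · rintro ⟨g', hg', e⟩
    have hg'' : clv ((g' • eightVec none : leechLattice) : GolayPt → ℤ) = clv (eightVec none : GolayPt → ℤ) :=
      clv_eq_of_congr (eightVec none).2 ((mem_stdCross_iff_congr none).1 hg').2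
    rw [app_mat0] at hg'' ⊢
    rwa [mat0_congr (show (QuotientGroup.mk g' : Spor.Co1) = QuotientGroup.mk g from e)] at hg''

theorem fr_eq_iff {x y : Spor.Co1} : fr x = fr y ↔ x⁻¹ * y ∈ N0 := by
  rw [← fr_eq_F0_iff]
  constructor
  · intro h
    rw [fr_mul, ← h, ← fr_mul, inv_mul_cancel, fr, mat_one]
    decide +kernel
  · intro h
    have h2 := fr_mul x (x⁻¹ * y)
    rw [mul_inv_cancel_left, h] at h2
    exact h2.symm

end Cfsg.Agent.CoOneUniq
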