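/-
A derivation checker for relations between the monomial subgroup of Co1 and the sextet element.

* `Amal` : a group with a homomorphism from `MonT` and an element satisfying the relations of Co1
* `R` : the six double coset words;  `Item`, `Just`, `run`, `holds_of_run` : the derivations
-/
import Cfsg.Agent.Lib.CoOneUniq.Codes
import Cfsg.Agent.Lib.Golay.Generators

set_option autoImplicit false
open Cfsg
open Cfsg.Agent.Golay (fn imgMask validPerm toPerm isAut idx pt pts)

namespace Cfsg.Agent.CoOneUniq

/-- A group containing images of the monomial subgroup and of the sextet element which satisfy the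
relations of the intersection with the conjugate and those of the centralizer of the octad involution. -/
structure Amal (W : Type*) [Group W] where
  ι : MonT →* W
  x : W
  x_sq : x * x = 1
  conj : ∀ l l' : MonT, xiT * (l : Spor.Co1) * xiT = l' → x * ι l * x = ι l'
  seed : ∀ p a b : MonT, (p : Spor.Co1) ∈ Co1Centralizer.cz1 → (a : Spor.Co1) ∈ Co1Centralizer.cz1 →
    (b : Spor.Co1) ∈ Co1Centralizer.cz1 → xiT * (p : Spor.Co1) * xiT = a * xiT * b →
    x * ι p * x = ι a * x * ι b

/-- The code of the identity. -/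
def idC : ℕ × ℕ := (0, Golay.idCode)

theorem V_idC : V idC := V_of_isV (by decide +kernel)

theorem el_idC : el idC = 1 := by
  refine Subtype.ext ?_
  rw [el_coe, OneMemClass.coe_one]
  refine Co1Centralizer.mk_eq_one_iff.2 (Or.inl ?_)
  refine Leech.co0_ext fun v => Subtype.ext ?_
  rw [vec_el0 V_idC, one_smul]
  funext i
  simp only [idC, signedPerm, Golay.toPerm_idCode.2, Golay.pts_zero, Finset.notMem_empty,
    if_false, Equiv.Perm.one_def, Equiv.refl_symm, Equiv.refl_apply]

namespace Amal

variable {W : Type*} [Group W] (D : Amal W)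

/-- The image of a code. -/
noncomputable def e (c : ℕ × ℕ) : W := D.ι (el c)

theorem e_mul {a b c : ℕ × ℕ} (ha : V a) (hb : V b) (h : isMul a b c = true) :
    D.e a * D.e b = D.e c := by
  rw [e, e, ← map_mul, (el_mul ha hb h).2]; rfl

theorem e_id : D.e idC = 1 := by rw [e, el_idC, map_one]

theorem e_conj {a b : ℕ × ℕ} (ha : V a) (hb : V b) (h : isConj a b = true) :
    D.x * D.e a = D.e b * D.x := by
  have h' : D.x * D.e a * D.x = D.e b := D.conj _ _ (conj_el ha hb h)
  rw [← h', mul_assoc, D.x_sq, mul_one]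

/-- The double coset words over the tree data. -/
noncomputable def R (c : ℕ → ℕ × ℕ) : ℕ → W
  | 0 => 1
  | 1 => D.x
  | 2 => D.x * D.e (c 2) * D.x
  | 3 => D.x * D.e (c 3) * D.x
  | 4 => D.x * D.e (c 2) * D.x * D.e (c 4) * D.x
  | 5 => D.x * D.e (c 3) * D.x * D.e (c 5) * D.x
  | _ => 1

end Amal

/-- The derived relations. -/
inductive Item
  | fact (i : ℕ) (m A : ℕ × ℕ) (j : ℕ) (B : ℕ × ℕ)
  | stab (i : ℕ) (t s : ℕ × ℕ)
  | tri (p a b : ℕ × ℕ)

/-- Their meaning. -/
def Item.Holds {W : Type*} [Group W] (D : Amal W) (c : ℕ → ℕ × ℕ) : Item → Prop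
  | .fact i m A j B => V m ∧ V A ∧ V B ∧ D.R c i * D.e m * D.x = D.e A * D.R c j * D.e B
  | .stab i t s => V t ∧ V s ∧ D.R c i * D.e t = D.e s * D.R c i
  | .tri p a b => V p ∧ V a ∧ V b ∧ D.x * D.e p * D.x = D.e a * D.x * D.e b

/-- The justifications. -/
inductive Just
  | sid
  | sL
  | seed
  | tdef
  | back (f : ℕ)
  | stab (h f : ℕ)
  | lmul (f : ℕ) (l l' : ℕ × ℕ)
  | tri (f r g : ℕ)
  | tri2 (f r g : ℕ)
  | mk (f g : ℕ)
  | sinv (h : ℕ)
  | trans (r : ℕ) (l1 l2 l1' l2' u v : ℕ × ℕ)
  | first (r : ℕ)

/-- The tree edges. -/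
def isTree (c : ℕ → ℕ × ℕ) (i : ℕ) (m : ℕ × ℕ) (j : ℕ) : Bool :=
  (i == 0 && j == 1 && m == idC) || (i == 1 && j == 2 && m == c 2) ||
    (i == 1 && j == 3 && m == c 3) || (i == 2 && j == 4 && m == c 4) ||
    (i == 3 && j == 5 && m == c 5)

/-- The seed equation in Co1, up to the sign `s`. -/
def seedEq (p a b : ℕ × ℕ) (s : ℤ) : Bool :=
  decide (∀ i k : GolayPt,
    ∑ l : GolayPt, sv (rImg p (idx i)).1 (rImg p (idx i)).2 l * sv (tT (idx l)) (tN (idx l)) k =
      8 * (s * sv (imgMask a.2 (lImg b (idx i)).1) (imgMask a.2 (lImg b (idx i)).2 ^^^ a.1) k))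

/-- The default item. -/
def Item.dflt : Item := .stab 0 idC idC

/-- One step, over the earlier items. -/
def okStep (c : ℕ → ℕ × ℕ) (E : List Item) : Just → Item → Bool
  | .sid, .stab i t s => i == 0 && isV t && t == s
  | .sL, .stab i t s => i == 1 && isV t && isV s && isConj t s
  | .seed, .tri p a b => isV p && isV a && isV b && imgMask p.2 Golay.octad0 == Golay.octad0 &&
      imgMask a.2 Golay.octad0 == Golay.octad0 && imgMask b.2 Golay.octad0 == Golay.octad0 &&
      (seedEq p a b 1 || seedEq p a b (-1))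
  | .tdef, .fact i m A j B => isV m && A == idC && B == idC && isTree c i m j
  | .back f, .fact i m A j B =>
    match E.getD f Item.dflt with
    | .fact i' m' A' j' B' => isV A && i == j' && m == B' && j == i' && B == m' && isMul A' A idC
    | _ => false
  | .stab h f, .fact i m A j B =>
    match E.getD h Item.dflt, E.getD f Item.dflt with
    | .stab i1 t s, .fact i2 m' A' j' B' =>
      i1 == i && i2 == i && j' == j && B' == B && isMul t m' m && isMul s A' A
    | _, _ => false
  | .lmul f l l', .fact i m A j B =>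
    match E.getD f Item.dflt with
    | .fact i' m' A' j' B' => isV l && isV l' && isConj l l' && i' == i && j' == j && A' == A &&
      isMul m' l m && isMul B' l' B
    | _ => false
  | .tri f r g, .fact i m A j B =>
    match E.getD f Item.dflt, E.getD r Item.dflt, E.getD g Item.dflt with
    | .fact i1 m1 A1 k1 B1, .tri p a b, .fact k2 m2 A3 j3 B3 =>
      i1 == i && k1 == k2 && j3 == j && isV B && isMul B1 p m2 && isMul m1 a m &&
        isMul A1 A3 A && isMul B b B3
    | _, _, _ => false
  | .tri2 f r g, .fact i m A j B =>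
    match E.getD f Item.dflt, E.getD r Item.dflt, E.getD g Item.dflt with
    | .fact i1 m1 A1 k1 B1, .tri p a b, .fact i2 m2 A2 j2 B2 =>
      k1 == i && i1 == i2 && j2 == j && isV A && isMul m1 a m2 && isMul B1 p m &&
        isMul A1 A A2 && isMul B2 b B
    | _, _, _ => false
  | .mk f g, .stab i t s =>
    match E.getD f Item.dflt, E.getD g Item.dflt with
    | .fact i1 m1 A1 j1 B1, .fact i2 m2 A2 j2 B2 =>
      i1 == i2 && m1 == m2 && j1 == i && j2 == i && isV t && isV s && isMul t B1 B2 &&
        isMul A2 s A1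
    | _, _ => false
  | .sinv h, .stab i t s =>
    match E.getD h Item.dflt with
    | .stab i' t' s' => i' == i && isV t && isV s && isMul t' t idC && isMul s' s idC
    | _ => false
  | .trans r l1 l2 l1' l2' u v, .tri p a b =>
    match E.getD r Item.dflt with
    | .tri p0 a0 b0 => isV l1 && isV l2 && isV l1' && isV l2' && isConj l1 l1' && isConj l2 l2' &&
      isMul l1 p0 u && isMul u l2 p && isMul l1' a0 a && isMul b0 l2' b && v == idC
    | _ => false
  | .first r, .fact i m A j B =>
    match E.getD r Item.dflt with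
    | .tri p a b => i == 1 && j == 1 && m == p && A == a && B == b
    | _ => false
  | _, _ => false

/-- The checker. -/
def run (c : ℕ → ℕ × ℕ) : List Item → List (Just × Item) → Bool
  | _, [] => true
  | E, (j, v) :: rest => okStep c E j v && run c (E ++ [v]) rest

end Cfsg.Agent.CoOneUniq
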