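/-
Soundness of the derivation checker.

* `seed_el` : the seed equation;  `okStep_sound`, `holds_of_run`
-/
import Cfsg.Agent.Lib.CoOneUniq.Checker

set_option autoImplicit false
open Cfsg
open Cfsg.Agent.Leech
open Cfsg.Agent.Golay (fn imgMask validPerm toPerm isAut idx pt pts)

namespace Cfsg.Agent.CoOneUniq

theorem seedEq_spec {p a b : ℕ × ℕ} (hp : V p) (ha : V a) (hb : V b) {s : ℤ}
    (h : seedEq p a b s = true) (q : GolayPt) (k : GolayPt) :
    ((Co2Centralizer.xiEl • (el0 p * Co2Centralizer.xiEl) • eightVec q : leechLattice) :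
      GolayPt → ℤ) k =
      s * ((el0 a • (Co2Centralizer.xiEl * el0 b) • eightVec q : leechLattice) : GolayPt → ℤ) k := by
  have h1 := (of_decide_eq_true h) q k
  have h2 : ∀ v : leechLattice,
      8 * ((Co2Centralizer.xiEl • v : leechLattice) : GolayPt → ℤ) k =
        ∑ l : GolayPt, (v : GolayPt → ℤ) l * sv (tT (idx l)) (tN (idx l)) k := by
    intro v
    have e : (8 : ℤ) • (Co2Centralizer.xiEl • v) =
        ∑ l, (v : GolayPt → ℤ) l • (Co2Centralizer.xiEl • eightVec l) := by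
      rw [← smul_zsmul, eight_smul_eq_sum, ← addHom_apply, map_sum]
      exact Finset.sum_congr rfl fun l _ => by rw [addHom_apply, smul_zsmul]
    have e' := congrFun (congrArg Subtype.val e) k
    rw [AddSubgroup.val_finsetSum, Finset.sum_apply] at e'
    simpa only [AddSubgroup.coe_zsmul, Pi.smul_apply, smul_eq_mul, xiEl_eight] using e'
  have h3 := h2 ((el0 p * Co2Centralizer.xiEl) • eightVec q)
  rw [vec_rImg hp, h1] at h3
  rw [vec_el0 ha, vec_lImg hb, signedPerm_sv ha.2.2.1]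
  omega

theorem seed_el {p a b : ℕ × ℕ} (hp : V p) (ha : V a) (hb : V b)
    (h : (seedEq p a b 1 || seedEq p a b (-1)) = true) :
    xiT * (el p : Spor.Co1) * xiT = el a * xiT * el b := by
  rw [xiT, el_coe, el_coe, el_coe]
  simp only [← QuotientGroup.mk_mul]
  rcases Bool.or_eq_true _ _ |>.mp h with h | h
  · refine congrArg _ (ext_frame fun q => Subtype.ext (funext fun k => ?_))
    have h' := seedEq_spec hp ha hb h q k
    rw [one_mul] at h'
    simpa only [mul_assoc, mul_smul] using h'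
  · rw [← mk_negOne_mul (el0 a * Co2Centralizer.xiEl * el0 b)]
    refine congrArg _ (ext_frame fun q => Subtype.ext (funext fun k => ?_))
    have h' := seedEq_spec hp ha hb h q k
    rw [neg_one_mul] at h'
    rw [mul_smul negOne, vec_negOne, Pi.neg_apply]
    simpa only [mul_assoc, mul_smul] using h'

variable {W : Type*} [Group W] {D : Amal W} {c : ℕ → ℕ × ℕ}

theorem dflt_holds : Item.dflt.Holds D c :=
  ⟨V_idC, V_idC, by simp only [Amal.R, one_mul, mul_one]⟩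

theorem getD_holds {E : List Item} (hE : ∀ e ∈ E, e.Holds D c) (n : ℕ) :
    (E.getD n Item.dflt).Holds D c := by
  by_cases hn : n < E.length
  · rw [List.getD_eq_getElem _ _ hn]
    exact hE _ (List.getElem_mem hn)
  · rw [List.getD_eq_default _ _ (by omega)]
    exact dflt_holds

theorem okStep_sound (hc : ∀ k, V (c k)) {E : List Item} (hE : ∀ e ∈ E, e.Holds D c) {j : Just}
    {v : Item} (h : okStep c E j v = true) : v.Holds D c := by
  have get := getD_holds hE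
  cases j <;> cases v <;>
    simp only [okStep, Bool.false_eq_true, Bool.and_eq_true, beq_iff_eq] at h
  case sid.stab i t s =>
    obtain ⟨⟨rfl, hV⟩, rfl⟩ := h
    exact ⟨V_of_isV hV, V_of_isV hV, by simp only [Amal.R, one_mul, mul_one]⟩
  case sL.stab i t s =>
    obtain ⟨⟨⟨rfl, ht⟩, hs⟩, hc'⟩ := h
    exact ⟨V_of_isV ht, V_of_isV hs, D.e_conj (V_of_isV ht) (V_of_isV hs) hc'⟩
  case seed.tri p a b =>
    obtain ⟨⟨⟨⟨⟨⟨h1, h2⟩, h3⟩, h4⟩, h5⟩, h6⟩, h7⟩ := h
    have hp := V_of_isV h1; have ha := V_of_isV h2; have hb := V_of_isV h3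
    exact ⟨hp, ha, hb, D.seed _ _ _ (el_mem_cz1 hp h4) (el_mem_cz1 ha h5) (el_mem_cz1 hb h6)
      (seed_el hp ha hb h7)⟩
  case tdef.fact i m A j B =>
    obtain ⟨⟨⟨hm, rfl⟩, rfl⟩, ht⟩ := h
    refine ⟨V_of_isV hm, V_idC, V_idC, ?_⟩
    simp only [isTree, Bool.or_eq_true, Bool.and_eq_true, beq_iff_eq] at ht
    simp only [D.e_id, one_mul, mul_one]
    rcases ht with (((⟨⟨rfl, rfl⟩, rfl⟩ | ⟨⟨rfl, rfl⟩, rfl⟩) | ⟨⟨rfl, rfl⟩, rfl⟩) |
      ⟨⟨rfl, rfl⟩, rfl⟩) | ⟨⟨rfl, rfl⟩, rfl⟩ <;>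
      simp only [Amal.R, D.e_id, one_mul, mul_one]
  case back.fact f i m A j B =>
    have g := get f
    revert h g; cases E.getD f Item.dflt <;>
      simp only [Bool.false_eq_true, Bool.and_eq_true, beq_iff_eq, false_implies, implies_true]
    rename_i i' m' A' j' B'
    rintro ⟨⟨⟨⟨⟨hA, rfl⟩, rfl⟩, rfl⟩, rfl⟩, hm⟩ ⟨gm, gA, gB, ge⟩
    refine ⟨gB, V_of_isV hA, gm, ?_⟩
    have he : D.e A' * D.e A = 1 := by rw [D.e_mul gA (V_of_isV hA) hm, D.e_id]
    calc D.R c i * D.e m * D.x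
        = D.e A * (D.e A' * D.R c i * D.e m) * D.x := by
          rw [show D.e A * (D.e A' * D.R c i * D.e m) = (D.e A * D.e A') * D.R c i * D.e m by
            group, mul_eq_one_comm.1 he, one_mul]
      _ = D.e A * (D.R c j * D.e B) * (D.x * D.x) := by rw [← ge]; group
      _ = D.e A * D.R c j * D.e B := by rw [D.x_sq, mul_one, mul_assoc]
  case stab.fact hh f i m A j B =>
    have g1 := get hh; have g2 := get f
    revert h g1 g2; cases E.getD hh Item.dflt <;> cases E.getD f Item.dflt <;>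
      simp only [Bool.false_eq_true, Bool.and_eq_true, beq_iff_eq, false_implies, implies_true]
    rename_i i1 t s i2 m' A' j' B'
    rintro ⟨⟨⟨⟨⟨rfl, rfl⟩, rfl⟩, rfl⟩, hm⟩, hA⟩ ⟨gt, gs, g⟩ ⟨gm, gA, gB, ge⟩
    refine ⟨(el_mul gt gm hm).1, (el_mul gs gA hA).1, gB, ?_⟩
    rw [← D.e_mul gt gm hm, ← D.e_mul gs gA hA]
    calc D.R c i2 * (D.e t * D.e m') * D.x = (D.R c i2 * D.e t) * D.e m' * D.x := by group
      _ = D.e s * (D.R c i2 * D.e m' * D.x) := by rw [g]; group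
      _ = D.e s * D.e A' * D.R c j' * D.e B' := by rw [ge]; group
  case lmul.fact f l l' i m A j B =>
    have g := get f
    revert h g; cases E.getD f Item.dflt <;>
      simp only [Bool.false_eq_true, Bool.and_eq_true, beq_iff_eq, false_implies, implies_true]
    rename_i i' m' A' j' B'
    rintro ⟨⟨⟨⟨⟨⟨⟨hl, hl'⟩, hc'⟩, rfl⟩, rfl⟩, rfl⟩, hm⟩, hB⟩ ⟨gm, gA, gB, ge⟩
    have hl := V_of_isV hl; have hl' := V_of_isV hl'
    refine ⟨(el_mul gm hl hm).1, gA, (el_mul gB hl' hB).1, ?_⟩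
    rw [← D.e_mul gm hl hm, ← D.e_mul gB hl' hB]
    have h' : D.e l * D.x = D.x * D.e l' := by
      have e1 := D.e_conj hl hl' hc'
      calc D.e l * D.x = D.x * (D.x * D.e l) * D.x := by
            rw [← mul_assoc D.x D.x, D.x_sq, one_mul]
        _ = D.x * D.e l' * (D.x * D.x) := by rw [e1]; group
        _ = D.x * D.e l' := by rw [D.x_sq, mul_one]
    calc D.R c i' * (D.e m' * D.e l) * D.x = D.R c i' * D.e m' * (D.e l * D.x) := by group
      _ = (D.R c i' * D.e m' * D.x) * D.e l' := by rw [h']; group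
      _ = D.e A' * D.R c j' * (D.e B' * D.e l') := by rw [ge]; group
  case tri.fact f r gg i m A j B =>
    have g1 := get f; have g2 := get r; have g3 := get gg
    revert h g1 g2 g3
    cases E.getD f Item.dflt <;> cases E.getD r Item.dflt <;> cases E.getD gg Item.dflt <;>
      simp only [Bool.false_eq_true, Bool.and_eq_true, beq_iff_eq, false_implies, implies_true]
    rename_i i1 m1 A1 k1 B1 p a b k2 m2 A3 j3 B3
    rintro ⟨⟨⟨⟨⟨⟨⟨rfl, rfl⟩, rfl⟩, hB⟩, h1⟩, h2⟩, h3⟩, h4⟩ ⟨gm1, gA1, gB1, ge1⟩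
      ⟨gp, ga, gb, gt⟩ ⟨-, gA3, -, ge3⟩
    refine ⟨(el_mul gm1 ga h2).1, (el_mul gA1 gA3 h3).1, V_of_isV hB, ?_⟩
    rw [← D.e_mul gm1 ga h2, ← D.e_mul gA1 gA3 h3]
    refine mul_right_cancel (b := D.e b) ?_
    calc D.R c i1 * (D.e m1 * D.e a) * D.x * D.e b
        = D.R c i1 * D.e m1 * (D.e a * D.x * D.e b) := by group
      _ = (D.R c i1 * D.e m1 * D.x) * D.e p * D.x := by rw [← gt]; group
      _ = D.e A1 * (D.R c k1 * (D.e B1 * D.e p) * D.x) := by rw [ge1]; group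
      _ = D.e A1 * (D.e A3 * D.R c j3 * (D.e B * D.e b)) := by
          rw [D.e_mul gB1 gp h1, D.e_mul (V_of_isV hB) gb h4, ge3]
      _ = D.e A1 * D.e A3 * D.R c j3 * D.e B * D.e b := by group
  case tri2.fact f r gg i m A j B =>
    have g1 := get f; have g2 := get r; have g3 := get gg
    revert h g1 g2 g3
    cases E.getD f Item.dflt <;> cases E.getD r Item.dflt <;> cases E.getD gg Item.dflt <;>
      simp only [Bool.false_eq_true, Bool.and_eq_true, beq_iff_eq, false_implies, implies_true]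
    rename_i i1 m1 A1 k1 B1 p a b i2 m2 A2 j2 B2
    rintro ⟨⟨⟨⟨⟨⟨⟨rfl, rfl⟩, rfl⟩, hA⟩, h1⟩, h2⟩, h3⟩, h4⟩ ⟨gm1, gA1, gB1, ge1⟩
      ⟨gp, ga, gb, gt⟩ ⟨-, -, gB2, ge2⟩
    have hA := V_of_isV hA
    refine ⟨(el_mul gB1 gp h2).1, hA, (el_mul gB2 gb h4).1, ?_⟩
    rw [← D.e_mul gB1 gp h2, ← D.e_mul gB2 gb h4]
    refine mul_left_cancel (a := D.e A1) ?_
    calc D.e A1 * (D.R c k1 * (D.e B1 * D.e p) * D.x)
        = (D.e A1 * D.R c k1 * D.e B1) * D.e p * D.x := by group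
      _ = D.R c i1 * D.e m1 * (D.x * D.e p * D.x) := by rw [← ge1]; group
      _ = D.R c i1 * (D.e m1 * D.e a) * D.x * D.e b := by rw [gt]; group
      _ = D.e A2 * D.R c j2 * D.e B2 * D.e b := by rw [D.e_mul gm1 ga h1, ge2]
      _ = D.e A1 * (D.e A * D.R c j2 * (D.e B2 * D.e b)) := by
          rw [← D.e_mul gA1 hA h3]; group
  case mk.stab f gg i t s =>
    have g1 := get f; have g2 := get gg
    revert h g1 g2; cases E.getD f Item.dflt <;> cases E.getD gg Item.dflt <;>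
      simp only [Bool.false_eq_true, Bool.and_eq_true, beq_iff_eq, false_implies, implies_true]
    rename_i i1 m1 A1 j1 B1 i2 m2 A2 j2 B2
    rintro ⟨⟨⟨⟨⟨⟨⟨rfl, rfl⟩, rfl⟩, rfl⟩, ht⟩, hs⟩, h1⟩, h2⟩ ⟨-, -, gB1, ge1⟩ ⟨-, gA2, gB2, ge2⟩
    have ht := V_of_isV ht; have hs := V_of_isV hs
    refine ⟨ht, hs, ?_⟩
    refine mul_left_cancel (a := D.e A2) (mul_right_cancel (b := D.e B1) ?_)
    calc D.e A2 * (D.R c j2 * D.e t) * D.e B1 = D.e A2 * D.R c j2 * (D.e t * D.e B1) := by group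
      _ = D.R c i1 * D.e m1 * D.x := by rw [D.e_mul ht gB1 h1, ← ge2]
      _ = D.e A1 * D.R c j2 * D.e B1 := ge1
      _ = D.e A2 * (D.e s * D.R c j2) * D.e B1 := by rw [← D.e_mul gA2 hs h2]; group
  case sinv.stab hh i t s =>
    have g := get hh
    revert h g; cases E.getD hh Item.dflt <;>
      simp only [Bool.false_eq_true, Bool.and_eq_true, beq_iff_eq, false_implies, implies_true]
    rename_i i' t' s'
    rintro ⟨⟨⟨⟨rfl, ht⟩, hs⟩, h1⟩, h2⟩ ⟨gt, gs, ge⟩
    have ht := V_of_isV ht; have hs := V_of_isV hs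
    refine ⟨ht, hs, ?_⟩
    have e1 : D.e t' * D.e t = 1 := by rw [D.e_mul gt ht h1, D.e_id]
    have e2 : D.e s' * D.e s = 1 := by rw [D.e_mul gs hs h2, D.e_id]
    rw [← eq_inv_of_mul_eq_one_right e1 |>.symm, ← eq_inv_of_mul_eq_one_right e2 |>.symm,
      mul_inv_eq_iff_eq_mul, mul_assoc, ge, inv_mul_cancel_left]
  case trans.tri r l1 l2 l1' l2' u v p a b =>
    have g := get r
    revert h g; cases E.getD r Item.dflt <;>
      simp only [Bool.false_eq_true, Bool.and_eq_true, beq_iff_eq, false_implies, implies_true]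
    rename_i p0 a0 b0
    rintro ⟨⟨⟨⟨⟨⟨⟨⟨⟨⟨h1, h2⟩, h3⟩, h4⟩, c1⟩, c2⟩, m1⟩, m2⟩, m3⟩, m4⟩, -⟩ ⟨gp, ga, gb, ge⟩
    have h1 := V_of_isV h1; have h2 := V_of_isV h2; have h3 := V_of_isV h3; have h4 := V_of_isV h4
    have hu := (el_mul h1 gp m1).1
    refine ⟨(el_mul hu h2 m2).1, (el_mul h3 ga m3).1, (el_mul gb h4 m4).1, ?_⟩
    rw [← D.e_mul hu h2 m2, ← D.e_mul h1 gp m1, ← D.e_mul h3 ga m3, ← D.e_mul gb h4 m4]
    calc D.x * (D.e l1 * D.e p0 * D.e l2) * D.x
        = (D.x * D.e l1) * D.e p0 * (D.x * D.x) * D.e l2 * D.x := by rw [D.x_sq]; group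
      _ = D.e l1' * (D.x * D.e p0 * D.x) * (D.x * D.e l2) * D.x := by
          rw [D.e_conj h1 h3 c1]; group
      _ = D.e l1' * (D.e a0 * D.x * D.e b0) * D.e l2' * (D.x * D.x) := by
          rw [D.e_conj h2 h4 c2, ge]; group
      _ = D.e l1' * D.e a0 * D.x * (D.e b0 * D.e l2') := by rw [D.x_sq]; group
  case first.fact r i m A j B =>
    have g := get r
    revert h g; cases E.getD r Item.dflt <;>
      simp only [Bool.false_eq_true, Bool.and_eq_true, beq_iff_eq, false_implies, implies_true]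
    rintro ⟨⟨⟨⟨rfl, rfl⟩, rfl⟩, rfl⟩, rfl⟩ ⟨gp, ga, gb, ge⟩
    exact ⟨gp, ga, gb, ge⟩

theorem holds_of_run (hc : ∀ k, V (c k)) : ∀ (L : List (Just × Item)) (E : List Item),
    (∀ e ∈ E, e.Holds D c) → run c E L = true → ∀ e ∈ E ++ L.map Prod.snd, e.Holds D c
  | [], E, hE, _ => by simpa using hE
  | (j, v) :: rest, E, hE, h => by
    simp only [run, Bool.and_eq_true] at h
    have hv := okStep_sound hc hE h.1
    have := holds_of_run hc rest (E ++ [v]) (fun e he => by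
      rcases List.mem_append.1 he with he | he
      · exact hE e he
      · rw [List.mem_singleton.1 he]; exact hv) h.2
    simpa using this

end Cfsg.Agent.CoOneUniq
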