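/-
The isomorphism of the monomial subgroup with the normaliser in a group of Conway type.

* `yof` : the parameter of a code set;  `exists_fN` : the homomorphism, injective, onto the normaliser
* `FN.mem_Q` : the radical corresponds to monomial elements fixing the octad pointwise
-/
import Cfsg.Agent.Lib.CoOneUniq.Model
import Cfsg.Agent.Lib.CoOneA.Orbits
import Cfsg.Agent.Lib.CoOneA.Split

set_option autoImplicit false
set_option maxRecDepth 100000
open scoped Pointwise symmDiff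

namespace Cfsg.Agent.CoOneUniq

open Cfsg Cfsg.Agent.Leech Cfsg.Agent.CoOneA
open Cfsg.Agent.Golay (word pts idx)
open Cfsg.Agent.GolayModule (indW)

theorem indW_symmDiff (c d : Finset GolayPt) : indW (c ∆ d) = indW c + indW d := by
  funext p
  by_cases h1 : p ∈ c <;> by_cases h2 : p ∈ d <;>
    simp [indW, Finset.mem_symmDiff, h1, h2, CharTwo.add_self_eq_zero]

theorem indW_smul (σ : Equiv.Perm GolayPt) (c : Finset GolayPt) : indW (σ • c) = act σ (indW c) := by
  funext p
  simp only [indW, act]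
  exact if_congr (mem_smul_iff_symm σ c p) rfl rfl

theorem indW_pts (m : ℕ) : indW (pts m) = word m := by
  funext p; simp [indW, word]

theorem indW_mem (c : CodeSet) : indW c.1 ∈ golayCode := by
  obtain ⟨w, hw, h⟩ := c.2
  rwa [← h, GolayModule.indW_support₂]

theorem indW_univ : indW (Finset.univ : Finset GolayPt) = ones 1 := by
  funext p; simp [indW, ones]

/-- The parameter of a code set. -/
noncomputable def yof (c : CodeSet) : ℕ :=
  ((Equiv.ofBijective _ phi_bij).symm ⟨indW c.1, indW_mem c⟩).1.val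

theorem yof_lt (c : CodeSet) : yof c < 2048 := Fin.is_lt _

theorem yof_spec (c : CodeSet) : ∃ b, indW c.1 = pw24 (yof c) + ones b := by
  set p := (Equiv.ofBijective _ phi_bij).symm ⟨indW c.1, indW_mem c⟩ with hp
  refine ⟨p.2, ?_⟩
  have h : phi p = ⟨indW c.1, indW_mem c⟩ := (Equiv.ofBijective _ phi_bij).apply_symm_apply _
  exact (congrArg Subtype.val h).symm

theorem yof_eq {c : CodeSet} {y : ℕ} {b : ZMod 2} (hy : y < 2048) (h : indW c.1 = pw24 y + ones b) :
    yof c = y := by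
  obtain ⟨b', h'⟩ := yof_spec c
  refine (pw24_inj (yof_lt c) hy (b := b + b') ?_).1
  rw [← ones_add, ← add_assoc, ← h, h', add_assoc, ZModModule.add_self, add_zero]

theorem yof_cadd (c d : CodeSet) : yof (cadd c d) = yof c ^^^ yof d := by
  obtain ⟨b, h⟩ := yof_spec c
  obtain ⟨b', h'⟩ := yof_spec d
  refine yof_eq (b := b + b') (Nat.xor_lt_two_pow (n := 11) (yof_lt c) (yof_lt d)) ?_
  rw [show (cadd c d).1 = c.1 ∆ d.1 from rfl, indW_symmDiff, h, h', pw24_xor, ← ones_add]
  abel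

theorem pw24_zero : pw24 0 = 0 := by
  rw [pw24, show psi 0 = 0 by decide +kernel, Golay.word_zero]

theorem yof_cuniv : yof cuniv = 0 :=
  yof_eq (b := 1) (by norm_num) (by rw [pw24_zero, zero_add]; exact indW_univ)

/-- The permutation carrying the standard octad to the octad of `z`. -/
def tauD : ℕ := 0x8957353c09258613b682321d5932f0

theorem tauD_ok : Golay.isAut tauD = true ∧ Golay.imgMask tauD Golay.octad0 = 0xc75001 := by
  decide +kernel

/-- That permutation. -/
noncomputable def tau : ↥M24 := ⟨Golay.toPerm tauD, Golay.toPerm_mem_M24 tauD_ok.1⟩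

theorem tau_oct : tau.1 • Co2Centralizer.oct = pts 0xc75001 := by
  rw [Co2Centralizer.oct, show tau.1 = Golay.toPerm tauD from rfl,
    ← Golay.pts_imgMask (Golay.validPerm_of_isAut tauD_ok.1), tauD_ok.2]

variable {G : Type*} [Group G] {F : CoType.Fr G} [Finite G]

/-- The monomial isomorphism with its compatibility with the map to M24. -/
structure FN (P : Pre F) where
  f : ↥N0 →* G
  k : ↥M24 →* G
  k_mem : ∀ σ, k σ ∈ Subgroup.normalizer (P.Asub : Set G)
  k_rel : ∀ σ, P.Rel (k σ) σ.1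
  k_of_rel : ∀ (g : G) (σ : ↥M24), g ∈ Subgroup.normalizer (P.Asub : Set G) → P.Rel g σ.1 →
    ∃ y < 2048, g = P.el y * k σ
  f_mono : ∀ σ c, f ⟨nmono σ c, nmono_mem σ c⟩ = P.el (yof (mv tau c)) * k (tau * σ * tau⁻¹)
  f_inj : Function.Injective f
  f_range : f.range = Subgroup.normalizer (P.Asub : Set G)

theorem exists_fN (P : Pre F) (hs : P.Std) : Nonempty (FN P) := by
  classical
  obtain ⟨φ, hker, hφ⟩ := Pre.exists_hom hs
  obtain ⟨K, hK⟩ := Pre.exists_compl hs
  have hsurj := Pre.surj hs φ hφ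
  have : (P.Asub.subgroupOf (Subgroup.normalizer (P.Asub : Set G))).Normal := hker ▸ φ.normal_ker
  let ψ : ↥K →* ↥M24 := φ.comp K.subtype
  have hψ : Function.Bijective ψ := by
    refine ⟨(injective_iff_map_eq_one _).2 fun x hx => ?_, fun σ => ?_⟩
    · have h1 : (x : ↥(Subgroup.normalizer (P.Asub : Set G))) ∈ P.Asub.subgroupOf (Subgroup.normalizer (P.Asub : Set G)) := hker ▸ MonoidHom.mem_ker.2 hx
      have := hK.disjoint.le_bot (Subgroup.mem_inf.2 ⟨h1, x.2⟩)
      exact Subtype.ext (Subgroup.mem_bot.1 this)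
    · obtain ⟨n, hn⟩ := hsurj σ
      obtain ⟨⟨a, b⟩, hab, -⟩ := hK.existsUnique n
      refine ⟨b, ?_⟩
      have h1 : φ (a : ↥(Subgroup.normalizer (P.Asub : Set G))) = 1 := MonoidHom.mem_ker.1 (hker.symm ▸ a.2)
      rw [← hn, ← show (a : ↥(Subgroup.normalizer (P.Asub : Set G))) * b = n from hab, map_mul, h1, one_mul]
      rfl
  let e := MulEquiv.ofBijective ψ hψ
  let k : ↥M24 →* G := (Subgroup.normalizer (P.Asub : Set G)).subtype.comp (K.subtype.comp e.symm.toMonoidHom)
  have kmem : ∀ σ, k σ ∈ (Subgroup.normalizer (P.Asub : Set G)) := fun σ => ((e.symm σ).1).2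
  have krel : ∀ σ, P.Rel (k σ) σ.1 := fun σ => by
    have h1 : φ (e.symm σ).1 = σ := e.apply_symm_apply σ
    have := hφ (e.symm σ).1
    rwa [h1] at this
  have kel : ∀ (σ : ↥M24) (c : CodeSet), k σ * P.el (yof c) = P.el (yof (mv σ c)) * k σ := by
    intro σ c
    obtain ⟨y', hy', e'⟩ := (Subgroup.mem_normalizer_iff.1 (kmem σ) _).1 (P.el_mem (yof_lt c))
    obtain ⟨b, hb⟩ := krel σ _ (yof_lt c) y' hy' e'.symm
    obtain ⟨b', hb'⟩ := yof_spec c
    have h : yof (mv σ c) = y' := yof_eq (b := b + b') hy' (by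
      rw [show (mv σ c).1 = σ.1 • c.1 from rfl, indW_smul, hb', act_add, act_ones, ← ones_add, hb]
      have : ∀ a : GolayPt → ZMod 2, a + a = 0 := fun a => ZModModule.add_self a
      calc act σ.1 (pw24 (yof c)) + ones b' = act σ.1 (pw24 (yof c)) + (ones b + ones b) + ones b' := by
            rw [this, add_zero]
        _ = act σ.1 (pw24 (yof c)) + ones b + (ones b + ones b') := by abel)
    rw [h, e', inv_mul_cancel_right]
  have kof : ∀ (g : G) (σ : ↥M24), g ∈ (Subgroup.normalizer (P.Asub : Set G)) → P.Rel g σ.1 → ∃ y < 2048, g = P.el y * k σ := by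
    intro g σ hg hr
    have h1 : φ ⟨g, hg⟩ = σ := Subtype.ext (Pre.rel_unique hg (hφ ⟨g, hg⟩) hr)
    have h2 : (⟨g, hg⟩ : ↥(Subgroup.normalizer (P.Asub : Set G))) * ((e.symm σ).1)⁻¹ ∈ P.Asub.subgroupOf (Subgroup.normalizer (P.Asub : Set G)) := by
      rw [← hker, MonoidHom.mem_ker, map_mul, map_inv, h1,
        show φ (e.symm σ).1 = σ from e.apply_symm_apply σ, mul_inv_cancel]
    obtain ⟨y, hy, hye⟩ := P.mem_Asub.1 (Subgroup.mem_subgroupOf.1 h2)
    refine ⟨y, hy, ?_⟩
    rw [hye]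
    show g = g * (((e.symm σ).1)⁻¹ : ↥(Subgroup.normalizer (P.Asub : Set G))) * ((e.symm σ).1 : G)
    rw [Subgroup.coe_inv, inv_mul_cancel_right]
  obtain ⟨f, hf⟩ := exists_hom_of_mono (fun σ c => P.el (yof (mv tau c)) * k (tau * σ * tau⁻¹))
    (fun σ τ c d => by
      have hm : mv (tau * σ * tau⁻¹) (mv tau d) = mv tau (mv σ d) := Subtype.ext (by
        show (tau * σ * tau⁻¹ : ↥M24).1 • tau.1 • d.1 = tau.1 • σ.1 • d.1
        simp only [Subgroup.coe_mul, Subgroup.coe_inv, mul_smul, inv_smul_smul])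
      have hd : mv tau (cadd c (mv σ d)) = cadd (mv tau c) (mv tau (mv σ d)) :=
        Subtype.ext (Golay.smul_symmDiff _ _ _)
      rw [hd, yof_cadd, P.el_xor, show tau * (σ * τ) * tau⁻¹ = (tau * σ * tau⁻¹) * (tau * τ * tau⁻¹)
        by group, map_mul k (tau * σ * tau⁻¹) (tau * τ * tau⁻¹), ← hm]
      calc P.el (yof (mv tau c)) * k (tau * σ * tau⁻¹) * (P.el (yof (mv tau d)) * k (tau * τ * tau⁻¹))
          = P.el (yof (mv tau c)) * (k (tau * σ * tau⁻¹) * P.el (yof (mv tau d))) *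
            k (tau * τ * tau⁻¹) := by group
        _ = _ := by rw [kel]; group)
    (by
      rw [show mv tau cuniv = cuniv from Subtype.ext Finset.smul_finset_univ, yof_cuniv, P.el_zero,
        show tau * 1 * tau⁻¹ = 1 by group, map_one, one_mul])
  refine ⟨⟨f, k, kmem, krel, kof, hf, (injective_iff_map_eq_one _).2 ?_, ?_⟩⟩
  · rintro ⟨x, hx⟩ h
    obtain ⟨σ, c, rfl⟩ := mem_N0.1 hx
    rw [hf σ c] at h
    have h1 : (e.symm (tau * σ * tau⁻¹)).1 ∈ P.Asub.subgroupOf (Subgroup.normalizer (P.Asub : Set G)) ⊓ K := by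
      refine ⟨Subgroup.mem_subgroupOf.2 ?_, (e.symm _).2⟩
      have : k (tau * σ * tau⁻¹) = P.el (yof (mv tau c)) :=
        (eq_inv_of_mul_eq_one_right h).trans (P.el_inv _)
      show k (tau * σ * tau⁻¹) ∈ P.Asub
      rw [this]; exact P.el_mem (yof_lt _)
    have h2 := Subgroup.mem_bot.1 (hK.disjoint.le_bot h1)
    have hσ : σ = 1 := by
      have h3 : tau * σ * tau⁻¹ = 1 := by
        rw [← e.apply_symm_apply (tau * σ * tau⁻¹),
          show e.symm (tau * σ * tau⁻¹) = 1 from Subtype.ext h2, map_one]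
      calc σ = tau⁻¹ * (tau * σ * tau⁻¹) * tau := by group
        _ = 1 := by rw [h3]; group
    subst hσ
    rw [show tau * 1 * tau⁻¹ = 1 by group, map_one, mul_one] at h
    have h0 := P.el_inj_zero (yof_lt _) h
    obtain ⟨b, hb⟩ := yof_spec (mv tau c)
    rw [h0, pw24_zero, zero_add, show (mv tau c).1 = tau.1 • c.1 from rfl] at hb
    refine Subtype.ext ?_
    show nmono 1 c = 1
    rw [← nmono_one, nmono_eq_iff]
    refine ⟨rfl, ?_⟩
    rcases (by decide : ∀ b : ZMod 2, b = 0 ∨ b = 1) b with rfl | rfl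
    · refine Or.inl (Subtype.ext ?_)
      have e1 : tau.1 • c.1 = ∅ := by
        rw [← GolayModule.support₂_indW (tau.1 • c.1), hb]
        ext p; simp [support₂, ones]
      exact Finset.smul_finset_eq_empty.1 e1
    · refine Or.inr (Subtype.ext ?_)
      have e1 : tau.1 • c.1 = Finset.univ := by
        rw [← GolayModule.support₂_indW (tau.1 • c.1), hb]
        ext p; simp [support₂, ones]
      have e2 : c.1 = Finset.univ := by
        rw [← inv_smul_smul tau.1 c.1, e1, Finset.smul_finset_univ]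
      show ∅ = Finset.univ ∆ c.1
      rw [e2, symmDiff_self]; rfl
  · refine le_antisymm ?_ ?_
    · rintro _ ⟨⟨x, hx⟩, rfl⟩
      obtain ⟨σ, c, rfl⟩ := mem_N0.1 hx
      rw [hf]
      exact mul_mem (Subgroup.le_normalizer (P.el_mem (yof_lt _))) (kmem _)
    · intro g hg
      obtain ⟨y, hy, hg'⟩ := kof g (φ ⟨g, hg⟩) hg (hφ ⟨g, hg⟩)
      obtain ⟨hc, -⟩ := psi_spec hy
      let c : CodeSet := mv tau⁻¹ ⟨support₂ (pw24 y), pw24 y, hc, rfl⟩
      refine ⟨⟨nmono (tau⁻¹ * φ ⟨g, hg⟩ * tau) c, nmono_mem _ _⟩, ?_⟩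
      rw [hf, show tau * (tau⁻¹ * φ ⟨g, hg⟩ * tau) * tau⁻¹ = φ ⟨g, hg⟩ by group]
      refine Eq.trans ?_ hg'.symm
      congr 2
      refine yof_eq (b := 0) hy ?_
      show indW (tau.1 • (tau⁻¹ : ↥M24).1 • support₂ (pw24 y)) = _
      rw [Subgroup.coe_inv, smul_inv_smul, GolayModule.indW_support₂]
      exact (add_zero _).symm

end Cfsg.Agent.CoOneUniq
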