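/-
The radical of the centraliser inside the monomial subgroup.

* `z0`, `C0`, `Q0` : the involution, its centraliser and the radical in Co1
* `FN.f_z0`, `FN.map_Q0` : their images
-/
import Cfsg.Agent.Lib.CoOneUniq.HomN

set_option autoImplicit false
set_option maxRecDepth 100000
open scoped Pointwise symmDiff

namespace Cfsg.Agent.CoOneUniq

open Cfsg Cfsg.Agent.Leech Cfsg.Agent.CoOneA
open Cfsg.Agent.Golay (word pts idx fn imgMask toPerm octadFix isAut popcount allBits)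
open Cfsg.Agent.GolayModule (indW)

/-- The involution. -/
abbrev z0 : Spor.Co1 := Co1Centralizer.z1

/-- Its centraliser. -/
abbrev C0 : Subgroup Spor.Co1 := Co1Centralizer.cz1

/-- The radical. -/
noncomputable def Q0 : Subgroup Spor.Co1 := Co1Centralizer.psi.ker.map C0.subtype

/-- The octad complement. -/
def cOct : CodeSet := ⟨Co2Centralizer.octᶜ, Co2Centralizer.octCompl_mem⟩

theorem z0_eq : z0 = nmono 1 cOct := rfl

theorem z0_mem : z0 ∈ N0 := z0_eq ▸ nmono_mem 1 cOct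

theorem natCard_Q0 : Nat.card Q0 = 2 ^ 9 := by
  rw [Q0, ← Co1Centralizer.natCard_Qz]
  exact (Nat.card_congr (Co1Centralizer.psi.ker.equivMapOfInjective _ Subtype.val_injective).toEquiv).symm

theorem mem_Q0 {x : Spor.Co1} (hx : x ∈ Q0) :
    ∃ (σ : ↥M24) (c : CodeSet), σ.1 ∈ octadFix Co2Centralizer.oct ∧ Disjoint c.1 Co2Centralizer.oct ∧
      x = nmono σ c := by
  obtain ⟨y, hy, rfl⟩ := hx
  obtain ⟨e, he, rfl⟩ := Co1Centralizer.exists_of_mem_ker_psi hy
  obtain ⟨σ, c, rfl⟩ := Co2Centralizer.exists_of_mem_ker he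
  exact ⟨⟨σ.1, (Golay.mem_octadFix.1 σ.2).1⟩, ⟨c.1, c.2.1⟩, σ.2, c.2.2, rfl⟩

theorem Q0_le : Q0 ≤ N0 := fun _ hx => by
  obtain ⟨σ, c, -, -, rfl⟩ := mem_Q0 hx
  exact nmono_mem σ c

/-- Elements of the centralisers of four generators with their tables. -/
def cenC (i : ℕ) : List (ℕ × List ℕ) :=
  [[(0xbb82d141919caa05bc853d0ca48d16, [1, 22, 16, 24, 12, 649, 1988, 1904, 1817, 784, 256])],
   [(0x700f3a46f04585250de6595a12552c, [1, 19, 6, 2, 8, 687, 146, 341, 68, 1106, 47])],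
   [(0x85dab34ac00b09110e677d5145152e, [1, 23, 6, 11, 3, 654, 1509, 160, 76, 41, 1147])],
   [(0x931462bad1101103846d9d1754bc97, [1, 4, 15, 3, 23, 1083, 34, 555, 185, 1990, 116]),
    (0x748a125a1115ce048d666a2b353e8c, [1, 2, 4, 13, 20, 32, 99, 161, 1816, 516, 1029])]].getD i []

theorem cenC_perm : ∀ i < 4, ∀ x ∈ cenC i, isAut x.1 = true ∧ imgMask x.1 0xc75001 = 0xc75001 ∧
    (∀ p < 24, fn x.1 (fn (permC (qIdx i)) p) = fn (permC (qIdx i)) (fn x.1 p)) ∧
    (∀ g ∈ x.2, g < 2 ^ 11) ∧ ∀ j < 11, imgMask x.1 (psi (2 ^ j)) ^^^ psi (lin x.2 (2 ^ j)) = 0 ∨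
      imgMask x.1 (psi (2 ^ j)) ^^^ psi (lin x.2 (2 ^ j)) = 16777215 := by decide +kernel

theorem cenC_fix : ∀ i < 4, allBits (fun a => Nat.blt a 32 ||
    (cenC i).any fun x => !Nat.blt (lin x.2 a ^^^ a) 32) 11 0 = true := by decide +kernel

theorem low_of_disjoint : allBits (fun y => Nat.blt y 32 ||
    !(psi y &&& 0xc75001 == 0 || (psi y ^^^ 16777215) &&& 0xc75001 == 0)) 11 0 = true := by
  decide +kernel

theorem act_of_table {g : ℕ} (hg : isAut g = true) {T : List ℕ}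
    (h : ∀ j < 11, imgMask g (psi (2 ^ j)) ^^^ psi (lin T (2 ^ j)) = 0 ∨
      imgMask g (psi (2 ^ j)) ^^^ psi (lin T (2 ^ j)) = 16777215) {y : ℕ} (hy : y < 2048) :
    ∃ b, pw24 (lin T y) = act (toPerm g) (pw24 y) + ones b := by
  refine forall_of_basis (Pr := fun y => ∃ b, pw24 (lin T y) = act (toPerm g) (pw24 y) + ones b)
    ?_ ?_ 11 ?_ y (by simpa using hy)
  · refine ⟨0, ?_⟩
    rw [show lin T 0 = 0 from Golay.encAux_zero _, pw24_zero]
    rfl
  · rintro x y ⟨b, hb⟩ ⟨b', hb'⟩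
    refine ⟨b + b', ?_⟩
    rw [lin_xor, pw24_xor, pw24_xor, act_add, hb, hb', ← ones_add]
    abel
  · intro i hi
    have e1 : ∀ m : ℕ, word (imgMask g m) = act (toPerm g) (word m) :=
      GolayModule.word_imgMask (Golay.validPerm_of_isAut hg)
    rcases h i hi with h | h
    · refine ⟨0, ?_⟩
      rw [pw24, ← Nat.xor_eq_zero_iff.mp h, e1]
      exact (add_zero _).symm
    · refine ⟨1, ?_⟩
      have h' : psi (lin T (2 ^ i)) = imgMask g (psi (2 ^ i)) ^^^ 16777215 := by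
        rw [← h, ← Nat.xor_assoc, Nat.xor_self, Nat.zero_xor]
      rw [pw24, h', Golay.word_xor, e1]
      exact congrArg (act _ _ + ·) Golay.one_eq.symm

theorem qIdx_lt : ∀ i < 4, qIdx i < 8 := by decide

/-- The permutation of a generator. -/
noncomputable def permQ (i : Fin 4) : ↥M24 :=
  ⟨toPerm (permC (qIdx i)), Golay.toPerm_mem_M24 (permC_ok _ (qIdx_lt i i.2)).1⟩

/-- A product of generators. -/
noncomputable def el16 (k : ℕ) : ↥M24 :=
  (bif k.testBit 0 then permQ 0 else 1) * (bif k.testBit 1 then permQ 1 else 1) *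
    (bif k.testBit 2 then permQ 2 else 1) * (bif k.testBit 3 then permQ 3 else 1)

theorem idx_el16 (k : ℕ) (p : GolayPt) : idx ((el16 k).1 p) = ak k (idx p) := by
  have st : ∀ (i : Fin 4) (p : GolayPt),
      idx ((bif k.testBit i then permQ i else 1 : ↥M24).1 p) =
        if k.testBit i then fn (permC (qIdx i)) (idx p) else idx p := by
    intro i p
    cases k.testBit i
    · simp
    · simpa [permQ] using Golay.idx_toPerm (Golay.validPerm_of_isAut (permC_ok _ (qIdx_lt i i.2)).1) p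
  show idx ((bif k.testBit (0 : Fin 4) then permQ 0 else 1 : ↥M24).1
    ((bif k.testBit (1 : Fin 4) then permQ 1 else 1 : ↥M24).1
    ((bif k.testBit (2 : Fin 4) then permQ 2 else 1 : ↥M24).1
    ((bif k.testBit (3 : Fin 4) then permQ 3 else 1 : ↥M24).1 p)))) = _
  rw [st, st, st, st]
  rfl

theorem oct1_mem : pts 0xc75001 ∈ octads :=
  Golay.pts_mem_octads (by decide +kernel)

theorem exists_el16 {σ : Equiv.Perm GolayPt} (hσ : σ ∈ octadFix (pts 0xc75001)) :
    ∃ k, (el16 k).1 = σ := by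
  have hfx : ∀ k < 16, (el16 k).1 ∈ octadFix (pts 0xc75001) := fun k hk =>
    Golay.mem_octadFix.2 ⟨(el16 k).2, fun p hp => Golay.idx_injective (by
      rw [idx_el16, ak_ok.1 k hk _ (Golay.idx_lt p) (Golay.mem_pts.1 hp)])⟩
  let f : Fin 16 → ↥(octadFix (pts 0xc75001)) := fun k => ⟨(el16 k).1, hfx k k.2⟩
  have finj : Function.Injective f := fun a b h => by
    by_contra hne
    obtain ⟨p, hp, hne'⟩ := ak_ok.2 a a.2 b b.2 fun e => hne (Fin.ext e)
    have h' : (el16 a).1 = (el16 b).1 := congrArg (fun x : ↥(octadFix (pts 0xc75001)) => x.1) h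
    refine hne' ?_
    have := congrArg (fun σ : Equiv.Perm GolayPt => idx (σ (Golay.pt p))) h'
    simpa only [idx_el16, Golay.idx_pt hp] using this
  have hb := (Nat.bijective_iff_injective_and_card f).2 ⟨finj, by
    rw [Nat.card_fin, Golay.natCard_octadFix oct1_mem]⟩
  obtain ⟨k, hk⟩ := hb.2 ⟨σ, hσ⟩
  exact ⟨k, congrArg Subtype.val hk⟩

variable {G : Type*} [Group G] {F : CoType.Fr G} [Finite G] {P : Pre F}

namespace FN

variable (E : FN P)

theorem f_z0 : E.f ⟨z0, z0_mem⟩ = F.z := by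
  have h : E.f ⟨z0, z0_mem⟩ = E.f ⟨nmono 1 cOct, nmono_mem 1 cOct⟩ := rfl
  rw [h, E.f_mono, show tau * 1 * tau⁻¹ = 1 by group, map_one, mul_one]
  have h1 : psi 1 = 0xc75001 ^^^ 16777215 := by decide +kernel
  rw [yof_eq (y := 1) (b := 0) (by norm_num) ?_]
  · exact P.z_eq.symm
  · show indW (tau.1 • Co2Centralizer.octᶜ) = _
    rw [show tau.1 • Co2Centralizer.octᶜ = (tau.1 • Co2Centralizer.oct)ᶜ from Finset.ext fun p => by
      simp [← Finset.inv_smul_mem_iff], tau_oct, pw24, h1, Golay.word_xor, ← indW_pts, Golay.one_eq.symm]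
    funext p
    by_cases hp : p ∈ pts 0xc75001 <;> simp [indW, hp, ones, CharTwo.add_self_eq_zero]

theorem k_commute_z {σ : ↥M24} (h : σ.1 • pts 0xc75001 = pts 0xc75001) :
    E.k σ * F.z = F.z * E.k σ := by
  obtain ⟨y', hy', e⟩ := (Subgroup.mem_normalizer_iff.1 (E.k_mem σ) _).1 (P.el_mem (y := 1) (by norm_num))
  obtain ⟨b, hb⟩ := E.k_rel σ 1 (by norm_num) y' hy' e.symm
  have h1 : psi 1 = 0xc75001 ^^^ 16777215 := by decide +kernel
  have hw : act σ.1 (pw24 1) = pw24 1 := by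
    rw [pw24, h1, Golay.word_xor, act_add, ← indW_pts, ← indW_smul, h, ← indW_pts, Golay.pts_full,
      indW_univ, act_ones]
  rw [hw] at hb
  obtain ⟨rfl, -⟩ := pw24_inj hy' (by norm_num : (1 : ℕ) < 2048) hb
  rw [P.z_eq]
  exact mul_inv_eq_iff_eq_mul.1 e.symm

theorem k_norm_Q {σ : ↥M24} (h : σ.1 • pts 0xc75001 = pts 0xc75001) {q : G} (hq : q ∈ F.Q) :
    E.k σ * q * (E.k σ)⁻¹ ∈ F.Q :=
  F.T.data.norm _ (E.k_commute_z h) q hq

theorem k_permQ_mem (hs : P.Std) (i : Fin 4) : E.k (permQ i) ∈ F.Q := by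
  obtain ⟨hok, htab⟩ := permC_ok (qIdx i) (qIdx_lt i i.2)
  have hgQ : P.gEl (qIdx i) ∈ F.Q := by
    have hc := fun m => (LargeExtraspecial.Cfg.mem_A.mp (Pre.c_mem P m)).1
    fin_cases i
    exacts [P.S.p_mem, hc 0, hc 1, hc 2]
  have hgN : P.gEl (qIdx i) ∈ Subgroup.normalizer (P.Asub : Set G) :=
    Pre.gEl_norm hs (qIdx_lt i i.2)
  have hrel : P.Rel (P.gEl (qIdx i)) (permQ i).1 := by
    intro y hy y' hy' e
    rw [Pre.gEl_conj hs (qIdx_lt i i.2) hy] at e
    rw [← P.el_inj (tab_lt (qIdx_lt i i.2) y) hy' e]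
    exact act_of_table hok htab hy
  obtain ⟨a, ha, hga⟩ := E.k_of_rel _ (permQ i) hgN hrel
  have hk : E.k (permQ i) = P.el a * P.gEl (qIdx i) := by
    rw [hga, ← mul_assoc, P.el_sq, one_mul]
  rw [hk]
  refine mul_mem (P.el_Q ?_) hgQ
  by_contra hge
  have hbad := Golay.forall_lt_two_pow (cenC_fix i i.2) (i := a) (by simpa using ha)
  simp only [Bool.or_eq_true, Nat.blt_eq, List.any_eq_true, Bool.not_eq_true'] at hbad
  obtain ⟨x, hx, hxa⟩ := hbad.resolve_left hge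
  obtain ⟨x1, x2, x3, x4, x5⟩ := cenC_perm i i.2 x hx
  set g : ↥M24 := ⟨toPerm x.1, Golay.toPerm_mem_M24 x1⟩ with hgdef
  have hv := Golay.validPerm_of_isAut x1
  have hcomm : g * permQ i = permQ i * g := by
    refine Subtype.ext (Equiv.ext fun p => Golay.idx_injective ?_)
    have hvi := Golay.validPerm_of_isAut hok
    show idx (toPerm x.1 (toPerm (permC (qIdx i)) p)) = idx (toPerm (permC (qIdx i)) (toPerm x.1 p))
    rw [Golay.idx_toPerm hv, Golay.idx_toPerm hvi, Golay.idx_toPerm hvi, Golay.idx_toPerm hv,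
      x3 _ (Golay.idx_lt p)]
  have hfix : g.1 • pts 0xc75001 = pts 0xc75001 := by
    show toPerm x.1 • _ = _
    rw [← Golay.pts_imgMask hv, x2]
  obtain ⟨a', ha', e⟩ := (Subgroup.mem_normalizer_iff.1 (E.k_mem g) _).1 (P.el_mem ha)
  have hla : lin x.2 a < 2048 := Golay.encAux_lt x.2 11 x4 a
  have haa : a' = lin x.2 a := by
    obtain ⟨b, hb⟩ := E.k_rel g a ha a' ha' e.symm
    obtain ⟨b', hb'⟩ := act_of_table x1 x5 ha
    refine (pw24_inj ha' hla (b := b + b') ?_).1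
    rw [hb', hb, add_assoc, ones_add]
    congr 2
    rw [← add_assoc, add_comm b' b, add_assoc, CharTwo.add_self_eq_zero, add_zero]
  have hmem : P.el (a' ^^^ a) ∈ F.Q := by
    have hkz : E.k (permQ i) * F.z = F.z * E.k (permQ i) := E.k_commute_z (by
      have h := (ak_ok.1 (2 ^ (i : ℕ)) (Nat.pow_lt_pow_right (n := 4) (by norm_num) i.2))
      have hc : ∀ j : Fin 4, imgMask (permC (qIdx j)) 0xc75001 = 0xc75001 := by decide +kernel
      show toPerm _ • _ = _
      rw [← Golay.pts_imgMask (Golay.validPerm_of_isAut hok), hc i])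
    have e1 : P.el a = E.k (permQ i) * (P.gEl (qIdx i))⁻¹ := by rw [hk, mul_inv_cancel_right]
    have e2 : E.k g * P.el a * (E.k g)⁻¹ =
        E.k (permQ i) * (E.k g * (P.gEl (qIdx i))⁻¹ * (E.k g)⁻¹) := by
      have h := congrArg E.k hcomm
      rw [map_mul, map_mul] at h
      rw [e1, ← mul_assoc, h]; group
    rw [P.el_xor, e, e2, ← P.el_inv a, e1, mul_inv_rev, inv_inv,
      show ∀ a b c : G, a * b * (c * a⁻¹) = a * (b * c) * a⁻¹ by intros; group]
    exact F.T.data.norm _ hkz _ (mul_mem (E.k_norm_Q hfix (inv_mem hgQ)) hgQ)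
  rw [haa] at hmem
  have h32 : ¬ (lin x.2 a ^^^ a) < 32 := fun h => by
    rw [← Nat.blt_eq, hxa] at h
    exact Bool.false_ne_true h
  exact Pre.not_Q P (Nat.xor_lt_two_pow (n := 11) hla ha) h32 hmem

theorem map_Q0 (hs : P.Std) {x : Spor.Co1} (hx : x ∈ Q0) : E.f ⟨x, Q0_le hx⟩ ∈ F.Q := by
  obtain ⟨σ, c, hσ, hc, rfl⟩ := mem_Q0 hx
  rw [show (⟨nmono σ c, Q0_le hx⟩ : ↥N0) = ⟨nmono σ c, nmono_mem σ c⟩ from rfl, E.f_mono]
  refine mul_mem (P.el_Q ?_) ?_
  · obtain ⟨b, hb⟩ := yof_spec (mv tau c)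
    have hd : Disjoint (mv tau c).1 (pts 0xc75001) := by
      rw [show (mv tau c).1 = tau.1 • c.1 from rfl, ← tau_oct, Finset.disjoint_left]
      intro p hp hp'
      rw [← Finset.inv_smul_mem_iff] at hp hp'
      exact Finset.disjoint_left.1 hc hp hp'
    set y := yof (mv tau c)
    have hy := Golay.forall_lt_two_pow low_of_disjoint (i := y) (by simpa using yof_lt (mv tau c))
    simp only [Bool.or_eq_true, Nat.blt_eq] at hy
    refine hy.resolve_right ?_
    simp only [Bool.not_eq_true', Bool.or_eq_false_iff, beq_eq_false_iff_ne, not_and_or, not_not]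
    have hz : ∀ m : ℕ, indW (mv tau c).1 = word m → m &&& 0xc75001 = 0 := by
      intro m hm
      rw [← indW_pts] at hm
      have e : (mv tau c).1 = pts m := by
        rw [← GolayModule.support₂_indW (mv tau c).1, hm, GolayModule.support₂_indW]
      rw [e, Finset.disjoint_iff_inter_eq_empty, ← Golay.pts_and, ← Golay.pts_zero] at hd
      exact Golay.pts_injOn ((Nat.and_le_right).trans_lt (by norm_num)) (by norm_num) hd
    rcases (by decide : ∀ b : ZMod 2, b = 0 ∨ b = 1) b with rfl | rfl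
    · exact Or.inl (hz _ (hb.trans (add_zero _)))
    · refine Or.inr (hz _ (hb.trans ?_))
      rw [Golay.word_xor, pw24, ← indW_pts 16777215, Golay.pts_full, indW_univ]
  · have hfix : (tau * σ * tau⁻¹ : ↥M24).1 ∈ octadFix (pts 0xc75001) := by
      refine Golay.mem_octadFix.2 ⟨(tau * σ * tau⁻¹).2, fun p hp => ?_⟩
      rw [← tau_oct, ← Finset.inv_smul_mem_iff] at hp
      show tau.1 (σ.1 (tau.1⁻¹ p)) = p
      rw [(Golay.mem_octadFix.1 hσ).2 (tau.1⁻¹ p) hp]
      exact Equiv.apply_symm_apply _ _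
    obtain ⟨k, hk⟩ := exists_el16 hfix
    rw [← show el16 k = tau * σ * tau⁻¹ from Subtype.ext hk, el16, map_mul, map_mul, map_mul]
    have hm : ∀ (i : Fin 4) (b : Bool), E.k (bif b then permQ i else 1) ∈ F.Q := fun i b => by
      cases b
      · simp
      · exact E.k_permQ_mem hs i
    exact mul_mem (mul_mem (mul_mem (hm 0 _) (hm 1 _)) (hm 2 _)) (hm 3 _)

theorem exists_of_mem_Q (hs : P.Std) {q : G} (hq : q ∈ F.Q) :
    ∃ x, ∃ hx : x ∈ Q0, E.f ⟨x, Q0_le hx⟩ = q := by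
  let g : ↥Q0 → ↥F.Q := fun x => ⟨E.f ⟨x.1, Q0_le x.2⟩, E.map_Q0 hs x.2⟩
  have hg : Function.Bijective g := (Nat.bijective_iff_injective_and_card g).2
    ⟨fun x y h => by
      have h1 := E.f_inj (congrArg Subtype.val h)
      exact Subtype.ext (congrArg (fun a : ↥N0 => (a : Spor.Co1)) h1),
     by rw [natCard_Q0, F.T.card_Q]⟩
  obtain ⟨x, hx⟩ := hg.2 ⟨q, hq⟩
  exact ⟨x.1, x.2, congrArg Subtype.val hx⟩

end FN

end Cfsg.Agent.CoOneUniq
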