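/-
The intersection of the two local subgroups.

* `L0`, `mem_L0` : monomial elements fixing the octad;  `index_L0` : it has index 759 in `N0`
* `hom_L0_trivial` : no non-trivial homomorphism to an elementary abelian 2-group
-/
import Cfsg.Agent.Lib.CoOneUniq.RadN
import Cfsg.Agent.Lib.Golay.OctadStab
import Mathlib.GroupTheory.SpecificGroups.Alternating

set_option autoImplicit false
set_option maxRecDepth 100000
open scoped Pointwise symmDiff

namespace Cfsg.Agent.CoOneUniq

open Cfsg Cfsg.Agent.Leech Cfsg.Agent.CoOneA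
open Cfsg.Agent.Golay (pts idx fn imgMask toPerm octadFix octadStab octadRes isAut)
open Cfsg.Agent.Co2Centralizer (oct oct_mem)

/-- The intersection. -/
abbrev L0 : Subgroup Spor.Co1 := N0 ⊓ C0

theorem mem_C0 {x : Spor.Co1} : x ∈ C0 ↔ x * z0 = z0 * x := Subgroup.mem_centralizer_singleton_iff

theorem card_cOct : cOct.1.card = 16 := by
  show octᶜ.card = 16
  rw [Finset.card_compl, Leech.card_pt, show oct.card = 8 from oct_mem.2]

theorem nmono_mem_C0 {σ : ↥M24} {c : CodeSet} : nmono σ c ∈ C0 ↔ σ.1 • oct = oct := by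
  have hcompl : σ.1 • octᶜ = (σ.1 • oct)ᶜ := Finset.ext fun p => by simp [← Finset.inv_smul_mem_iff]
  rw [mem_C0, z0_eq, nmono_mul, nmono_mul, mul_one, one_mul, nmono_eq_iff]
  simp only [true_and]
  constructor
  · rintro (h | h) <;> have h1 : _ = _ := congrArg Subtype.val h <;>
      simp only [cadd, mv, cOct, cuniv, OneMemClass.coe_one, one_smul, hcompl] at h1
    · rw [symmDiff_comm octᶜ c.1] at h1
      exact compl_inj_iff.1 (symmDiff_right_inj.1 h1)
    · exfalso
      have h4 : (Finset.univ : Finset GolayPt) ∆ (σ.1 • oct)ᶜ = σ.1 • oct := by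
        ext p; simp [Finset.mem_symmDiff]
      rw [symmDiff_comm octᶜ c.1, symmDiff_left_comm Finset.univ c.1, h4] at h1
      have h2 := symmDiff_right_inj.1 h1
      have := congrArg Finset.card h2
      rw [Finset.card_compl, Finset.card_smul_finset, Leech.card_pt, show oct.card = 8 from oct_mem.2]
        at this
      omega
  · intro h
    refine Or.inl (Subtype.ext ?_)
    show c.1 ∆ (σ.1 • octᶜ) = octᶜ ∆ ((1 : ↥M24).1 • c.1)
    rw [hcompl, h, OneMemClass.coe_one, one_smul, symmDiff_comm]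

theorem mem_L0 {x : Spor.Co1} : x ∈ L0 ↔ ∃ σ c, σ.1 • oct = oct ∧ x = nmono σ c := by
  constructor
  · rintro ⟨h1, h2⟩
    obtain ⟨σ, c, rfl⟩ := mem_N0.1 h1
    exact ⟨σ, c, nmono_mem_C0.1 h2, rfl⟩
  · rintro ⟨σ, c, h, rfl⟩
    exact ⟨nmono_mem σ c, nmono_mem_C0.2 h⟩

theorem index_L0 : (L0.subgroupOf N0).index = 759 := by
  obtain ⟨π, hπ⟩ := exists_hom_of_mono (fun σ _ => σ) (fun _ _ _ _ => rfl) rfl
  have hsurj : Function.Surjective π := fun σ => ⟨⟨nmono σ cempty, nmono_mem _ _⟩, hπ σ cempty⟩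
  have e : L0.subgroupOf N0 = ((octadStab oct).subgroupOf M24).comap π := by
    ext ⟨x, hx⟩
    obtain ⟨σ, c, rfl⟩ := mem_N0.1 hx
    rw [Subgroup.mem_subgroupOf, Subgroup.mem_comap, Subgroup.mem_subgroupOf, hπ]
    exact ⟨fun h => ⟨σ.2, nmono_mem_C0.1 h.2⟩, fun h => ⟨nmono_mem σ c, nmono_mem_C0.2 h.2⟩⟩
  rw [e, Subgroup.index_comap_of_surjective _ hsurj]
  have h := ((octadStab oct).subgroupOf M24).card_mul_index
  rw [Nat.card_congr (Subgroup.subgroupOfEquivOfLe (inf_le_left : octadStab oct ≤ M24)).toEquiv,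
    Golay.natCard_octadStab oct_mem, Golay.natCard_M24] at h
  omega

theorem octadStab_smul (g : ↥(octadStab oct)) : (⟨g.1, g.2.1⟩ : ↥M24).1 • oct = oct := g.2.2

theorem mv_cempty (σ : ↥M24) : mv σ cempty = cempty := Subtype.ext (Finset.smul_finset_empty _)

theorem cadd_cempty (c : CodeSet) : cadd cempty c = c := Subtype.ext (bot_symmDiff c.1)

/-- The permutations inside the intersection. -/
noncomputable def permL0 : ↥(octadStab oct) →* ↥L0 :=
  MonoidHom.mk' (fun g => ⟨nmono ⟨g.1, g.2.1⟩ cempty, mem_L0.2 ⟨_, _, octadStab_smul g, rfl⟩⟩)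
    fun a b => Subtype.ext (by
      show nmono _ cempty = nmono _ cempty * nmono _ cempty
      rw [nmono_mul, mv_cempty, cadd_cempty]
      rfl)

/-- Two permutations fixing the octad. -/
def sigD : List ℕ := [0x2aa8c6c22b3b8d5926cf44c2418ae0, 0x35f0658b23c52ba2155990261bae2]

/-- Their sums with the rows. -/
def spanD : List ℕ := sigD.flatMap fun g => Golay.rows.map fun r => imgMask g r ^^^ r

/-- The rows in the span. -/
def solD : List ℕ := [28678, 40972, 45066, 103050, 86021, 8715, 40963, 8711, 128, 8202, 40971, 33281]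

theorem sigD_ok : ∀ g ∈ sigD, isAut g = true ∧ imgMask g Golay.octad0 = Golay.octad0 := by
  decide +kernel

theorem solD_ok : ∀ i < 12, Golay.encAux spanD (solD.getD i 0) = Golay.rows.getD i 0 ∨
    Golay.encAux spanD (solD.getD i 0) = Golay.rows.getD i 0 ^^^ 16777215 := by decide +kernel

/-- Four generators of the fixator with commutator presentations. -/
def fixD : List (ℕ × ℕ × ℕ) :=
  [(0xbd17661a2a23933ac1a7448af18820, 0x14de43a62b45db0650d5b48aa1b820, 0xbd6cb22627638cfa224a834b318820),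
   (0xbb4c93ae2453ac893e8c9d4b018820, 0x750ed55a2f95e646410b32455180a1, 0xbc0ea332364b892451ebaccad18820),
   (0xb9e086be3593a6952d94b10a618820, 0x1d2b34d828508877b572831c6044b7, 0xbcc8cb2a265b8f47c9096c0b518820),
   (0xb926faa22da3a0b6255231cb618820, 0x2a135536ec98576218f0a3c1213871, 0xbb4c93ae2453ac893e8c9d4b018820)]

theorem fixD_ok : ∀ x ∈ fixD, isAut x.1 = true ∧ isAut x.2.1 = true ∧ isAut x.2.2 = true ∧
    imgMask x.2.1 Golay.octad0 = Golay.octad0 ∧ imgMask x.2.2 Golay.octad0 = Golay.octad0 ∧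
    ∀ p < 24, fn x.2.1 (fn x.2.2 p) = fn x.1 (fn x.2.2 (fn x.2.1 p)) := by decide +kernel

theorem fixD_el16 : ∀ i < 4, ∀ p < 24,
    fn tauD (fn (fixD.getD i (0, 0, 0)).1 p) = fn (permC (qIdx i)) (fn tauD p) := by decide +kernel

theorem symmDiff_nmono (a b : CodeSet) : nmono 1 a * nmono 1 b = nmono 1 (cadd a b) := by
  rw [nmono_mul, one_mul, show mv 1 b = b from Subtype.ext (one_smul _ b.1)]

set_option maxHeartbeats 1600000 in
/-- Homomorphisms to elementary abelian 2-groups vanish on the intersection. -/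
theorem hom_L0_trivial {A : Type*} [Group A] (hA : ∀ a b : A, a * b = b * a) (h2 : ∀ a : A, a * a = 1)
    (χ : ↥L0 →* A) (x : ↥L0) : χ x = 1 := by
  classical
  have hinv : ∀ a : A, a⁻¹ = a := fun a => inv_eq_of_mul_eq_one_right (h2 a)
  -- values on monomial elements
  let v : (σ : ↥M24) → σ.1 • oct = oct → CodeSet → A := fun σ h c =>
    χ ⟨nmono σ c, mem_L0.2 ⟨σ, c, h, rfl⟩⟩
  have h1 : (1 : ↥M24).1 • oct = oct := by rw [OneMemClass.coe_one, one_smul]
  have vmul : ∀ σ τ hσ hτ hστ c d, v σ hσ c * v τ hτ d = v (σ * τ) hστ (cadd c (mv σ d)) :=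
    fun σ τ hσ hτ hστ c d => by
      simp only [v, ← map_mul]
      congr 1
      exact Subtype.ext (nmono_mul σ τ c d)
  have vcongr : ∀ σ τ hσ hτ c, σ = τ → v σ hσ c = v τ hτ c := by
    rintro σ _ _ _ c rfl; rfl
  -- the signs
  have sgn : ∀ σ, ∀ hσ : σ.1 • oct = oct, ∀ c : CodeSet, v 1 h1 (cadd (mv σ c) c) = 1 := by
    intro σ hσ c
    have e1 : v σ hσ cempty * v 1 h1 c = v σ hσ (cadd cempty (mv σ c)) := by
      rw [vmul σ 1 hσ h1 (by rw [mul_one]; exact hσ)]
      exact vcongr (σ * 1) σ (by rw [mul_one]; exact hσ) hσ _ (mul_one σ)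
    have e2 : v 1 h1 c * v σ hσ cempty = v σ hσ (cadd c (mv 1 cempty)) := by
      rw [vmul 1 σ h1 hσ (by rw [one_mul]; exact hσ)]
      exact vcongr (1 * σ) σ (by rw [one_mul]; exact hσ) hσ _ (one_mul σ)
    have e3 : v σ hσ (cadd cempty (mv σ c)) = v 1 h1 (cadd (mv σ c) c) * v σ hσ (cadd c (mv 1 cempty)) := by
      rw [vmul 1 σ h1 hσ (by rw [one_mul]; exact hσ)]
      refine ((vcongr (1 * σ) σ (by rw [one_mul]; exact hσ) hσ _ (one_mul σ)).trans ?_).symm
      congr 1
      refine Subtype.ext ?_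
      simp only [cadd, mv, cempty, OneMemClass.coe_one, one_smul]
      rw [← Finset.bot_eq_empty, symmDiff_bot, bot_symmDiff, symmDiff_symmDiff_cancel_right]
    rw [← e1, ← e2, hA (v σ hσ cempty)] at e3
    exact mul_eq_right.1 e3.symm
  have hadd : ∀ a b, v 1 h1 (cadd a b) = v 1 h1 a * v 1 h1 b := fun a b => by
    simp only [v, ← map_mul]
    congr 1
    exact Subtype.ext (symmDiff_nmono a b).symm
  let V : Finset GolayPt → A := fun s =>
    if h : s ∈ supports (golayCode : Set (GolayPt → ZMod 2)) then v 1 h1 ⟨s, h⟩ else 1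
  have hVu : V Finset.univ = 1 := by
    simp only [V, dif_pos univ_mem_supports]
    have : nmono 1 cuniv = 1 := by
      rw [← nmono_one, nmono_eq_iff]
      exact ⟨rfl, Or.inr (Subtype.ext (by simp [cuniv, cadd, cempty]))⟩
    show χ _ = 1
    rw [← map_one χ]
    congr 1
    exact Subtype.ext this
  have hV0 : V ∅ = 1 := by
    simp only [V, dif_pos Golay.empty_mem]
    show χ _ = 1
    rw [← map_one χ]
    congr 1
  have hVadd : ∀ s t, s ∈ supports (golayCode : Set (GolayPt → ZMod 2)) →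
      t ∈ supports (golayCode : Set (GolayPt → ZMod 2)) → V (s ∆ t) = V s * V t := fun s t hs ht => by
    simp only [V, dif_pos hs, dif_pos ht, dif_pos (Golay.symmDiff_mem hs ht)]
    exact hadd ⟨s, hs⟩ ⟨t, ht⟩
  have hspan : ∀ gs : List ℕ, (∀ g ∈ gs, pts g ∈ supports (golayCode : Set (GolayPt → ZMod 2)) ∧ V (pts g) = 1) →
      ∀ y, pts (Golay.encAux gs y) ∈ supports (golayCode : Set (GolayPt → ZMod 2)) ∧
        V (pts (Golay.encAux gs y)) = 1 := by
    intro gs
    induction gs with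
    | nil => intro _ y; rw [Golay.encAux, Golay.pts_zero]; exact ⟨Golay.empty_mem, hV0⟩
    | cons g gs ih =>
      intro h y
      obtain ⟨i1, i2⟩ := ih (fun a ha => h a (List.mem_cons_of_mem _ ha)) (y / 2)
      rw [Golay.encAux]
      split
      · obtain ⟨g1, g2⟩ := h g List.mem_cons_self
        rw [Golay.pts_xor]
        exact ⟨Golay.symmDiff_mem g1 i1, by rw [hVadd _ _ g1 i1, g2, i2, one_mul]⟩
      · rw [Nat.zero_xor]; exact ⟨i1, i2⟩
  have hrows : ∀ r ∈ Golay.rows, pts r ∈ supports (golayCode : Set (GolayPt → ZMod 2)) ∧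
      V (pts r) = 1 := by
    intro r hr
    have hr' := (Golay.rows_octads r hr).1
    refine ⟨hr', ?_⟩
    obtain ⟨i, hi, rfl⟩ := List.getElem_of_mem hr
    have hd : ∀ g ∈ spanD, pts g ∈ supports (golayCode : Set (GolayPt → ZMod 2)) ∧ V (pts g) = 1 := by
      intro g hg
      simp only [spanD, List.mem_flatMap, List.mem_map] at hg
      obtain ⟨s, hs, r, hr, rfl⟩ := hg
      obtain ⟨s1, s2⟩ := sigD_ok s hs
      have hv := Golay.validPerm_of_isAut s1
      let σ : ↥M24 := ⟨toPerm s, Golay.toPerm_mem_M24 s1⟩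
      have hσ : σ.1 • oct = oct := by
        show toPerm s • pts Golay.octad0 = _
        rw [← Golay.pts_imgMask hv, s2]; rfl
      have hr2 := (Golay.rows_octads r hr).1
      rw [Golay.pts_xor, Golay.pts_imgMask hv]
      have hm := Golay.symmDiff_mem (Golay.smul_mem_supports (Golay.toPerm_mem_M24 s1) hr2) hr2
      refine ⟨hm, ?_⟩
      simp only [V, dif_pos hm]
      exact sgn σ hσ ⟨pts r, hr2⟩
    obtain ⟨e1, e2⟩ := hspan spanD hd (solD.getD i 0)
    have hlen : i < 12 := hi
    have hget : Golay.rows.getD i 0 = Golay.rows[i]'hi := List.getD_eq_getElem _ _ hi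
    rcases solD_ok i hlen with e | e
    · rw [e, hget] at e2; exact e2
    · rw [e, hget, Golay.pts_xor, Golay.pts_full] at e2
      exact (mul_one (V _)).symm.trans
        ((congrArg _ hVu.symm).trans ((hVadd _ _ hr' univ_mem_supports).symm.trans e2))
  have hsign : ∀ c : CodeSet, v 1 h1 c = 1 := by
    intro c
    obtain ⟨y, -, hy⟩ := Golay.mem_supports_iff_exists.mp c.2
    simp only [Golay.enc] at hy
    have h3 := (hspan Golay.rows hrows y).2
    have e : pts (Golay.encAux Golay.rows y) = c.1 := hy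
    rw [e] at h3
    simpa only [V, dif_pos c.2] using h3
  -- the permutations
  have hperm : ∀ σ hσ, v σ hσ cempty = 1 := by
    let ψ : ↥(octadStab oct) →* A := χ.comp permL0
    have hker : ∀ g : ↥(octadStab oct), g.1 ∈ octadFix oct → ψ g = 1 := by
      intro g hg
      -- transfer to the octad of `z`
      have hg' : (tau.1 * g.1 * tau.1⁻¹) ∈ octadFix (pts 0xc75001) := by
        refine Golay.mem_octadFix.2 ⟨mul_mem (mul_mem tau.2 g.2.1) (inv_mem tau.2), fun p hp => ?_⟩
        rw [← tau_oct, ← Finset.inv_smul_mem_iff] at hp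
        show tau.1 (g.1 (tau.1⁻¹ p)) = p
        rw [(Golay.mem_octadFix.1 hg).2 (tau.1⁻¹ p) hp]
        exact Equiv.apply_symm_apply _ _
      obtain ⟨k, hk⟩ := exists_el16 hg'
      have hgen : ∀ i : Fin 4, ∃ q : ↥(octadStab oct), ψ q = 1 ∧ tau.1 * q.1 * tau.1⁻¹ = (permQ i).1 := by
        intro i
        set x := fixD.getD i.1 (0, 0, 0) with hx
        have hin : x ∈ fixD := by
          rw [hx, List.getD_eq_getElem fixD _ (show i.1 < fixD.length from i.2)]
          exact List.getElem_mem _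
        obtain ⟨a1, a2, a3, a4, a5, a6⟩ := fixD_ok x hin
        have v1 := Golay.validPerm_of_isAut a1
        have v2 := Golay.validPerm_of_isAut a2
        have v3 := Golay.validPerm_of_isAut a3
        have s2 : toPerm x.2.1 ∈ octadStab oct := ⟨Golay.toPerm_mem_M24 a2, by
          show toPerm x.2.1 • pts Golay.octad0 = _
          rw [← Golay.pts_imgMask v2, a4]; rfl⟩
        have s3 : toPerm x.2.2 ∈ octadStab oct := ⟨Golay.toPerm_mem_M24 a3, by
          show toPerm x.2.2 • pts Golay.octad0 = _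
          rw [← Golay.pts_imgMask v3, a5]; rfl⟩
        let P2 : ↥(octadStab oct) := ⟨_, s2⟩
        let P3 : ↥(octadStab oct) := ⟨_, s3⟩
        have e : (P2 * P3 * P2⁻¹ * P3⁻¹ : ↥(octadStab oct)).1 = toPerm x.1 := by
          show toPerm x.2.1 * toPerm x.2.2 * (toPerm x.2.1)⁻¹ * (toPerm x.2.2)⁻¹ = _
          rw [mul_inv_eq_iff_eq_mul, mul_inv_eq_iff_eq_mul]
          refine Equiv.ext fun p => Golay.idx_injective ?_
          simp only [Equiv.Perm.mul_apply, Golay.idx_toPerm v1, Golay.idx_toPerm v2, Golay.idx_toPerm v3]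
          exact a6 _ (Golay.idx_lt p)
        refine ⟨P2 * P3 * P2⁻¹ * P3⁻¹, ?_, ?_⟩
        · simp only [map_mul, map_inv]
          rw [hA (ψ P2) (ψ P3), mul_inv_cancel_right, mul_inv_cancel]
        · rw [e, mul_inv_eq_iff_eq_mul]
          refine Equiv.ext fun p => Golay.idx_injective ?_
          show idx (toPerm tauD (toPerm x.1 p)) = idx (toPerm (permC (qIdx i)) (toPerm tauD p))
          rw [Golay.idx_toPerm (Golay.validPerm_of_isAut tauD_ok.1), Golay.idx_toPerm v1,
            Golay.idx_toPerm (Golay.validPerm_of_isAut (permC_ok _ (qIdx_lt i i.2)).1),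
            Golay.idx_toPerm (Golay.validPerm_of_isAut tauD_ok.1)]
          exact fixD_el16 i i.2 _ (Golay.idx_lt p)
      choose q hq1 hq2 using hgen
      let sel : Bool → Fin 4 → ↥(octadStab oct) := fun b i => bif b then q i else 1
      have hsel : ∀ b i, ψ (sel b i) = 1 ∧
          tau.1 * (sel b i).1 * tau.1⁻¹ = (bif b then permQ i else 1 : ↥M24).1 := by
        intro b i
        cases b
        · simp [sel]
        · exact ⟨hq1 i, hq2 i⟩
      have e : g = sel (k.testBit 0) 0 * sel (k.testBit 1) 1 * sel (k.testBit 2) 2 * sel (k.testBit 3) 3 := by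
        refine Subtype.ext (mul_left_cancel (a := tau.1) (mul_right_cancel (b := tau.1⁻¹) ?_))
        rw [← hk]
        simp only [el16, Subgroup.coe_mul, ← (hsel _ _).2]
        group
      rw [e]
      simp only [map_mul, (hsel _ _).1, one_mul]
    intro σ hσ
    have key : ψ ⟨σ.1, σ.2, hσ⟩ = 1 := by
      have hr : octadRes oct ⟨σ.1, σ.2, hσ⟩ ∈ (⊤ : Subgroup _).map (octadRes oct) :=
        ⟨_, Subgroup.mem_top _, rfl⟩
      have hsq : alternatingGroup ↥oct ≤ ψ.ker.map (octadRes oct) := by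
        rw [← Equiv.Perm.closure_three_cycles_eq_alternating, Subgroup.closure_le]
        intro t ht
        have ht' : Equiv.Perm.IsThreeCycle t := ht
        obtain ⟨g, hg⟩ := Golay.octadRes_surjective oct_mem ht'.mem_alternatingGroup
        refine ⟨(g * g) * (g * g), MonoidHom.mem_ker.2 (by rw [map_mul, h2]), ?_⟩
        have h3 : t ^ 3 = 1 := ht'.orderOf ▸ pow_orderOf_eq_one t
        rw [map_mul, map_mul, hg]
        calc t * t * (t * t) = t ^ 3 * t := by simp only [pow_succ, pow_zero, one_mul, mul_assoc]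
          _ = t := by rw [h3, one_mul]
      have hin : octadRes oct ⟨σ.1, σ.2, hσ⟩ ∈ alternatingGroup ↥oct := by
        rw [← Golay.range_octadRes oct_mem]; exact ⟨_, rfl⟩
      obtain ⟨g, hg, hge⟩ := hsq hin
      have hk : (⟨σ.1, σ.2, hσ⟩ * g⁻¹ : ↥(octadStab oct)).1 ∈ octadFix oct := by
        rw [← Golay.mem_ker_octadRes, MonoidHom.mem_ker, map_mul, map_inv, hge, mul_inv_cancel]
      have := hker _ hk
      rwa [map_mul, map_inv, MonoidHom.mem_ker.1 hg, inv_one, mul_one] at this
    exact key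
  obtain ⟨σ, c, hσ, hx⟩ := mem_L0.1 x.2
  have e : χ x = v σ hσ c := congrArg χ (Subtype.ext hx)
  have e2 : v 1 h1 c * v σ hσ cempty = v σ hσ c := by
    rw [vmul 1 σ h1 hσ (by rw [one_mul]; exact hσ)]
    refine (vcongr (1 * σ) σ (by rw [one_mul]; exact hσ) hσ _ (one_mul σ)).trans ?_
    congr 1
    refine Subtype.ext ?_
    simp [cadd, mv, cempty]
  rw [e, ← e2, hsign, hperm σ hσ, one_mul]

end Cfsg.Agent.CoOneUniq
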