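/-
The isomorphism of the centralisers of the standard involutions.

* `act0` : the action of `C0` on the radical, in the coordinates of the other group, lies in `Ω`
* `exists_fC` : an isomorphism `C0 → C(z)` agreeing with the monomial one on the intersection
-/
import Cfsg.Agent.Lib.CoOneUniq.LocalL

set_option autoImplicit false
set_option maxRecDepth 100000

namespace Cfsg.Agent.CoOneUniq

open Cfsg Cfsg.Agent.CoType Cfsg.Agent.Orth
open QuadraticMap (polar)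

theorem conj_Q0 {c x : Spor.Co1} (hc : c ∈ C0) (hx : x ∈ Q0) : c * x * c⁻¹ ∈ Q0 := by
  rw [Q0, Subgroup.mem_map] at hx ⊢
  obtain ⟨y, hy, e⟩ := hx
  let a : ↥Co1Centralizer.cz1 := ⟨c, hc⟩
  refine ⟨a * y * a⁻¹, (MonoidHom.normal_ker _).conj_mem y hy a, ?_⟩
  rw [← e]
  rfl

theorem Q0_le_C0 : Q0 ≤ C0 := fun _ hx => by obtain ⟨y, -, rfl⟩ := hx; exact y.2

theorem natCard_psi_range : Nat.card Co1Centralizer.psi.range = 174182400 := by
  rw [Co1Centralizer.psi_range]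
  exact card_omega

theorem natCard_C0 : Nat.card C0 = 2 ^ 9 * 174182400 := by
  have h := Co1Centralizer.psi.ker.index_mul_card
  rw [Subgroup.index_ker, natCard_psi_range, Co1Centralizer.natCard_Qz] at h
  exact h.symm.trans (mul_comm _ _)

theorem index_L0_C0 : (L0.subgroupOf C0).index = 135 := by
  have h1 := (L0.subgroupOf N0).card_mul_index
  rw [index_L0, Nat.card_congr (Subgroup.subgroupOfEquivOfLe inf_le_left).toEquiv, natCard_N0] at h1
  have h2 := (L0.subgroupOf C0).card_mul_index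
  rw [Nat.card_congr (Subgroup.subgroupOfEquivOfLe inf_le_right).toEquiv, natCard_C0] at h2
  have h1' : Nat.card ↥L0 * 759 = 501397585920 := h1
  have h3 : Nat.card ↥L0 = 660602880 := by omega
  rw [h3] at h2
  omega

theorem polar_dual : ∀ (w : V8) (j : J8), cv w * cp (Pi.single j 1) + cp w * cv (Pi.single j 1) +
    bU (pu w) (pu (Pi.single j 1)) = w j.swap := by decide +kernel

theorem exists_polar_eq (l : V8 →+ ZMod 2) : ∃ w : V8, ∀ v, polar ⇑qm w v = l v := by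
  refine ⟨fun j => l (Pi.single j.swap 1), fun v => ?_⟩
  have hv : v = ∑ j : J8, Pi.single j (v j) := (Finset.univ_sum_single v).symm
  have hs : ∀ j : J8, (Pi.single j (v j) : V8) = v j • (Pi.single j 1 : V8) := fun j => by
    rw [← Pi.single_smul, smul_eq_mul, mul_one]
  set w : V8 := fun j => l (Pi.single j.swap 1)
  let p : V8 →+ ZMod 2 := AddMonoidHom.mk' (fun v => polar ⇑qm w v) fun a b =>
    QuadraticMap.polar_add_right _ _ _ _
  show p v = l v
  rw [hv, map_sum, map_sum]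
  refine Finset.sum_congr rfl fun j _ => ?_
  rcases z2 (v j) with h | h <;> rw [h]
  · simp
  · show polar ⇑qm w (Pi.single j 1) = _
    rw [CoType.polar_eq, polar_dual]
    simp [w, Sum.swap_swap]

variable {G : Type*} [Group G] {F : CoType.Fr G} [Finite G] {P : CoOneA.Pre F}

namespace FN

variable (E : FN P)

include E in
theorem z0_mem_Q0 (hs : P.Std) : z0 ∈ Q0 := by
  obtain ⟨x, hx, h⟩ := E.exists_of_mem_Q hs F.T.data.z_mem
  have h1 := E.f_inj (h.trans E.f_z0.symm)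
  rw [← show x = z0 from congrArg (fun a : ↥N0 => (a : Spor.Co1)) h1]
  exact hx

/-- The coordinates of an element of the radical. -/
noncomputable def coord (x : ↥Q0) : V8 := F.T.c (E.f ⟨x.1, Q0_le x.2⟩)

theorem coord_mul (hs : P.Std) (x y : ↥Q0) : E.coord (x * y) = E.coord x + E.coord y := by
  rw [coord, coord, coord, ← F.T.c_mul _ (E.map_Q0 hs x.2) _ (E.map_Q0 hs y.2), ← map_mul]
  rfl

theorem coord_surj (hs : P.Std) (w : V8) : ∃ x, E.coord x = w := by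
  obtain ⟨q, hq, hc⟩ := F.T.c_surj w
  obtain ⟨x, hx, rfl⟩ := E.exists_of_mem_Q hs hq
  exact ⟨⟨x, hx⟩, hc⟩

theorem coord_ker (hs : P.Std) {x : ↥Q0} (h : E.coord x = 0) : (x : Spor.Co1) = 1 ∨ (x : Spor.Co1) = z0 := by
  rcases F.T.c_ker _ (E.map_Q0 hs x.2) h with e | e
  · exact Or.inl (congrArg (fun a : ↥N0 => (a : Spor.Co1)) (E.f_inj (e.trans (map_one E.f).symm)))
  · exact Or.inr (congrArg (fun a : ↥N0 => (a : Spor.Co1)) (E.f_inj (e.trans E.f_z0.symm)))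

theorem coord_eq_of (hs : P.Std) {x y : ↥Q0} (h : E.coord x = E.coord y) :
    (y : Spor.Co1) = x ∨ (y : Spor.Co1) = x * z0 := by
  have h1 : E.coord (x⁻¹ * y) = 0 := by
    have h2 : E.coord x⁻¹ = E.coord x := by
      rw [coord, show (⟨(x⁻¹ : ↥Q0).1, Q0_le (x⁻¹ : ↥Q0).2⟩ : ↥N0) = (⟨x.1, Q0_le x.2⟩ : ↥N0)⁻¹ from rfl,
        map_inv, F.T.c_inv (E.map_Q0 hs x.2), coord]
    rw [E.coord_mul hs, h2, h, ZModModule.add_self]
  rcases E.coord_ker hs h1 with e | e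
  · exact Or.inl (inv_mul_eq_one.1 e).symm
  · exact Or.inr (eq_mul_of_inv_mul_eq e)

/-- The conjugate of an element of the radical. -/
noncomputable def cj (c : ↥C0) (x : ↥Q0) : ↥Q0 := ⟨c.1 * x.1 * c.1⁻¹, conj_Q0 c.2 x.2⟩

theorem cj_mul (c : ↥C0) (x y : ↥Q0) : cj c (x * y) = cj c x * cj c y :=
  Subtype.ext (show c.1 * (x.1 * y.1) * c.1⁻¹ = c.1 * x.1 * c.1⁻¹ * (c.1 * y.1 * c.1⁻¹) by group)

theorem cj_cj (c d : ↥C0) (x : ↥Q0) : cj (c * d) x = cj c (cj d x) :=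
  Subtype.ext (show c.1 * d.1 * x.1 * (c.1 * d.1)⁻¹ = c.1 * (d.1 * x.1 * d.1⁻¹) * c.1⁻¹ by group)

theorem exists_act0 (hs : P.Std) :
    ∃ ρ0 : ↥C0 →* IsoGrp qm, ∀ c x, ap (ρ0 c) (E.coord x) = E.coord (cj c x) := by
  classical
  choose sec hsec using E.coord_surj hs
  have hwd : ∀ c x y, E.coord x = E.coord y → E.coord (cj c x) = E.coord (cj c y) := by
    intro c x y h
    rcases E.coord_eq_of hs h with e | e
    · rw [show y = x from Subtype.ext e]
    · have hy : y = x * ⟨z0, E.z0_mem_Q0 hs⟩ := Subtype.ext e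
      have hz : cj c ⟨z0, E.z0_mem_Q0 hs⟩ = ⟨z0, E.z0_mem_Q0 hs⟩ := Subtype.ext (by
        show c.1 * z0 * c.1⁻¹ = z0
        rw [mem_C0.1 c.2, mul_inv_cancel_right])
      have h0 : E.coord ⟨z0, E.z0_mem_Q0 hs⟩ = 0 := by
        show F.T.c (E.f ⟨z0, z0_mem⟩) = 0
        rw [E.f_z0]; exact F.T.c_z
      rw [hy, cj_mul, E.coord_mul hs, hz, h0, add_zero]
  let L : ↥C0 → (V8 →ₗ[ZMod 2] V8) := fun c => AddMonoidHom.toZModLinearMap 2
    (AddMonoidHom.mk' (fun w => E.coord (cj c (sec w))) fun a b => by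
      rw [← E.coord_mul hs, ← cj_mul]
      exact hwd c _ _ (by rw [E.coord_mul hs, hsec, hsec, hsec]))
  have hL : ∀ c x, L c (E.coord x) = E.coord (cj c x) := fun c x => hwd c _ _ (hsec _)
  have hone : ∀ x : ↥Q0, cj 1 x = x := fun x => Subtype.ext (by simp [cj])
  let Lh : ↥C0 →* Module.End (ZMod 2) V8 :=
    { toFun := L
      map_one' := LinearMap.ext fun w => by
        obtain ⟨x, rfl⟩ := E.coord_surj hs w
        rw [hL, hone]; rfl
      map_mul' := fun c d => LinearMap.ext fun w => by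
        obtain ⟨x, rfl⟩ := E.coord_surj hs w
        rw [hL, Module.End.mul_apply, hL, hL, cj_cj] }
  let M : ↥C0 →* Matrix J8 J8 (ZMod 2) :=
    (LinearMap.toMatrixAlgEquiv' (R := ZMod 2) (n := J8)).toAlgHom.toMonoidHom.comp Lh
  have hM : ∀ c v, (M c).mulVec v = L c v := fun c v => by
    show (LinearMap.toMatrixAlgEquiv' (Lh c)).mulVec v = _
    rw [← Matrix.toLinAlgEquiv'_apply, Matrix.toLinAlgEquiv'_toMatrixAlgEquiv']
    rfl
  have hq : ∀ c v, qm ((M c).mulVec v) = qm v := fun c v => by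
    rw [hM]
    obtain ⟨x, rfl⟩ := E.coord_surj hs v
    rw [hL]
    refine pw_inj F.z_ne ?_
    have e1 := F.T.sq _ (E.map_Q0 hs x.2)
    have e2 := F.T.sq _ (E.map_Q0 hs (cj c x).2)
    refine e2.symm.trans (Eq.trans ?_ e1)
    rw [← map_mul, ← map_mul]
    rcases F.T.data.sq (E.map_Q0 hs x.2) with h | h
    · have hx : (x : Spor.Co1) * x = 1 := congrArg (fun a : ↥N0 => (a : Spor.Co1))
        (E.f_inj (((map_mul E.f _ _).trans h).trans (map_one E.f).symm))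
      congr 1
      refine Subtype.ext ?_
      show c.1 * x.1 * c.1⁻¹ * (c.1 * x.1 * c.1⁻¹) = x.1 * x.1
      rw [show c.1 * x.1 * c.1⁻¹ * (c.1 * x.1 * c.1⁻¹) = c.1 * (x.1 * x.1) * c.1⁻¹ by group, hx]
      group
    · have hx : (x : Spor.Co1) * x = z0 := congrArg (fun a : ↥N0 => (a : Spor.Co1))
        (E.f_inj (((map_mul E.f _ _).trans h).trans E.f_z0.symm))
      congr 1
      refine Subtype.ext ?_
      show c.1 * x.1 * c.1⁻¹ * (c.1 * x.1 * c.1⁻¹) = x.1 * x.1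
      rw [show c.1 * x.1 * c.1⁻¹ * (c.1 * x.1 * c.1⁻¹) = c.1 * (x.1 * x.1) * c.1⁻¹ by group, hx,
        mem_C0.1 c.2, mul_inv_cancel_right]
  refine ⟨{ toFun := fun c => ⟨M.toHomUnits c, fun v _ => hq c v⟩
            map_one' := Subtype.ext (map_one _)
            map_mul' := fun c d => Subtype.ext (map_mul _ c d) }, fun c x => ?_⟩
  show (M c).mulVec _ = _
  rw [hM, hL]

theorem act0_omega (ρ0 : ↥C0 →* IsoGrp qm) (hρ : ∀ c x, ap (ρ0 c) (E.coord x) = E.coord (cj c x))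
    (hs : P.Std) (c : ↥C0) : ρ0 c ∈ Cfsg.Omega (ZMod 2) ⇑qm := by
  haveI := Co1Centralizer.isSimpleGroup_omega
  have hnm := Subgroup.normal_of_index_eq_two index_omega
  set K := (Cfsg.Omega (ZMod 2) ⇑qm).comap ρ0
  haveI : K.Normal := hnm.comap ρ0
  suffices h : K = ⊤ by exact (h ▸ Subgroup.mem_top c : c ∈ K)
  have hker : Co1Centralizer.psi.ker ≤ K := by
    intro q hq
    have hq' : (q : Spor.Co1) ∈ Q0 := ⟨q, hq, rfl⟩
    show ρ0 q ∈ Cfsg.Omega (ZMod 2) ⇑qm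
    suffices h : ρ0 q = 1 by rw [h]; exact one_mem _
    refine ext_ap fun v => ?_
    obtain ⟨x, rfl⟩ := E.coord_surj hs v
    rw [hρ, ap_one]
    have e : cj q x = ⟨(q : Spor.Co1), hq'⟩ * x * ⟨(q : Spor.Co1), hq'⟩⁻¹ := rfl
    rw [e, E.coord_mul hs, E.coord_mul hs]
    have h2 : E.coord (⟨(q : Spor.Co1), hq'⟩⁻¹ : ↥Q0) = E.coord ⟨(q : Spor.Co1), hq'⟩ := by
      show F.T.c (E.f (⟨(q : Spor.Co1), Q0_le hq'⟩ : ↥N0)⁻¹) = _
      rw [map_inv, F.T.c_inv (E.map_Q0 hs hq'), coord]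
    rw [h2, add_comm (E.coord _) (E.coord x), add_assoc, ZModModule.add_self, add_zero]
  let f : ↥C0 →* ↥(Cfsg.Omega (ZMod 2) (quadFormPlus 4 (ZMod 2))) :=
    Co1Centralizer.psi.codRestrict _ fun c => Co1Centralizer.psi_range ▸ ⟨c, rfl⟩
  have hf : Function.Surjective f := by
    rintro ⟨x, hx⟩
    obtain ⟨c, hc⟩ := Co1Centralizer.psi_range ▸ hx
    exact ⟨c, Subtype.ext hc⟩
  have hfk : f.ker = Co1Centralizer.psi.ker := MonoidHom.ker_codRestrict _ _ _
  rcases ((inferInstance : K.Normal).map f hf).eq_bot_or_eq_top with h | h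
  · exfalso
    rw [Subgroup.map_eq_bot_iff, hfk] at h
    have hle := le_antisymm h hker
    have h1 : K.index ≤ 2 := by
      rw [Subgroup.index_comap]
      exact (Nat.le_of_dvd (by rw [index_omega]; norm_num)
        (Subgroup.relIndex_dvd_index_of_normal _ _)).trans_eq index_omega
    rw [hle, Subgroup.index_ker, natCard_psi_range] at h1
    omega
  · refine eq_top_iff.2 fun x _ => ?_
    have h2 : f x ∈ K.map f := h ▸ Subgroup.mem_top _
    obtain ⟨k, hk, hkx⟩ := h2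
    have h3 : k⁻¹ * x ∈ K := hker (by
      rw [← hfk, MonoidHom.mem_ker, map_mul, map_inv, hkx, inv_mul_cancel])
    simpa using mul_mem hk h3

theorem exists_compat (hs : P.Std) (c0 : ↥C0) :
    ∃ g : G, g * F.z = F.z * g ∧
      ∀ x : ↥Q0, g * E.f ⟨x.1, Q0_le x.2⟩ * g⁻¹ = E.f ⟨(cj c0 x).1, Q0_le (cj c0 x).2⟩ := by
  classical
  obtain ⟨ρ0, hρ⟩ := E.exists_act0 hs
  obtain ⟨g, hg, hgρ⟩ := F.T.ρ_surj _ (E.act0_omega ρ0 hρ hs c0)
  set f : ↥Q0 → G := fun x => E.f ⟨x.1, Q0_le x.2⟩ with hf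
  have hfQ : ∀ x, f x ∈ F.Q := fun x => E.map_Q0 hs x.2
  have hfmul : ∀ x y, f (x * y) = f x * f y := fun x y => by
    simp only [hf, ← map_mul]; rfl
  have hdiff : ∀ x, ∃ l : ZMod 2, g * f x * g⁻¹ = f (cj c0 x) * pw F.z l := by
    intro x
    have hm := F.T.data.norm g hg _ (hfQ x)
    have hc : F.T.c (f (cj c0 x)) = F.T.c (g * f x * g⁻¹) := by
      rw [F.T.ρ_conj g hg _ (hfQ x), hgρ]
      exact (hρ c0 x).symm
    rcases F.T.c_eq (hfQ _) hm hc with e | e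
    · exact ⟨0, by rw [e, pw_zero, mul_one]⟩
    · exact ⟨1, by rw [e, pw_one]⟩
  choose l hl using hdiff
  have hladd : ∀ x y, l (x * y) = l x + l y := by
    intro x y
    have h := hl (x * y)
    rw [hfmul, show g * (f x * f y) * g⁻¹ = (g * f x * g⁻¹) * (g * f y * g⁻¹) by group, hl, hl,
      cj_mul, hfmul] at h
    have hcz : pw F.z (l x) * f (cj c0 y) = f (cj c0 y) * pw F.z (l x) :=
      (pw_comm _ (F.T.Qz (hfQ _)) _).symm
    rw [mul_assoc (f (cj c0 x)), ← mul_assoc (pw F.z (l x)), hcz, mul_assoc (f (cj c0 y)),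
      ← pw_add F.z_sq, ← mul_assoc] at h
    exact (pw_inj F.z_ne (mul_left_cancel h)).symm
  obtain ⟨sec, hsec⟩ := (fun c x => ⟨cj c⁻¹ x, Subtype.ext (by simp [cj, mul_assoc])⟩ :
    ∀ c x, ∃ y, cj c y = x) c0 |> fun h => Classical.axiomOfChoice h
  have hl0 : ∀ x y, E.coord x = E.coord y → l x = l y := by
    intro x y h
    rcases E.coord_eq_of hs h with e | e
    · rw [show y = x from Subtype.ext e]
    · have hy : y = x * ⟨z0, E.z0_mem_Q0 hs⟩ := Subtype.ext e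
      have hz : cj c0 ⟨z0, E.z0_mem_Q0 hs⟩ = ⟨z0, E.z0_mem_Q0 hs⟩ := Subtype.ext (by
        show c0.1 * z0 * c0.1⁻¹ = z0
        rw [mem_C0.1 c0.2, mul_inv_cancel_right])
      have h0 : l ⟨z0, E.z0_mem_Q0 hs⟩ = 0 := by
        have hh := hl ⟨z0, E.z0_mem_Q0 hs⟩
        rw [hz, show f ⟨z0, E.z0_mem_Q0 hs⟩ = F.z from E.f_z0, hg, mul_inv_cancel_right] at hh
        refine pw_inj F.z_ne ?_
        rw [pw_zero]; exact (mul_eq_left.1 hh.symm)
      rw [hy, hladd, h0, add_zero]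
  choose sec' hsec' using E.coord_surj hs
  let lam : V8 →+ ZMod 2 := AddMonoidHom.mk' (fun w => l (sec (sec' w))) fun a b => by
    rw [← hladd]
    refine hl0 _ _ ?_
    have e : cj c0 (sec (sec' a) * sec (sec' b)) = sec' a * sec' b := by rw [cj_mul, hsec, hsec]
    rw [← ap_inv_ap (ρ0 c0) (E.coord (sec (sec' (a + b)))), hρ, hsec, hsec',
      ← ap_inv_ap (ρ0 c0) (E.coord (sec (sec' a) * sec (sec' b))), hρ, e, E.coord_mul hs, hsec', hsec']
  obtain ⟨w, hw⟩ := exists_polar_eq lam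
  obtain ⟨q, hq, hqc⟩ := F.T.c_surj w
  refine ⟨q * g, ?_, fun x => ?_⟩
  · rw [mul_assoc, hg, ← mul_assoc, F.T.Qz hq, mul_assoc]
  · set y := cj c0 x
    have hy : l x = lam (E.coord y) := by
      refine hl0 _ _ ?_
      rw [← ap_inv_ap (ρ0 c0) (E.coord x), hρ,
        ← ap_inv_ap (ρ0 c0) (E.coord (sec (sec' (E.coord y)))), hρ, hsec, hsec']
    have hc := F.T.comm_Q hq (hfQ y)
    rw [hqc, show F.T.c (f y) = E.coord y from rfl, hw, ← hy, commutatorElement_def] at hc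
    show q * g * f x * (q * g)⁻¹ = f y
    calc q * g * f x * (q * g)⁻¹ = q * (g * f x * g⁻¹) * q⁻¹ := by group
      _ = q * (f y * pw F.z (l x)) * q⁻¹ := by rw [hl]
      _ = (q * f y * q⁻¹ * (f y)⁻¹) * (f y * (q * pw F.z (l x) * q⁻¹)) := by group
      _ = pw F.z (l x) * (f y * pw F.z (l x)) := by
          rw [hc, pw_comm q (F.T.Qz hq), mul_inv_cancel_right]
      _ = f y * (pw F.z (l x) * pw F.z (l x)) := by
          rw [← mul_assoc, ← pw_comm _ (F.T.Qz (hfQ y)), mul_assoc]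
      _ = f y := by rw [pw_sq F.z_sq, mul_one]

set_option maxHeartbeats 1600000 in
theorem exists_fC (hs : P.Std) : ∃ fC : ↥C0 →* G, Function.Injective fC ∧
    (∀ g : G, g * F.z = F.z * g ↔ g ∈ fC.range) ∧
    ∀ x (hN : x ∈ N0) (hC : x ∈ C0), fC ⟨x, hC⟩ = E.f ⟨x, hN⟩ := by
  classical
  have memC : ∀ g : G, g ∈ Subgroup.centralizer ({F.z} : Set G) ↔ g * F.z = F.z * g :=
    fun g => Subgroup.mem_centralizer_singleton_iff
  let ff : ↥Q0 → G := fun x => E.f ⟨x.1, Q0_le x.2⟩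
  let Ok : ↥C0 × ↥(Subgroup.centralizer ({F.z} : Set G)) → Prop :=
    fun p => ∀ x : ↥Q0, (p.2 : G) * ff x * (p.2 : G)⁻¹ = ff (cj p.1 x)
  let D : Subgroup (↥C0 × ↥(Subgroup.centralizer ({F.z} : Set G))) :=
    { carrier := {p | Ok p}
      one_mem' := fun x => by
        show (1 : G) * ff x * (1 : G)⁻¹ = ff (cj 1 x)
        rw [show cj 1 x = x from Subtype.ext (by simp [cj])]
        simp
      mul_mem' := fun {p q} hp hq x => by
        show (p.2 * q.2 : G) * ff x * (p.2 * q.2 : G)⁻¹ = ff (cj (p.1 * q.1) x)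
        rw [cj_cj, ← hp, ← hq]; group
      inv_mem' := fun {p} hp x => by
        show (p.2 : G)⁻¹ * ff x * (p.2 : G)⁻¹⁻¹ = ff (cj p.1⁻¹ x)
        have h := hp (cj p.1⁻¹ x)
        rw [show cj p.1 (cj p.1⁻¹ x) = x from Subtype.ext (by simp [cj, mul_assoc])] at h
        rw [← h]; group }
  let π : ↥D →* ↥C0 := (MonoidHom.fst _ _).comp D.subtype
  have hπ : Function.Surjective π := fun c0 => by
    obtain ⟨g, hg, h⟩ := E.exists_compat hs c0
    exact ⟨⟨(c0, ⟨g, (memC g).2 hg⟩), h⟩, rfl⟩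
  have hkerv : ∀ d : ↥D, π d = 1 → ((d.1.2 : G) = 1 ∨ (d.1.2 : G) = F.z) := by
    intro d hd
    refine F.T.data.cent _ fun q hq => ?_
    obtain ⟨x, hx, rfl⟩ := E.exists_of_mem_Q hs hq
    have h := d.2 ⟨x, hx⟩
    rw [show d.1.1 = 1 from hd, show cj 1 (⟨x, hx⟩ : ↥Q0) = ⟨x, hx⟩ from Subtype.ext (by simp [cj])] at h
    exact (mul_inv_eq_iff_eq_mul.1 h).symm
  have hcomm : IsMulCommutative π.ker := IsMulCommutative.of_comm fun a b => by
    have e1 : ∀ a : π.ker, ((a : ↥D).1.1) = 1 := fun a => MonoidHom.mem_ker.1 a.2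
    refine Subtype.ext (Subtype.ext (Prod.ext ?_ (Subtype.ext ?_)))
    · show (a : ↥D).1.1 * (b : ↥D).1.1 = (b : ↥D).1.1 * (a : ↥D).1.1
      rw [e1, e1]
    · show ((a : ↥D).1.2 : G) * ((b : ↥D).1.2 : G) = ((b : ↥D).1.2 : G) * ((a : ↥D).1.2 : G)
      rcases hkerv a (e1 a) with h | h <;> rcases hkerv b (e1 b) with h' | h' <;> simp [h, h']
  have hkcard : Nat.card π.ker ∣ 2 := by
    have hz : ((1, ⟨F.z, (memC _).2 rfl⟩) : ↥C0 × ↥(Subgroup.centralizer ({F.z} : Set G))) ∈ D := fun x => by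
      show F.z * ff x * F.z⁻¹ = ff (cj 1 x)
      rw [show cj 1 x = x from Subtype.ext (by simp [cj]), ← F.T.Qz (E.map_Q0 hs x.2), mul_inv_cancel_right]
    let g2 : Bool → π.ker := fun b => bif b then ⟨⟨_, hz⟩, MonoidHom.mem_ker.2 rfl⟩ else 1
    have hsurj : Function.Surjective g2 := fun a => by
      rcases hkerv a (MonoidHom.mem_ker.1 a.2) with h | h
      · exact ⟨false, (Subtype.ext (Subtype.ext (Prod.ext (MonoidHom.mem_ker.1 a.2) (Subtype.ext h)))).symm⟩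
      · exact ⟨true, (Subtype.ext (Subtype.ext (Prod.ext (MonoidHom.mem_ker.1 a.2) (Subtype.ext h)))).symm⟩
    have h2 := Nat.card_le_card_of_surjective g2 hsurj
    have h1 : 0 < Nat.card π.ker := Nat.card_pos
    rw [show Nat.card Bool = 2 by simp] at h2
    rcases (show Nat.card π.ker = 1 ∨ Nat.card π.ker = 2 by omega) with e | e <;> rw [e]
    norm_num
  let U : Subgroup ↥D := (L0.subgroupOf C0).comap π
  have hidx : (Nat.card π.ker).Coprime U.index := by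
    rw [Subgroup.index_comap_of_surjective _ hπ, index_L0_C0]
    exact Nat.Coprime.coprime_dvd_left hkcard (by norm_num)
  have hLz : ∀ l : ↥L0, E.f ⟨l.1, l.2.1⟩ * F.z = F.z * E.f ⟨l.1, l.2.1⟩ := fun l => by
    rw [← E.f_z0, ← map_mul, ← map_mul]
    exact congrArg E.f (Subtype.ext (mem_C0.1 l.2.2))
  let gr : ↥L0 →* ↥D := MonoidHom.mk'
    (fun l => ⟨(⟨l.1, l.2.2⟩, ⟨E.f ⟨l.1, l.2.1⟩, (memC _).2 (hLz l)⟩), fun x => by
      show E.f ⟨l.1, l.2.1⟩ * E.f ⟨x.1, Q0_le x.2⟩ * (E.f ⟨l.1, l.2.1⟩)⁻¹ = E.f _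
      rw [← map_mul, ← map_inv, ← map_mul]
      rfl⟩)
    fun a b => Subtype.ext (Prod.ext rfl (Subtype.ext (map_mul E.f ⟨a.1, a.2.1⟩ ⟨b.1, b.2.1⟩)))
  have hAK : gr.range ⊓ π.ker = ⊥ := (Subgroup.eq_bot_iff_forall _).2 fun d ⟨⟨l, hl⟩, hd⟩ => by
    subst hl
    have h1 : l = 1 := Subtype.ext (congrArg (fun c : ↥C0 => (c : Spor.Co1)) (MonoidHom.mem_ker.1 hd))
    rw [h1, map_one]
  have hKA : π.ker ⊔ gr.range = U := by
    refine le_antisymm (sup_le (fun d hd => ?_) ?_) fun d hd => ?_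
    · show π d ∈ L0.subgroupOf C0
      rw [MonoidHom.mem_ker.1 hd]; exact one_mem _
    · rintro _ ⟨l, rfl⟩
      exact l.2
    · have hl : ((π d : ↥C0) : Spor.Co1) ∈ L0 := hd
      rw [show d = (d * (gr ⟨_, hl⟩)⁻¹) * gr ⟨_, hl⟩ by group]
      refine Subgroup.mul_mem_sup ?_ ⟨_, rfl⟩
      rw [MonoidHom.mem_ker, map_mul, map_inv]
      exact mul_inv_eq_one.2 (Subtype.ext rfl)
  obtain ⟨K, hK⟩ := Solvable.gaschutz_exists (fun d hd => hKA ▸ Subgroup.mem_sup_left hd) hidx hAK hKA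
  let πK : ↥K →* ↥C0 := π.comp K.subtype
  have hbij : Function.Bijective πK := by
    refine ⟨(injective_iff_map_eq_one _).2 fun x hx => ?_, fun c0 => ?_⟩
    · have := hK.disjoint.le_bot (Subgroup.mem_inf.2 ⟨(MonoidHom.mem_ker.2 hx : (x : ↥D) ∈ π.ker), x.2⟩)
      exact Subtype.ext (Subgroup.mem_bot.1 this)
    · obtain ⟨d, hd⟩ := hπ c0
      obtain ⟨⟨a, b⟩, hab, -⟩ := hK.existsUnique d
      refine ⟨b, ?_⟩
      rw [← hd, ← show (a : ↥D) * b = d from hab, map_mul, MonoidHom.mem_ker.1 a.2, one_mul]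
      rfl
  let s : ↥C0 →* ↥D := K.subtype.comp (MulEquiv.ofBijective πK hbij).symm.toMonoidHom
  have hs1 : ∀ c, π (s c) = c := (MulEquiv.ofBijective πK hbij).apply_symm_apply
  let fC : ↥C0 →* G := (Subgroup.subtype _).comp ((MonoidHom.snd _ _).comp (D.subtype.comp s))
  have hfz : ∀ c, fC c * F.z = F.z * fC c := fun c => (memC _).1 ((s c).1.2).2
  have hfok : ∀ (c : ↥C0) (x : ↥Q0), fC c * ff x * (fC c)⁻¹ = ff (cj c x) := fun c x => by
    have h := (s c).2 x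
    rw [show (s c).1.1 = c from hs1 c] at h
    exact h
  have hagree : ∀ x (hN : x ∈ N0) (hC : x ∈ C0), fC ⟨x, hC⟩ = E.f ⟨x, hN⟩ := by
    let incl : ↥L0 →* ↥C0 := Subgroup.inclusion inf_le_right
    let χ : ↥L0 →* ↥(Subgroup.zpowers F.z) := MonoidHom.mk'
      (fun l => ⟨fC (incl l) * (E.f ⟨l.1, l.2.1⟩)⁻¹, by
        have hd : π (s (incl l) * (gr l)⁻¹) = 1 := by
          rw [map_mul, map_inv, hs1]
          exact mul_inv_eq_one.2 rfl
        have h' : fC (incl l) * (E.f ⟨l.1, l.2.1⟩)⁻¹ = 1 ∨ fC (incl l) * (E.f ⟨l.1, l.2.1⟩)⁻¹ = F.z :=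
          hkerv _ hd
        rcases h' with h | h <;> rw [h]
        · exact one_mem _
        · exact Subgroup.mem_zpowers _⟩)
      fun a b => Subtype.ext (by
        show fC (incl (a * b)) * (E.f _)⁻¹ = fC (incl a) * (E.f _)⁻¹ * (fC (incl b) * (E.f _)⁻¹)
        rw [map_mul incl, map_mul fC,
          show (⟨(a * b : ↥L0).1, (a * b : ↥L0).2.1⟩ : ↥N0) = ⟨a.1, a.2.1⟩ * ⟨b.1, b.2.1⟩ from rfl,
          map_mul E.f, mul_inv_rev]
        set u := fC (incl b) * (E.f ⟨b.1, b.2.1⟩)⁻¹ with hu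
        have hu' : u = 1 ∨ u = F.z := hkerv (s (incl b) * (gr b)⁻¹) (by
          rw [map_mul, map_inv, hs1]; exact mul_inv_eq_one.2 rfl)
        have hcz : u * (E.f ⟨a.1, a.2.1⟩)⁻¹ = (E.f ⟨a.1, a.2.1⟩)⁻¹ * u := by
          rcases hu' with h | h <;> rw [h]
          · simp
          · exact ((Commute.inv_left (show Commute (E.f ⟨a.1, a.2.1⟩) F.z from hLz a)).eq).symm
        calc fC (incl a) * fC (incl b) * ((E.f ⟨b.1, b.2.1⟩)⁻¹ * (E.f ⟨a.1, a.2.1⟩)⁻¹)
            = fC (incl a) * (u * (E.f ⟨a.1, a.2.1⟩)⁻¹) := by rw [hu]; group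
          _ = _ := by rw [hcz]; group)
    intro x hN hC
    have hA : ∀ a b : ↥(Subgroup.zpowers F.z), a * b = b * a := fun a b => mul_comm' a b
    have h2 : ∀ a : ↥(Subgroup.zpowers F.z), a * a = 1 := fun a => by
      obtain ⟨_, k, rfl⟩ := a
      refine Subtype.ext ?_
      show F.z ^ k * F.z ^ k = 1
      rw [← (Commute.refl F.z).mul_zpow, F.z_sq, one_zpow]
    have h := congrArg Subtype.val (hom_L0_trivial hA h2 χ ⟨x, hN, hC⟩)
    exact mul_inv_eq_one.1 h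
  have hinj : Function.Injective fC := (injective_iff_map_eq_one _).2 fun c hc => by
    have hfix : ∀ x : ↥Q0, cj c x = x := fun x => by
      have h := hfok c x
      rw [hc, one_mul, inv_one, mul_one] at h
      exact Subtype.ext (congrArg (fun a : ↥N0 => (a : Spor.Co1)) (E.f_inj h.symm))
    have hcQ : c ∈ Co1Centralizer.psi.ker := Co1Centralizer.centralizer_Qz_le
      (Subgroup.mem_centralizer_iff.2 fun q hq => by
        have h := congrArg (fun a : ↥Q0 => (a : Spor.Co1)) (hfix ⟨q.1, q, hq, rfl⟩)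
        refine Subtype.ext ?_
        exact (mul_inv_eq_iff_eq_mul.1 h).symm)
    have hx : (c : Spor.Co1) ∈ Q0 := ⟨c, hcQ, rfl⟩
    have h2 := hagree c.1 (Q0_le hx) c.2
    rw [hc] at h2
    exact Subtype.ext (congrArg (fun a : ↥N0 => (a : Spor.Co1)) (E.f_inj (h2.symm.trans (map_one E.f).symm)))
  refine ⟨fC, hinj, ?_, hagree⟩
  intro g
  refine ⟨fun hg => ?_, fun ⟨c, h⟩ => h ▸ hfz c⟩
  -- the order of the centraliser
  have hle : fC.range ≤ Subgroup.centralizer ({F.z} : Set G) := fun _ ⟨c, h⟩ => h ▸ (memC _).2 (hfz c)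
  have hcard : Nat.card ↥(Subgroup.centralizer ({F.z} : Set G)) ≤ Nat.card fC.range := by
    rw [← Nat.card_congr (MonoidHom.ofInjective hinj).toEquiv, natCard_C0]
    let rh : ↥(Subgroup.centralizer ({F.z} : Set G)) →* IsoGrp qm := MonoidHom.mk' (fun a => F.T.ρ a.1)
      fun a b => F.T.ρ_mul _ _ ((memC _).1 a.2) ((memC _).1 b.2)
    have hk : rh.ker = F.Q.subgroupOf _ := by
      ext a
      exact F.T.ρ_ker _ ((memC _).1 a.2)
    have h := rh.ker.index_mul_card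
    rw [Subgroup.index_ker] at h
    have hr : Nat.card rh.range ≤ 174182400 := by
      rw [← card_omega]
      exact Subgroup.card_le_of_le (fun _ ⟨a, ha⟩ => ha ▸ F.T.ρ_mem _ ((memC _).1 a.2))
    have hq : Nat.card rh.ker = 2 ^ 9 := by
      rw [hk, ← F.T.card_Q]
      exact Nat.card_congr (Subgroup.subgroupOfEquivOfLe fun q hq => (memC q).2 (F.T.Qz hq)).toEquiv
    rw [← h, hq, mul_comm (2 ^ 9) (174182400 : ℕ)]
    exact Nat.mul_le_mul_right _ hr
  rw [Subgroup.eq_of_le_of_card_ge hle hcard]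
  exact (memC g).2 hg

end FN

end Cfsg.Agent.CoOneUniq
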