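/-
The twisting lemma: conjugation relations between the monomial subgroup and the sextet element.

* `mem_pair_of_fix` : an element fixing the centralizer of a non-central involution in the radical pointwise
* `FN.twist` : `x ι s x = ι s'` for `s` moving the octad to a disjoint one
-/
import Cfsg.Agent.Lib.CoOneUniq.HomC
import Cfsg.Agent.Lib.CoOneUniq.Codes

set_option autoImplicit false
open scoped Pointwise symmDiff

namespace Cfsg.Agent.CoOneUniq

open Cfsg Cfsg.Agent.Leech Cfsg.Agent.CoOneA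
open Cfsg.Agent.Co2Centralizer (oct oct_mem inv0 inv0_smul octSub lift)

/-- An element normalising the radical and fixing the centralizer of `v` pointwise. -/
theorem mem_pair_of_fix {G : Type*} [Group G] {Q : Subgroup G} {z v d : G} (hz : z * z = 1)
    (hzc : ∀ q ∈ Q, q * z = z * q) (hcomm : ∀ a ∈ Q, ∀ b ∈ Q, a * b = b * a ∨ a * b = b * a * z)
    (hcent : ∀ g : G, (∀ q ∈ Q, g * q = q * g) → g = 1 ∨ g = z) (hv : v ∈ Q) (hv2 : v * v = 1) (hzQ : z ∈ Q)
    (hv1 : v ≠ 1) (hvz : v ≠ z) (hd : ∀ q ∈ Q, d * q * d⁻¹ ∈ Q)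
    (hfix : ∀ q ∈ Q, q * v = v * q → d * q = q * d) : d = 1 ∨ d = z ∨ d = v ∨ d = v * z := by
  obtain ⟨q, hq, hqv⟩ : ∃ q ∈ Q, ¬ q * v = v * q := by
    by_contra! h
    rcases hcent v (fun q hq => (h q hq).symm) with e | e
    exacts [hv1 e, hvz e]
  have hqv' : q * v = v * q * z := (hcomm q hq v hv).resolve_left hqv
  -- every element of the radical centralizes `v` after correcting by `q`
  have hsplit : ∀ w ∈ Q, w * v = v * w ∨ (q⁻¹ * w) * v = v * (q⁻¹ * w) := by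
    intro w hw
    rcases hcomm w hw v hv with h | h
    · exact Or.inl h
    · refine Or.inr ?_
      have e : q⁻¹ * v = v * z * q⁻¹ := by
        rw [eq_mul_inv_iff_mul_eq, mul_assoc, inv_mul_eq_iff_eq_mul]
        calc v * q = q * v * z := by rw [hqv', mul_assoc, hz, mul_one]
          _ = q * (v * z) := mul_assoc _ _ _
      calc q⁻¹ * w * v = q⁻¹ * (v * w * z) := by rw [mul_assoc, h]
        _ = v * z * q⁻¹ * w * z := by rw [← e]; group
        _ = v * (z * (q⁻¹ * w) * z) := by group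
        _ = v * (q⁻¹ * w) := by
          rw [← hzc _ (mul_mem (inv_mem hq) hw), mul_assoc, hz, mul_one]
  -- elements fixing the centralizer of `v` and `q` are central
  have hall : ∀ e : G, (∀ w ∈ Q, w * v = v * w → e * w = w * e) → e * q = q * e → e = 1 ∨ e = z := by
    intro e he heq
    refine hcent e fun w hw => ?_
    rcases hsplit w hw with h | h
    · exact he w hw h
    · have h1 := he _ (mul_mem (inv_mem hq) hw) h
      calc e * w = e * q * (q⁻¹ * w) := by group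
        _ = q * (e * (q⁻¹ * w)) := by rw [heq, mul_assoc]
        _ = _ := by rw [h1]; group
  set k := q⁻¹ * (d * q * d⁻¹) with hk
  have hkQ : k ∈ Q := mul_mem (inv_mem hq) (hd q hq)
  have hdq : d * q * d⁻¹ = q * k := by rw [hk]; group
  clear_value k
  have hzd : d * z = z * d := hfix z hzQ (hzc v hv).symm
  have hkc : ∀ w ∈ Q, w * v = v * w → k * w = w * k := by
    intro w hw h
    have hdw := hfix w hw h
    rcases hcomm q hq w hw with e | e
    · have e1 : q * k * w = w * (q * k) := by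
        rw [← hdq]
        calc d * q * d⁻¹ * w = d * q * d⁻¹ * (w * d) * d⁻¹ := by group
          _ = d * (q * w) * d⁻¹ := by rw [← hdw]; group
          _ = d * w * (q * d⁻¹) := by rw [e]; group
          _ = w * (d * q * d⁻¹) := by rw [hdw]; group
      rw [mul_assoc, ← mul_assoc w q k, ← e, mul_assoc] at e1
      exact mul_left_cancel e1
    · have e1 : q * k * w = w * (q * k) * z := by
        rw [← hdq]
        calc d * q * d⁻¹ * w = d * q * d⁻¹ * (w * d) * d⁻¹ := by group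
          _ = d * (q * w) * d⁻¹ := by rw [← hdw]; group
          _ = (d * w) * q * (z * d⁻¹) := by rw [e]; group
          _ = w * d * q * (d⁻¹ * (d * z)) * d⁻¹ := by rw [hdw]; group
          _ = w * (d * q * d⁻¹) * z := by rw [hzd]; group
      have e2 : w * q = q * w * z := by rw [e, mul_assoc, hz, mul_one]
      rw [← mul_assoc w q k, e2, mul_assoc (q * w) z k, ← hzc k hkQ, ← mul_assoc (q * w) k z,
        mul_assoc _ z z, hz, mul_one, mul_assoc, mul_assoc] at e1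
      exact mul_left_cancel e1
  have hk01 : k = 1 ∨ k = z := by
    rcases hcomm k hkQ q hq with e | e
    · exact hall k hkc e
    · -- otherwise `k * v` is central and the square of `q` changes
      exfalso
      have hvc : ∀ w ∈ Q, w * v = v * w → k * v * w = w * (k * v) := fun w hw h => by
        rw [mul_assoc, ← h, ← mul_assoc, hkc w hw h, mul_assoc]
      have hvq : k * v * q = q * (k * v) := by
        have e1 : v * q = q * v * z := by rw [hqv', mul_assoc, hz, mul_one]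
        rw [mul_assoc, e1, ← mul_assoc, ← mul_assoc, e, mul_assoc _ z v, ← hzc v hv,
          ← mul_assoc, mul_assoc _ z z, hz, mul_one, mul_assoc]
      have hk2 : k * k = 1 := by
        rcases hall _ hvc hvq with h | h
        · rw [eq_inv_of_mul_eq_one_left h, ← mul_inv_rev, hv2, inv_one]
        · have : k = z * v := by rw [← h, mul_assoc, hv2, mul_one]
          rw [this, mul_assoc, ← mul_assoc v, hzc v hv, mul_assoc z v v, hv2, mul_one, hz]
      have hqq : d * (q * q) * d⁻¹ = q * q := by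
        have hc : q * q * v = v * (q * q) := by
          rw [mul_assoc, hqv', ← mul_assoc, ← mul_assoc, hqv', mul_assoc (v * q) z q, ← hzc q hq,
            ← mul_assoc, mul_assoc _ z z, hz, mul_one, mul_assoc]
        rw [hfix _ (mul_mem hq hq) hc, mul_inv_cancel_right]
      have h1 : q * k * (q * k) = q * q := by
        rw [← hdq]
        calc d * q * d⁻¹ * (d * q * d⁻¹) = d * (q * q) * d⁻¹ := by group
          _ = _ := hqq
      rw [show q * k * (q * k) = q * (k * q) * k by group, e, show q * (q * k * z) * k = q * q * (k * z * k)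
        by group, mul_assoc k z k, ← hzc k hkQ, ← mul_assoc k k z, hk2, one_mul] at h1
      have : z = 1 := mul_left_cancel (h1.trans (mul_one _).symm)
      exact hqv (by rw [hqv', this, mul_one])
  rcases hk01 with hk1 | hk1
  · rw [hk1, mul_one, mul_inv_eq_iff_eq_mul] at hdq
    rcases hall d hfix hdq with h | h
    exacts [Or.inl h, Or.inr (Or.inl h)]
  · -- correct by `v`
    have hq' : (d * v) * q = q * (d * v) := by
      rw [hk1, mul_inv_eq_iff_eq_mul] at hdq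
      have e1 : v * q = q * v * z := by rw [hqv', mul_assoc, hz, mul_one]
      have hdv := hfix v hv rfl
      calc d * v * q = d * q * v * z := by rw [mul_assoc, e1]; group
        _ = q * (z * d) * v * z := by rw [hdq]; group
        _ = q * d * (z * v) * z := by rw [← hzd]; group
        _ = q * (d * v) * (z * z) := by rw [← hzc v hv]; group
        _ = _ := by rw [hz, mul_one]
    have hfix' : ∀ w ∈ Q, w * v = v * w → d * v * w = w * (d * v) := fun w hw h => by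
      rw [mul_assoc, ← h, ← mul_assoc, hfix w hw h, mul_assoc]
    rcases hall _ hfix' hq' with h | h
    · exact Or.inr (Or.inr (Or.inl (by
        rw [eq_inv_of_mul_eq_one_left h, inv_eq_of_mul_eq_one_right hv2])))
    · refine Or.inr (Or.inr (Or.inr ?_))
      rw [hzc v hv, ← h, mul_assoc, hv2, mul_one]

/-- Sign elements supported away from the octad lie in the radical. -/
theorem sign_mem_Q0 {c : CodeSet} (h : Disjoint c.1 oct) : nmono 1 c ∈ Q0 := by
  have hfix : ∀ x : octSub, mono0 1 c • lift x = lift x := by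
    intro x
    refine Subtype.ext (funext fun i => ?_)
    rw [mono0, vec_mono]
    simp only [signedPerm, OneMemClass.coe_one, Equiv.Perm.one_def, Equiv.refl_symm, Equiv.refl_apply]
    by_cases hi : i ∈ c.1
    · rw [if_pos hi]
      show -((x : GolayPt → ℤ) i) = (x : GolayPt → ℤ) i
      rw [x.2.2 i fun ho => Finset.disjoint_left.1 h hi ho, neg_zero]
    · rw [if_neg hi]
  have hcen : mono0 1 c ∈ Co1Centralizer.cen := by
    refine Co1Centralizer.mem_cen.2 (co0_ext fun v => Subtype.ext (funext fun i => ?_))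
    rw [mul_smul, mul_smul, mono0, vec_mono, inv0_smul]
    rw [vec_mono]
    simp only [signedPerm, OneMemClass.coe_one, Equiv.Perm.one_def, Equiv.refl_symm, Equiv.refl_apply,
      inv0_smul]
    split_ifs <;> simp
  refine ⟨Co1Centralizer.proj ⟨mono0 1 c, hcen⟩, ?_, rfl⟩
  rw [SetLike.mem_coe, MonoidHom.mem_ker, Co1Centralizer.psi_proj, ← MonoidHom.mem_ker]
  exact Co1Centralizer.mem_ker_of_fix hfix

/-- The structure of Conway type on Co1. -/
theorem exists_coC : ∃ T : CoType.Co Spor.Co1, T.z = z0 ∧ T.Q = Q0 := by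
  exact CoType.exists_co z0 Co1Centralizer.orderOf_z1 Co1Centralizer.psi.ker Co1Centralizer.genFitting_eq
    Co1Centralizer.isExtraspecial_Qz Co1Centralizer.natCard_Qz
    ((QuotientGroup.quotientKerEquivRange Co1Centralizer.psi).trans
      (MulEquiv.subgroupCongr Co1Centralizer.psi_range)) Co1Centralizer.exists_fused

variable {G : Type*} [Group G] {F : CoType.Fr G} [Finite G] {P : Pre F}

namespace FN

variable (E : FN P)

/-- The twisting lemma. -/
theorem twist (fC : ↥C0 →* G) (hfC : Function.Injective fC)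
    (hcen : ∀ g : G, g * F.z = F.z * g ↔ g ∈ fC.range)
    (hL : ∀ x (hN : x ∈ N0) (hC : x ∈ C0), fC ⟨x, hC⟩ = E.f ⟨x, hN⟩)
    {s s' m : ↥N0} (hconj : xiT * (s : Spor.Co1) * xiT = s')
    (hv : (s : Spor.Co1) * z0 * (s : Spor.Co1)⁻¹ ∈ Q0)
    (hvz : (s : Spor.Co1) * z0 * (s : Spor.Co1)⁻¹ ≠ z0)
    (hu : xiT * ((s : Spor.Co1)⁻¹ * z0 * s) = (s : Spor.Co1)⁻¹ * z0 * s * xiT)
    (hmC : (m : Spor.Co1) ∈ C0)
    (hmu : (m : Spor.Co1) * ((s : Spor.Co1)⁻¹ * z0 * s) = (s : Spor.Co1)⁻¹ * z0 * s * m)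
    (hcube : (xiT * (m : Spor.Co1)) * (xiT * m) * (xiT * m) = 1) :
    fC ⟨xiT, xiT_mem_cz1⟩ * E.f s * fC ⟨xiT, xiT_mem_cz1⟩ = E.f s' := by
  obtain ⟨S, hS⟩ := s
  obtain ⟨S', hS'⟩ := s'
  obtain ⟨M, hM⟩ := m
  change xiT * S * xiT = S' at hconj
  change S * z0 * S⁻¹ ∈ Q0 at hv
  change S * z0 * S⁻¹ ≠ z0 at hvz
  change xiT * (S⁻¹ * z0 * S) = S⁻¹ * z0 * S * xiT at hu
  change M ∈ C0 at hmC
  change M * (S⁻¹ * z0 * S) = S⁻¹ * z0 * S * M at hmu
  change xiT * M * (xiT * M) * (xiT * M) = 1 at hcube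
  have hξ := mem_C0.1 xiT_mem_cz1
  have hM0 := mem_C0.1 hmC
  -- conjugation by `S` takes the centraliser of `u` into that of `z0`, and of `z0` into that of `v`
  have cz : ∀ c : Spor.Co1, c * (S⁻¹ * z0 * S) = S⁻¹ * z0 * S * c → S * c * S⁻¹ ∈ C0 := fun c h =>
    mem_C0.2 (by
      calc S * c * S⁻¹ * z0 = S * (c * (S⁻¹ * z0 * S)) * S⁻¹ := by group
        _ = _ := by rw [h]; group)
  have cv : ∀ c : Spor.Co1, c * z0 = z0 * c →
      S * c * S⁻¹ * (S * z0 * S⁻¹) = S * z0 * S⁻¹ * (S * c * S⁻¹) := fun c h => by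
    calc S * c * S⁻¹ * (S * z0 * S⁻¹) = S * (c * z0) * S⁻¹ := by group
      _ = _ := by rw [h]; group
  set c' := S * xiT * S⁻¹ with hc'
  set m' := S * M * S⁻¹ with hm'
  have hc'C : c' ∈ C0 := cz _ hu
  have hm'C : m' ∈ C0 := cz _ hmu
  have hm'N : m' ∈ N0 := mul_mem (mul_mem hS hM) (inv_mem hS)
  set v := S * z0 * S⁻¹ with hvdef
  have hvC : v ∈ C0 := Q0_le_C0 hv
  have hv2 : v * v = 1 := by
    have h := Co1Centralizer.orderOf_z1
    have h2 : z0 * z0 = 1 := by rw [← pow_two, ← h]; exact pow_orderOf_eq_one _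
    calc v * v = S * (z0 * z0) * S⁻¹ := by rw [hvdef]; group
      _ = 1 := by rw [h2]; group
  have hzC : z0 ∈ C0 := mem_C0.2 rfl
  set x := fC ⟨xiT, xiT_mem_cz1⟩ with hx
  set zg := F.z with hzg
  have hfz : fC ⟨z0, hzC⟩ = zg := by rw [hL z0 z0_mem hzC]; exact E.f_z0
  set A := E.f ⟨S, hS⟩ * x * (E.f ⟨S, hS⟩)⁻¹ with hA
  have fN : ∀ {a b c : Spor.Co1} (ha : a ∈ N0) (hb : b ∈ N0) (hc : c ∈ N0), a * b = c →
      E.f ⟨a, ha⟩ * E.f ⟨b, hb⟩ = E.f ⟨c, hc⟩ := fun ha hb hc e => by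
    rw [← map_mul]; exact congrArg E.f (Subtype.ext e)
  have fC' : ∀ {a b c : Spor.Co1} (ha : a ∈ C0) (hb : b ∈ C0) (hc : c ∈ C0), a * b = c →
      fC ⟨a, ha⟩ * fC ⟨b, hb⟩ = fC ⟨c, hc⟩ := fun ha hb hc e => by
    rw [← map_mul]; exact congrArg fC (Subtype.ext e)
  -- `A` centralises `z`
  have hAz : A * zg = zg * A := by
    have huN : S⁻¹ * z0 * S ∈ N0 := mul_mem (mul_mem (inv_mem hS) z0_mem) hS
    have huC : S⁻¹ * z0 * S ∈ C0 := mem_C0.2 (by
      calc S⁻¹ * z0 * S * z0 = S⁻¹ * (z0 * (S * z0 * S⁻¹)) * S := by group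
        _ = S⁻¹ * (S * z0 * S⁻¹ * z0) * S := by rw [mem_C0.1 hvC]
        _ = _ := by group)
    have e1 : E.f ⟨S, hS⟩ * E.f ⟨_, huN⟩ = zg * E.f ⟨S, hS⟩ := by
      rw [hzg, ← E.f_z0, fN hS huN (mul_mem z0_mem hS) (by group), fN z0_mem hS (mul_mem z0_mem hS) rfl]
    have e2 : x * E.f ⟨_, huN⟩ = E.f ⟨_, huN⟩ * x := by
      rw [← hL _ huN huC, hx, ← map_mul, ← map_mul]
      exact congrArg fC (Subtype.ext hu)
    have e3 : (E.f ⟨S, hS⟩)⁻¹ * zg = E.f ⟨_, huN⟩ * (E.f ⟨S, hS⟩)⁻¹ := by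
      rw [eq_mul_inv_iff_mul_eq, mul_assoc, inv_mul_eq_iff_eq_mul, e1]
    calc A * zg = E.f ⟨S, hS⟩ * (x * ((E.f ⟨S, hS⟩)⁻¹ * zg)) := by rw [hA]; group
      _ = E.f ⟨S, hS⟩ * E.f ⟨_, huN⟩ * x * (E.f ⟨S, hS⟩)⁻¹ := by
        rw [e3, ← mul_assoc x, e2]; group
      _ = zg * A := by rw [e1, hA]; group
  obtain ⟨⟨a, ha⟩, hfa⟩ := (hcen A).1 hAz
  -- the difference fixes the centralizer of `v` in the radical
  have hk : ∀ q ∈ Q0, q * v = v * q → a * q * a⁻¹ = c' * q * c'⁻¹ := by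
    intro q hq hqv
    have hy : S⁻¹ * q * S ∈ N0 := mul_mem (mul_mem (inv_mem hS) (Q0_le hq)) hS
    have hyC : S⁻¹ * q * S ∈ C0 := mem_C0.2 (by
      calc S⁻¹ * q * S * z0 = S⁻¹ * (q * v) * S := by rw [hvdef]; group
        _ = S⁻¹ * (v * q) * S := by rw [hqv]
        _ = _ := by rw [hvdef]; group)
    have hr : c' * q * c'⁻¹ ∈ Q0 := conj_Q0 hc'C hq
    have hwC : xiT * (S⁻¹ * q * S) * xiT⁻¹ ∈ C0 :=
      mul_mem (mul_mem xiT_mem_cz1 hyC) (inv_mem xiT_mem_cz1)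
    have hw : xiT * (S⁻¹ * q * S) * xiT⁻¹ = S⁻¹ * (c' * q * c'⁻¹) * S := by rw [hc']; group
    have hwN : xiT * (S⁻¹ * q * S) * xiT⁻¹ ∈ N0 := hw ▸ mul_mem (mul_mem (inv_mem hS) (Q0_le hr)) hS
    have hqC : q ∈ C0 := Q0_le_C0 hq
    have e1 : x * E.f ⟨_, hy⟩ * x⁻¹ = E.f ⟨_, hwN⟩ := by
      rw [← hL _ hy hyC, ← hL _ hwN hwC, hx, ← map_inv, ← map_mul, ← map_mul]
      rfl
    have e2 : E.f ⟨_, hy⟩ = (E.f ⟨S, hS⟩)⁻¹ * E.f ⟨q, Q0_le hq⟩ * E.f ⟨S, hS⟩ := by
      rw [← map_inv, ← map_mul, ← map_mul]; rfl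
    have e3 : E.f ⟨_, hwN⟩ = (E.f ⟨S, hS⟩)⁻¹ * E.f ⟨_, Q0_le hr⟩ * E.f ⟨S, hS⟩ := by
      rw [← map_inv, ← map_mul, ← map_mul]; exact congrArg E.f (Subtype.ext hw)
    have e4 : A * E.f ⟨q, Q0_le hq⟩ * A⁻¹ = E.f ⟨_, Q0_le hr⟩ := by
      calc A * E.f ⟨q, Q0_le hq⟩ * A⁻¹
          = E.f ⟨S, hS⟩ * (x * ((E.f ⟨S, hS⟩)⁻¹ * E.f ⟨q, Q0_le hq⟩ * E.f ⟨S, hS⟩) * x⁻¹) *
            (E.f ⟨S, hS⟩)⁻¹ := by rw [hA]; group
        _ = _ := by rw [← e2, e1, e3]; group
    have e5 : fC ⟨a * q * a⁻¹, mul_mem (mul_mem ha hqC) (inv_mem ha)⟩ =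
        fC ⟨c' * q * c'⁻¹, Q0_le_C0 hr⟩ := by
      rw [hL _ (Q0_le hr) (Q0_le_C0 hr), ← e4, ← hfa, ← hL q (Q0_le hq) hqC, ← map_inv, ← map_mul,
        ← map_mul]
      rfl
    exact congrArg Subtype.val (hfC e5)
  obtain ⟨T, hTz, hTQ⟩ := exists_coC
  set k := c'⁻¹ * a with hkdef
  have hkC : k ∈ C0 := mul_mem (inv_mem hc'C) ha
  have hk4 : k = 1 ∨ k = z0 ∨ k = v ∨ k = v * z0 := by
    have hz2 : z0 * z0 = 1 := by
      rw [← pow_two, ← Co1Centralizer.orderOf_z1]; exact pow_orderOf_eq_one _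
    rw [← hTQ] at hv
    refine mem_pair_of_fix (Q := T.Q) hz2 (fun q hq => hTz ▸ T.Qz hq) (fun p hp q hq => ?_)
      (fun g hg => hTz ▸ T.data.cent g fun q hq => (hg q hq).symm) hv hv2 (hTz ▸ T.data.z_mem)
      (fun e => ?_) hvz (fun q hq => by rw [hTQ] at hq ⊢; exact conj_Q0 hkC hq)
      (fun q hq hqv => ?_)
    · have h := T.comm_Q hp hq
      rw [hTz, CoType.pw, commutatorElement_def] at h
      split at h
      · exact Or.inl (mul_inv_eq_iff_eq_mul.1 (mul_inv_eq_one.1 h))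
      · refine Or.inr ?_
        rw [mul_inv_eq_iff_eq_mul, mul_inv_eq_iff_eq_mul, mul_assoc z0,
          ← hTz, ← T.Qz (mul_mem hq hp), hTz] at h
        exact h
    · refine Co1Centralizer.orderOf_z1.trans_ne (by norm_num : (2 : ℕ) ≠ 1) (orderOf_eq_one_iff.2 ?_)
      calc z0 = S⁻¹ * v * S := by rw [hvdef]; group
        _ = 1 := by rw [e]; group
    · calc k * q = c'⁻¹ * (a * q * a⁻¹) * a := by rw [hkdef]; group
        _ = c'⁻¹ * (c' * q * c'⁻¹) * a := by rw [hk q (hTQ ▸ hq) hqv]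
        _ = q * k := by rw [hkdef]; group
  have hcomm : ∀ {w : Spor.Co1}, w * z0 = z0 * w → w * v = v * w → w * k = k * w := by
    intro w h1 h2
    rcases hk4 with e | e | e | e <;> rw [e]
    · simp
    · exact h1
    · exact h2
    · rw [← mul_assoc, h2, mul_assoc, h1, ← mul_assoc]
  have hk2 : k * k = 1 := by
    have hz2 : z0 * z0 = 1 := by
      rw [← pow_two, ← Co1Centralizer.orderOf_z1]; exact pow_orderOf_eq_one _
    rcases hk4 with e | e | e | e <;> rw [e]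
    · exact one_mul 1
    · exact hz2
    · exact hv2
    · rw [mul_assoc, ← mul_assoc z0, ← mem_C0.1 hvC, mul_assoc v z0 z0, hz2, mul_one, hv2]
  -- the cube
  have hcube' : c' * m' * (c' * m') * (c' * m') = 1 := by
    calc c' * m' * (c' * m') * (c' * m') = S * (xiT * M * (xiT * M) * (xiT * M)) * S⁻¹ := by
          rw [hc', hm']; group
      _ = 1 := by rw [hcube]; group
  have hAm : fC ⟨a * m', mul_mem ha hm'C⟩ =
      E.f ⟨S, hS⟩ * fC ⟨xiT * M, mul_mem xiT_mem_cz1 hmC⟩ * (E.f ⟨S, hS⟩)⁻¹ := by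
    rw [← fC' ha hm'C (mul_mem ha hm'C) rfl, hfa, ← fC' xiT_mem_cz1 hmC (mul_mem xiT_mem_cz1 hmC) rfl,
      hL _ hm'N hm'C, hL _ hM hmC, hA, hx,
      show E.f ⟨m', hm'N⟩ = E.f ⟨S, hS⟩ * E.f ⟨M, hM⟩ * (E.f ⟨S, hS⟩)⁻¹ by
        rw [← map_inv, ← map_mul, ← map_mul]; rfl]
    group
  have hak : a * m' * (a * m') * (a * m') = k := by
    have e0 : a = c' * k := by rw [hkdef]; group
    have hc'k := hcomm (mem_C0.1 hc'C) (cv _ hξ)
    have hm'k := hcomm (mem_C0.1 hm'C) (cv _ hM0)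
    have hp : (c' * m') * k = k * (c' * m') := by rw [mul_assoc, hm'k, ← mul_assoc, hc'k, mul_assoc]
    rw [e0, mul_assoc c' k m', ← hm'k, ← mul_assoc c' m' k]
    have h3 := Commute.mul_pow (show Commute (c' * m') k from hp) 3
    simp only [pow_succ, pow_zero, one_mul] at h3
    rw [h3, hcube', hk2, one_mul, one_mul]
  have hk1 : k = 1 := by
    have h1 : fC ⟨k, hkC⟩ = 1 := by
      have h := congrArg fC (show (⟨a * m', mul_mem ha hm'C⟩ : ↥C0) * ⟨a * m', mul_mem ha hm'C⟩ *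
          ⟨a * m', mul_mem ha hm'C⟩ = ⟨k, hkC⟩ from Subtype.ext hak)
      have h' := congrArg fC (show (⟨xiT * M, mul_mem xiT_mem_cz1 hmC⟩ : ↥C0) *
          ⟨xiT * M, mul_mem xiT_mem_cz1 hmC⟩ * ⟨xiT * M, mul_mem xiT_mem_cz1 hmC⟩ = 1 from Subtype.ext hcube)
      rw [map_mul, map_mul, hAm] at h
      rw [map_mul, map_mul, map_one] at h'
      rw [← h]
      calc _ = E.f ⟨S, hS⟩ * (fC ⟨xiT * M, mul_mem xiT_mem_cz1 hmC⟩ * fC ⟨xiT * M, mul_mem xiT_mem_cz1 hmC⟩ *
            fC ⟨xiT * M, mul_mem xiT_mem_cz1 hmC⟩) * (E.f ⟨S, hS⟩)⁻¹ := by group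
        _ = 1 := by rw [h']; group
    exact congrArg Subtype.val ((injective_iff_map_eq_one fC).1 hfC _ h1)
  -- conclusion
  have hac : a = c' := by
    rw [hkdef, inv_mul_eq_one] at hk1
    exact hk1.symm
  have hN : S' * S⁻¹ ∈ N0 := mul_mem hS' (inv_mem hS)
  have hc2 : c' = xiT * (S' * S⁻¹) := by
    rw [hc', ← hconj]
    calc S * xiT * S⁻¹ = 1 * S * xiT * S⁻¹ := by group
      _ = xiT * xiT * S * xiT * S⁻¹ := by rw [xiT_mul_self]
      _ = _ := by group
  have hC : S' * S⁻¹ ∈ C0 := by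
    have : S' * S⁻¹ = xiT⁻¹ * c' := by rw [hc2]; group
    rw [this]; exact mul_mem (inv_mem xiT_mem_cz1) hc'C
  have hfinal : A = x * (E.f ⟨S', hS'⟩ * (E.f ⟨S, hS⟩)⁻¹) := by
    have e : E.f ⟨S', hS'⟩ * (E.f ⟨S, hS⟩)⁻¹ = E.f ⟨_, hN⟩ := by rw [← map_inv, ← map_mul]; rfl
    rw [e, ← hL _ hN hC, hx, fC' xiT_mem_cz1 hC hc'C hc2.symm, ← hfa]
    exact congrArg fC (Subtype.ext hac)
  have hxx : x * x = 1 := by
    rw [hx, ← map_mul, ← map_one fC]; exact congrArg fC (Subtype.ext xiT_mul_self)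
  show x * E.f ⟨S, hS⟩ * x = E.f ⟨S', hS'⟩
  rw [hA, ← mul_assoc x, mul_left_inj] at hfinal
  rw [mul_assoc, hfinal, ← mul_assoc, hxx, one_mul]

end FN

end Cfsg.Agent.CoOneUniq
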