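/-
The amalgam in a group of Conway type.

* `el_eq` : the element of a code as a monomial element
* `exists_amal` : the relations between the normaliser of the large abelian subgroup and the sextet element
-/
import Cfsg.Agent.Lib.CoOneUniq.Twist
import Cfsg.Agent.Lib.CoOneUniq.Sound

set_option autoImplicit false
set_option maxRecDepth 100000
open scoped Pointwise symmDiff

namespace Cfsg.Agent.CoOneUniq

open Cfsg Cfsg.Agent.Leech Cfsg.Agent.CoOneA
open Cfsg.Agent.Golay (fn imgMask validPerm toPerm idx pt pts octad0)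
open Cfsg.Agent.Co2Centralizer (oct oct_mem)

/-- The generators with their conjugates. -/
def lgen : List ((ℕ × ℕ) × (ℕ × ℕ)) :=
  [
    ((0, 695183522410958402838740999476712141), (4120552, 695183522410958402838740999476712141)),
    ((0, 984818244535754528103549039458486304), (0, 984818244535754528103549039458486304)),
    ((0, 967363445419354855912330005628224514), (0, 967363445419354855912330005628224514))]

/-- Representatives for the pairs of tetrads. -/
def pairRep : List (ℕ × ℕ) :=
  [
    idC,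
    (0, 695183522410958402838740999476712141),
    (0, 21097953763305610587047961417091809),
    (0, 653060851180926278875478075833985332),
    (0, 540419275482733885281002758332846614),
    (0, 103081728645616154219514692349822688),
    (0, 893528335171272697744256734693759219),
    (0, 528543808835507096647866765688513099),
    (0, 833693688772480693261915888253348329),
    (0, 57948517211052778582948509634396898),
    (0, 706986852901972248711788973727552963),
    (0, 794830410117835556280218510021532327),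
    (0, 458760392944194177477918893871309202),
    (0, 127678507855419134226301334989391301),
    (0, 127460504215988625975900179743184430)]

/-- Their parents and generators. -/
def pairPar : List (ℕ × ℕ) :=
  [(0, 0), (1, 0), (1, 2), (2, 0), (2, 2), (3, 0), (3, 2), (4, 2), (5, 2), (6, 0), (8, 0), (8, 2), (10, 2), (11, 0)]

/-- The pairs of tetrads. -/
def pairOct : List ℕ :=
  [0x82402f, 0x453910, 0x908607, 0x51a610, 0x6920d0, 0x841907, 0xa800c7, 0x149f00, 0x3886c0, 0xc12017, 0x436038, 0x2a40e8, 0x2c19c0, 0x12c628, 0x65928]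

/-- The cubing element and its inverse. -/
def cubeEl : ℕ × ℕ := (7839629, 149575337082090664949834964417906231)
/-- Its inverse. -/
def cubeInv : ℕ × ℕ := (4800613, 17172477725893271314202773656683587)

/-- The permutation of a code. -/
noncomputable def permOf {c : ℕ × ℕ} (h : V c) : ↥M24 := ⟨toPerm c.2, h.2.2.2⟩

/-- The sign set of a code. -/
def setOf' {c : ℕ × ℕ} (h : V c) : CodeSet := ⟨pts c.1, h.2.1⟩

theorem el_eq {c : ℕ × ℕ} (h : V c) : (el c : Spor.Co1) = nmono (permOf h) (setOf' h) := by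
  rw [el_coe, el0_eq h]; rfl

theorem pairOct_zero : pairOct.getD 0 0 = octad0 := by decide +kernel

theorem data_ok : (∀ g ∈ lgen, isV g.1 = true ∧ isV g.2 = true ∧ isConj g.1 g.2 = true) ∧
    (∀ k < 15, isV (pairRep.getD k idC) = true ∧
      imgMask (pairRep.getD k idC).2 octad0 = pairOct.getD k 0) ∧
    (∀ k < 14, (pairPar.getD k (0, 0)).1 ≤ k ∧ (pairPar.getD k (0, 0)).2 < 3 ∧
      isMul (lgen.getD (pairPar.getD k (0, 0)).2 (idC, idC)).1 (pairRep.getD (pairPar.getD k (0, 0)).1 idC)
        (pairRep.getD (k + 1) idC) = true) ∧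
    (∀ i < 3, i ≠ 0 → imgMask (lgen.getD i (idC, idC)).1.2 octad0 = octad0) := by
  decide +kernel

theorem pair_cases : (∀ i < 24, (pts (tT i)).card = 4) ∧
    ∀ i < 24, ∀ j < 24, tT i = tT j ∨ ∃ k < 15, tT i ||| tT j = pairOct.getD k 0 := by
  decide +kernel

theorem oct_split : (tT 23 ||| tT 3) = octad0 ∧ idx (pt 23) = 23 ∧ idx (pt 3) = 3 := by decide +kernel

theorem sign_data : isV cubeEl = true ∧ isV cubeInv = true ∧ isMul cubeEl cubeInv idC = true ∧
    imgMask cubeEl.2 octad0 = octad0 ∧ imgMask cubeInv.2 octad0 = octad0 ∧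
    (seedEq cubeEl cubeInv cubeInv 1 || seedEq cubeEl cubeInv cubeInv (-1)) = true ∧
    imgMask cubeEl.2 0x6920d0 = 0x6920d0 ∧
    imgMask (lgen.getD 0 (idC, idC)).1.2 octad0 = 0x453910 ∧
    imgMask (lgen.getD 0 (idC, idC)).1.2 0x6920d0 = octad0 ∧
    isV (0x6920d0, Golay.idCode) = true ∧ isConj (0x6920d0, Golay.idCode) (0x6920d0, Golay.idCode) = true ∧
    0x453910 &&& octad0 = 0 ∧ (pts 0x453910).card = 8 := by
  decide +kernel

/-- The element of a code in the monomial subgroup. -/
noncomputable abbrev eN (c : ℕ × ℕ) : ↥N0 := el c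

/-- The sign element of a set moved by a permutation. -/
theorem conj_sign (σ : ↥M24) (c d : CodeSet) :
    nmono σ c * nmono 1 d * (nmono σ c)⁻¹ = nmono 1 (mv σ d) := by
  rw [mul_inv_eq_iff_eq_mul, nmono_mul, nmono_mul, mul_one, one_mul, show mv 1 c = c from Subtype.ext (one_smul _ c.1)]
  congr 1
  exact Subtype.ext (symmDiff_comm _ _)

/-- The octad as a code set. -/
def octC : CodeSet := ⟨oct, by obtain ⟨h, -⟩ := oct_mem; exact h⟩

theorem z0_octC : z0 = nmono 1 octC := by
  rw [z0_eq, nmono_eq_iff]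
  refine ⟨rfl, Or.inr (Subtype.ext ?_)⟩
  show oct = Finset.univ ∆ octᶜ
  ext p; simp [Finset.mem_symmDiff]

theorem commute_sign {σ : ↥M24} {c d : CodeSet} (h : mv σ d = d) :
    nmono σ c * nmono 1 d = nmono 1 d * nmono σ c := by
  have := conj_sign σ c d
  rwa [h, mul_inv_eq_iff_eq_mul] at this

variable {G : Type*} [Group G] {F : CoType.Fr G} [Finite G] {P : Pre F}

/-- The relations hold. -/
theorem exists_amal (E : FN P) (fC : ↥C0 →* G) (hfC : Function.Injective fC)
    (hcen : ∀ g : G, g * F.z = F.z * g ↔ g ∈ fC.range)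
    (hL : ∀ x (hN : x ∈ N0) (hC : x ∈ C0), fC ⟨x, hC⟩ = E.f ⟨x, hN⟩) :
    ∃ D : Amal G, D.ι = E.f ∧ D.x = fC ⟨xiT, xiT_mem_cz1⟩ := by
  obtain ⟨hg, hr, hp, hfix⟩ := data_ok
  set x := fC ⟨xiT, xiT_mem_cz1⟩ with hx
  have hxx : x * x = 1 := by
    rw [hx, ← map_mul, ← map_one fC]; exact congrArg fC (Subtype.ext xiT_mul_self)
  have inC : ∀ (l l' : ↥N0), (l : Spor.Co1) ∈ C0 → xiT * (l : Spor.Co1) * xiT = l' →
      x * E.f l * x = E.f l' := by
    intro l l' hl e
    have hl' : (l' : Spor.Co1) ∈ C0 := e ▸ mul_mem (mul_mem xiT_mem_cz1 hl) xiT_mem_cz1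
    rw [← hL l l.2 hl, ← hL l' l'.2 hl', hx, ← map_mul, ← map_mul]
    exact congrArg fC (Subtype.ext e)
  let Good : ↥N0 → Prop := fun l => ∃ l' : ↥N0, xiT * (l : Spor.Co1) * xiT = l' ∧ x * E.f l * x = E.f l'
  have hmul : ∀ a b, Good a → Good b → Good (a * b) := by
    rintro a b ⟨a', ea, fa⟩ ⟨b', eb, fb⟩
    refine ⟨a' * b', ?_, ?_⟩
    · rw [Subgroup.coe_mul, Subgroup.coe_mul, ← ea, ← eb]
      calc xiT * (a * b) * xiT = xiT * (a : Spor.Co1) * (1 * b) * xiT := by group
        _ = _ := by rw [← xiT_mul_self]; group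
    · rw [map_mul, map_mul, ← fa, ← fb]
      calc x * (E.f a * E.f b) * x = x * E.f a * (1 * E.f b) * x := by group
        _ = _ := by rw [← hxx]; group
  -- the generator moving the octad off itself
  obtain ⟨m1, m2, m3, m4, m5, m6, mU, sOct, sU, uV, uConj, vdisj, vcard⟩ := sign_data
  have hs0 := hg _ (show lgen.getD 0 (idC, idC) ∈ lgen by decide +kernel)
  set s := (lgen.getD 0 (idC, idC)).1
  set s' := (lgen.getD 0 (idC, idC)).2
  have hsV := V_of_isV hs0.1
  have hs'V := V_of_isV hs0.2.1
  have huV := V_of_isV uV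
  let dU : CodeSet := setOf' huV
  have hperm : ∀ {c : ℕ × ℕ} (h : V c) (m : ℕ), (permOf h).1 • pts m = pts (imgMask c.2 m) :=
    fun h m => (Golay.pts_imgMask h.2.2.1 m).symm
  have hoct : oct = pts octad0 := rfl
  have hmvU : mv (permOf hsV) dU = octC := Subtype.ext ((hperm hsV _).trans (by rw [sU]; rfl))
  have hu : (el s : Spor.Co1)⁻¹ * z0 * el s = nmono 1 dU := by
    rw [mul_assoc, inv_mul_eq_iff_eq_mul, el_eq hsV, z0_octC, ← hmvU, ← conj_sign _ (setOf' hsV),
      inv_mul_cancel_right]
  have hveq : (el s : Spor.Co1) * z0 * (el s : Spor.Co1)⁻¹ = nmono 1 (mv (permOf hsV) octC) := by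
    rw [el_eq hsV, z0_octC, conj_sign]
  have hvset : (mv (permOf hsV) octC).1 = pts 0x453910 := (hperm hsV octad0).trans (by rw [sOct])
  have hgood0 : Good (el s) := by
    have hmV := V_of_isV m1
    refine ⟨el s', conj_el hsV hs'V hs0.2.2, E.twist fC hfC hcen hL (s := el s) (s' := el s')
      (m := el cubeEl) (conj_el hsV hs'V hs0.2.2) ?_ ?_ ?_ (el_mem_cz1 hmV m4) ?_ ?_⟩
    · rw [hveq]
      refine sign_mem_Q0 ?_
      rw [hvset, hoct, Finset.disjoint_iff_inter_eq_empty, ← Golay.pts_and, vdisj, Golay.pts_zero]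
    · rw [hveq, z0_octC]
      intro e
      rcases (nmono_eq_iff.1 e).2 with h | h
      · have h1 := congrArg (fun c : CodeSet => c.1) h
        simp only [hvset] at h1
        have h2 : pts 0x453910 ∩ oct = ∅ := by rw [hoct, ← Golay.pts_and, vdisj, Golay.pts_zero]
        rw [show octC.1 = oct from rfl] at h1
        rw [h1, Finset.inter_self] at h2
        have := oct_mem.2
        simp [h2] at this
      · have h1 := congrArg (fun c : CodeSet => c.1.card) h
        simp only [cadd, cuniv, hvset] at h1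
        rw [show (Finset.univ : Finset GolayPt) ∆ pts 0x453910 = (pts 0x453910)ᶜ by
            ext p; simp [Finset.mem_symmDiff],
          Finset.card_compl, Leech.card_pt, show octC.1.card = 8 from oct_mem.2, vcard] at h1
        omega
    · have e := conj_el huV huV uConj
      have e' : (el (0x6920d0, Golay.idCode) : Spor.Co1) = nmono 1 dU := by
        rw [el_eq huV, show permOf huV = 1 from Subtype.ext Golay.toPerm_idCode.2]
      rw [e'] at e
      rw [hu]
      calc xiT * nmono 1 dU = xiT * nmono 1 dU * (xiT * xiT) := by rw [xiT_mul_self, mul_one]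
        _ = nmono 1 dU * xiT := by rw [← mul_assoc, e]
    · rw [hu, el_eq hmV]
      exact commute_sign (Subtype.ext ((hperm hmV _).trans (by rw [mU]; rfl)))
    · have hiV := V_of_isV m2
      have h1 : (el cubeEl : Spor.Co1) * el cubeInv = 1 := by
        rw [← Subgroup.coe_mul, (el_mul hmV hiV m3).2, el_idC]; rfl
      have h2 := seed_el hmV hiV hiV m6
      calc xiT * (el cubeEl : Spor.Co1) * (xiT * el cubeEl) * (xiT * el cubeEl)
          = (xiT * (el cubeEl : Spor.Co1) * xiT) * el cubeEl * xiT * el cubeEl := by group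
        _ = el cubeInv * xiT * ((el cubeInv : Spor.Co1) * el cubeEl) * xiT * el cubeEl := by
            rw [h2]; group
        _ = 1 := by
            rw [mul_eq_one_comm.1 h1, mul_one, mul_assoc (el cubeInv : Spor.Co1), xiT_mul_self,
              mul_one, mul_eq_one_comm.1 h1]
  have hgen : ∀ i < 3, Good (el (lgen.getD i (idC, idC)).1) := by
    intro i hi
    by_cases h0 : i = 0
    · subst h0; exact hgood0
    · have h := hg _ (show lgen.getD i (idC, idC) ∈ lgen by
        rw [List.getD_eq_getElem _ _ (show i < lgen.length from hi)]; exact List.getElem_mem _)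
      exact ⟨_, conj_el (V_of_isV h.1) (V_of_isV h.2.1) h.2.2,
        inC _ _ (el_mem_cz1 (V_of_isV h.1) (hfix i hi h0)) (conj_el (V_of_isV h.1) (V_of_isV h.2.1) h.2.2)⟩
  have hrep : ∀ k, k < 15 → Good (el (pairRep.getD k idC)) := by
    intro k
    induction k using Nat.strong_induction_on with
    | _ k ih =>
      intro hk
      rcases Nat.eq_zero_or_pos k with rfl | hk0
      · rw [show pairRep.getD 0 idC = idC from rfl, el_idC]
        refine ⟨1, by simp [xiT_mul_self], ?_⟩
        show x * E.f (1 : ↥N0) * x = E.f (1 : ↥N0)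
        rw [map_one, mul_one, hxx]
      · obtain ⟨j, rfl⟩ : ∃ j, k = j + 1 := ⟨k - 1, by omega⟩
        obtain ⟨h1, h2, h3⟩ := hp j (by omega)
        have hgl := hg _ (show lgen.getD (pairPar.getD j (0, 0)).2 (idC, idC) ∈ lgen by
          rw [List.getD_eq_getElem _ _ (show _ < lgen.length from h2)]; exact List.getElem_mem _)
        rw [← (el_mul (V_of_isV hgl.1) (V_of_isV (hr _ (by omega)).1) h3).2]
        exact hmul _ _ (hgen _ h2) (ih _ (by omega) (by omega))
  -- every element of the domain
  have key : ∀ l l' : ↥N0, xiT * (l : Spor.Co1) * xiT = l' → x * E.f l * x = E.f l' := by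
    rintro ⟨L, hl⟩ ⟨L', hl'⟩ e
    change xiT * L * xiT = L' at e
    obtain ⟨τ, c, rfl⟩ := mem_N0.1 hl
    obtain ⟨τ', c', rfl⟩ := mem_N0.1 hl'
    -- the permutation respects the tetrads
    have htet : ∀ q : GolayPt, τ.1 • pts (tT (idx q)) = pts (tT (idx (τ'.1 q))) := by
      intro q
      have e2 : nmono τ c * xiT = xiT * nmono τ' c' := by
        rw [← e]
        calc nmono τ c * xiT = 1 * nmono τ c * xiT := by group
          _ = _ := by rw [← xiT_mul_self]; group
      rw [xiT, nmono, nmono, ← QuotientGroup.mk_mul, ← QuotientGroup.mk_mul] at e2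
      have e3 : mono0 τ c * Co2Centralizer.xiEl = Co2Centralizer.xiEl * mono0 τ' c' ∨
          mono0 τ c * Co2Centralizer.xiEl = negOne * (Co2Centralizer.xiEl * mono0 τ' c') := by
        have h1 : (QuotientGroup.mk ((mono0 τ c * Co2Centralizer.xiEl) *
            (Co2Centralizer.xiEl * mono0 τ' c')⁻¹) : Spor.Co1) = 1 := by
          rw [QuotientGroup.mk_mul, QuotientGroup.mk_inv, e2, mul_inv_cancel]
        rcases Co1Centralizer.mk_eq_one_iff.1 h1 with h | h
        · exact Or.inl (mul_inv_eq_one.1 h)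
        · exact Or.inr (mul_inv_eq_iff_eq_mul.1 h)
      have sgn : ∀ (p : GolayPt) (T N : ℕ), (sv T N p ≠ 0 ↔ p ∈ pts T) := by
        intro p T N
        simp only [sv, Golay.mem_pts]
        cases T.testBit (idx p) <;> cases N.testBit (idx p) <;> simp
      have hR : ∀ p, ((Co2Centralizer.xiEl • mono0 τ' c' • eightVec q : leechLattice) : GolayPt → ℤ) p ≠ 0 ↔
          p ∈ pts (tT (idx (τ'.1 q))) := by
        intro p
        have h1 : mono0 τ' c' • eightVec q = eightVec (τ'.1 q) ∨
            mono0 τ' c' • eightVec q = -eightVec (τ'.1 q) := by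
          by_cases h : τ'.1 q ∈ c'.1
          · refine Or.inr (Subtype.ext ?_)
            rw [mono0, vec_mono, coe_eightVec, signedPerm_single, AddSubgroup.coe_neg, coe_eightVec,
              if_pos h, ← Pi.single_neg]
          · refine Or.inl (Subtype.ext ?_)
            rw [mono0, vec_mono, coe_eightVec, signedPerm_single, coe_eightVec, if_neg h]
        rcases h1 with h | h <;> rw [h]
        · rw [xiEl_eight, sgn]
        · rw [smul_vneg, AddSubgroup.coe_neg, Pi.neg_apply, neg_ne_zero, xiEl_eight, sgn]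
      have hLv : ∀ p, ((mono0 τ c • Co2Centralizer.xiEl • eightVec q : leechLattice) : GolayPt → ℤ) p ≠ 0 ↔
          p ∈ τ.1 • pts (tT (idx q)) := by
        intro p
        rw [mono0, vec_mono, ← Finset.inv_smul_mem_iff, Equiv.Perm.smul_def, Equiv.Perm.coe_inv, ← sgn _ _ (tN (idx q)),
          ← xiEl_eight]
        simp only [signedPerm]
        split_ifs <;> simp
      refine Finset.ext fun p => (hLv p).symm.trans (Iff.trans ?_ (hR p))
      rcases e3 with h | h <;> rw [← mul_smul, h, mul_smul]
      rw [vec_negOne, Pi.neg_apply, neg_ne_zero, mul_smul]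
    obtain ⟨hsplit, i23, i3⟩ := oct_split
    have hτo : τ.1 • oct = pts (tT (idx (τ'.1 (pt 23))) ||| tT (idx (τ'.1 (pt 3)))) := by
      rw [hoct, ← hsplit, Golay.pts_or, Finset.smul_finset_union, Golay.pts_or, ← htet, ← htet, i23, i3]
    obtain ⟨k, hk, hpair⟩ : ∃ k < 15, τ.1 • oct = pts (pairOct.getD k 0) := by
      rcases pair_cases.2 _ (Golay.idx_lt (τ'.1 (pt 23))) _ (Golay.idx_lt (τ'.1 (pt 3))) with h | ⟨k, hk, h⟩
      · exfalso
        have h1 := congrArg Finset.card hτo
        rw [h, Nat.or_self, Finset.card_smul_finset, pair_cases.1 _ (Golay.idx_lt _), oct_mem.2] at h1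
        omega
      · exact ⟨k, hk, by rw [hτo, h]⟩
    have hrV := V_of_isV (hr k hk).1
    obtain ⟨r', er, fr⟩ := (hrep k hk : Good (eN (pairRep.getD k idC)))
    -- the remaining factor fixes the octad
    set l0 : ↥N0 := (eN (pairRep.getD k idC))⁻¹ * ⟨nmono τ c, hl⟩ with hl0
    have hl0C : (l0 : Spor.Co1) ∈ C0 := by
      obtain ⟨σ, d, hσ⟩ := mem_N0.1 l0.2
      rw [hσ, nmono_mem_C0]
      have h1 : (el (pairRep.getD k idC) : Spor.Co1) * nmono σ d = nmono τ c := by
        rw [← hσ, hl0]; simp
      rw [el_eq hrV, nmono_mul] at h1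
      have h2 : (permOf hrV).1 • σ.1 • oct = (permOf hrV).1 • oct := by
        rw [← mul_smul, ← Subgroup.coe_mul, (nmono_eq_iff.1 h1).1, hpair, hoct, hperm hrV, (hr k hk).2]
      exact smul_left_cancel _ h2
    have hgl : Good l0 := by
      refine ⟨r'⁻¹ * ⟨nmono τ' c', hl'⟩, ?_, ?_⟩
      · rw [hl0]
        simp only [Subgroup.coe_mul, Subgroup.coe_inv]
        rw [← er, eq_inv_mul_iff_mul_eq, ← e]
        calc xiT * (el (pairRep.getD k idC) : Spor.Co1) * xiT *
              (xiT * ((el (pairRep.getD k idC) : Spor.Co1)⁻¹ * nmono τ c) * xiT)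
            = xiT * (el (pairRep.getD k idC) : Spor.Co1) * (xiT * xiT) *
              ((el (pairRep.getD k idC) : Spor.Co1)⁻¹ * nmono τ c) * xiT := by group
          _ = _ := by rw [xiT_mul_self]; group
      · refine inC _ _ hl0C ?_
        rw [hl0]
        simp only [Subgroup.coe_mul, Subgroup.coe_inv]
        rw [← er, eq_inv_mul_iff_mul_eq, ← e]
        calc xiT * (el (pairRep.getD k idC) : Spor.Co1) * xiT *
              (xiT * ((el (pairRep.getD k idC) : Spor.Co1)⁻¹ * nmono τ c) * xiT)
            = xiT * (el (pairRep.getD k idC) : Spor.Co1) * (xiT * xiT) *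
              ((el (pairRep.getD k idC) : Spor.Co1)⁻¹ * nmono τ c) * xiT := by group
          _ = _ := by rw [xiT_mul_self]; group
    have hall : Good ⟨nmono τ c, hl⟩ := by
      have h := hmul (eN (pairRep.getD k idC)) l0 ⟨r', er, fr⟩ hgl
      rwa [hl0, mul_inv_cancel_left] at h
    obtain ⟨l'', el', fl⟩ := hall
    rw [fl]
    exact congrArg E.f (Subtype.ext (el'.symm.trans e))
  refine ⟨⟨E.f, x, hxx, key, fun p a b hpC haC hbC e => ?_⟩, rfl, rfl⟩
  show x * E.f ⟨p.1, p.2⟩ * x = E.f ⟨a.1, a.2⟩ * x * E.f ⟨b.1, b.2⟩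
  rw [← hL p.1 p.2 hpC, ← hL a.1 a.2 haC, ← hL b.1 b.2 hbC, hx, ← map_mul, ← map_mul, ← map_mul, ← map_mul]
  exact congrArg fC (Subtype.ext e)

end Cfsg.Agent.CoOneUniq
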