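/-
A group of Conway type receives Co1 injectively with the centralizer of the involution in the image.

* `exists_local` : the amalgam in a group of Conway type
* `cent_le_range` : a homomorphism extending it is injective and its image contains the centralizer
-/
import Cfsg.Agent.Lib.CoOneUniq.Amal
import Cfsg.Agent.Lib.Leech.Co1Simple

set_option autoImplicit false

namespace Cfsg.Agent.CoOneUniq

open Cfsg Cfsg.Agent.Leech Cfsg.Agent.CoOneA

variable {G : Type*} [Group G] [Finite G]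

/-- The amalgam with the centralizer. -/
theorem exists_local (T : CoType.Co G) :
    ∃ (D : Amal G) (fC : ↥C0 →* G), Function.Injective fC ∧
      (∀ g : G, g * T.z = T.z * g ↔ g ∈ fC.range) ∧ D.ι ⟨z0, z0_mem⟩ = T.z := by
  obtain ⟨F, hFz, τ, hτ⟩ := exists_seed T
  obtain ⟨S⟩ := exists_sym3 F
  obtain ⟨L⟩ := exists_lines S hτ
  obtain ⟨P, hs⟩ := exists_std S L
  obtain ⟨E⟩ := exists_fN P hs
  obtain ⟨fC, hinj, hcen, hL⟩ := E.exists_fC hs
  obtain ⟨D, hι, -⟩ := exists_amal E fC hinj hcen hL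
  refine ⟨D, fC, hinj, fun g => hFz ▸ hcen g, ?_⟩
  rw [hι, ← hFz]
  exact E.f_z0

theorem cent_le_range {z : G} (hz : z ≠ 1) (fC : ↥C0 →* G) (hinj : Function.Injective fC)
    (hcen : ∀ g : G, g * z = z * g ↔ g ∈ fC.range) (f : Spor.Co1 →* G) (hf : f z0 = z) :
    Function.Injective f ∧ ∀ g : G, g * f z0 = f z0 * g → g ∈ f.range := by
  have hs : IsSimpleGroup Spor.Co1 := isSimpleGroup_co1
  have hi : Function.Injective f := by
    rw [← MonoidHom.ker_eq_bot_iff]
    rcases f.normal_ker.eq_bot_or_eq_top with h | h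
    · exact h
    · exact absurd (hf ▸ MonoidHom.mem_ker.1 (h ▸ Subgroup.mem_top z0)) hz
  refine ⟨hi, fun g hg => ?_⟩
  have hle : C0.map f ≤ fC.range := by
    rintro _ ⟨x, hx, rfl⟩
    refine (hcen _).1 ?_
    rw [← hf, ← map_mul, ← map_mul, mem_C0.1 hx]
  have hcard : Nat.card fC.range ≤ Nat.card (C0.map f) := by
    rw [Subgroup.card_map_of_injective hi, Nat.card_congr (MonoidHom.ofInjective hinj).toEquiv.symm]
  have := (Subgroup.eq_of_le_of_card_ge hle hcard).ge ((hcen g).1 (hf ▸ hg))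
  obtain ⟨x, -, rfl⟩ := this
  exact ⟨x, rfl⟩

end Cfsg.Agent.CoOneUniq
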