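/-
Finite checks on the octads for the closing step of the uniqueness of Co1 (helper19).

* `octD`, `lvlOne`, `lvlTwo` : the two levels of the check
* `lvlOne_all` : the check holds for every octad
-/
import Cfsg.Agent.Lib.Golay.Code

set_option autoImplicit false
set_option maxRecDepth 100000

namespace Cfsg.Agent.CoOneUniq.Closing

open Cfsg.Agent.Golay (popcount enc isCode)

/-- The dodecad. -/
def dD : ℕ := 0x7dd00d

/-- An octad meeting it in four points. -/
def oS : ℕ := 0x8ea003

/-- An octad meeting it in two or six points. -/
def oT : ℕ := 0xc75001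

/-- The octads as masks. -/
def octList : List ℕ := ((List.range 4096).map enc).filter fun m => popcount m == 8

/-- An octad meets a set in two or six points. -/
def two (O W : ℕ) : Bool := popcount (O &&& W) == 2 || popcount (O &&& W) == 6

/-- A weight of the class of the standard involution. -/
def isZ (e : ℕ) : Bool := popcount e == 8 || popcount e == 16

/-- The octads meeting the dodecad in two or six points. -/
def octD : List ℕ := octList.filter fun O => two O dD

/-- The last level, for a dodecad `E`. -/
def lvlTwo (E : ℕ) : Bool :=
  octD.any fun s => two s (dD ^^^ E) && !two s E &&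
    (octD.any fun t => two t (dD ^^^ E) && two t E) &&
    octD.all fun O => !two O (dD ^^^ E) || s ^^^ O == 0 || isZ (s ^^^ O) ||
      isZ (s ^^^ O ^^^ dD) || isZ (s ^^^ O ^^^ E) || isZ (s ^^^ O ^^^ (dD ^^^ E))

/-- The first level. -/
def lvlOne (O : ℕ) : Bool :=
  oS ^^^ O == 0 || isZ (oS ^^^ O) || isZ (oS ^^^ O ^^^ dD) || lvlTwo (oS ^^^ O)

theorem lvlOne_all : octList.all lvlOne = true := by decide +kernel

end Cfsg.Agent.CoOneUniq.Closing
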