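/-
A criterion for the centralizer of a set of elements to lie in a subgroup containing the centralizer of a
standard involution.

* `cent_le_of_conj` : conjugates of `z` in `H` have their centralizer in `H`
* `cent_le_of_dihedral` : two safe involutions not fused in the centralizer, with conditions on the central
  involutions of the dihedral groups they generate
* `fuse_of_classes` : no fusion of classes when both groups have three classes of involutions
-/
import Cfsg.Agent.Lib.TransvCent.Closing

set_option autoImplicit false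

namespace Cfsg.Agent.CoOneUniq

open Cfsg.Agent.TransvCent.Closing

variable {G : Type*} [Group G] {H : Subgroup G} {z : G} {W : Set G}

/-- The centralizer of `W` and `x` lies in `H`. -/
def Good (H : Subgroup G) (W : Set G) (x : G) : Prop :=
  ∀ c : G, Fix W c → c * x = x * c → c ∈ H

theorem cent_le_of_conj (S : Setting H z) {v : G} (hv : IsConj z v) (hvH : v ∈ H) {c : G}
    (hc : c * v = v * c) : c ∈ H :=
  S.one_point hv hvH (by
    rw [mul_assoc, ← hc, inv_mul_cancel_left]
    exact hvH)

theorem good_of_conj (S : Setting H z) {x : G} (hv : IsConj z x) (hx : x ∈ H) : Good H W x :=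
  fun _ _ h => cent_le_of_conj S hv hx h

theorem good_of_mul (S : Setting H z) {x w : G} (hw : w ∈ W) (hwH : w ∈ H) (hx : x ∈ H)
    (hv : IsConj z (x * w)) : Good H W x := fun c hc h =>
  cent_le_of_conj S hv (H.mul_mem hx hwH) (by rw [← mul_assoc, h, mul_assoc, hc w hw, ← mul_assoc])

theorem good_of_insert {x : G} (h : ∀ c : G, Fix (insert x W) c → c ∈ H) : Good H W x :=
  fun c hc hcx => h c fun w hw => by
    rcases Set.mem_insert_iff.1 hw with rfl | hw
    exacts [hcx, hc w hw]

/-- The dihedral criterion. -/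
theorem cent_le_of_dihedral [Finite G] {s t : G} (hs : Safe H W s) (hs2 : s * s = 1) (ht : Safe H W t)
    (ht2 : t * t = 1) (hne : ∀ h ∈ H, Fix W h → h * s * h⁻¹ ≠ t)
    (hx : ∀ x ∈ H, Fix W x → orderOf x = 2 → x * s = s * x → Good H W x ∨
      ∀ h ∈ H, Fix W h → h * s * h⁻¹ ≠ s * x ∧ h * t * h⁻¹ ≠ s * x) :
    ∀ c : G, Fix W c → c ∈ H := by
  intro c hc
  set t' := c * t * c⁻¹ with ht'
  have ht'2 : t' * t' = 1 := by
    have : t' * t' = c * (t * t) * c⁻¹ := by simp only [ht']; group
    rw [this, ht2]; group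
  have htW : Fix W t' := (hc.mul ht.2.1).mul hc.inv
  have hback : t' ∈ H → c ∈ H := fun h =>
    (H.inv_mem_iff).mp (ht.2.2 c⁻¹ hc.inv (by rwa [inv_inv]))
  set d := s * t' with hd
  have hdW : Fix W d := hs.2.1.mul htW
  rcases Nat.even_or_odd (orderOf d) with ⟨k, hk⟩ | ⟨k, hk⟩
  · have hk2 : orderOf (s * t') = 2 * k := by rw [← hd]; omega
    have hkpos : 0 < k := by have := orderOf_pos d; omega
    have hw2 : orderOf (d ^ k) = 2 := by
      rw [orderOf_pow' d (by omega), show orderOf d = 2 * k by omega, Nat.gcd_mul_left_left,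
        Nat.mul_div_cancel _ hkpos]
    have hwsq : d ^ k * d ^ k = 1 := by rw [← pow_two, ← hw2]; exact pow_orderOf_eq_one _
    have hws : d ^ k * s = s * d ^ k := by
      have h1 := inv_conj_pow hs2 ht'2 k
      rw [← hd, inv_eq_of_mul_eq_one_right hwsq] at h1
      calc d ^ k * s = s * d ^ k * s * s := by rw [h1]
        _ = s * d ^ k * (s * s) := by group
        _ = s * d ^ k := by rw [hs2, mul_one]
    have hwt : t' * d ^ k = d ^ k * t' := by
      have h1 : t' = s * d := by rw [hd, ← mul_assoc, hs2, one_mul]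
      refine Eq.symm ?_
      rw [h1, ← mul_assoc, hws, mul_assoc, mul_assoc, ← pow_succ, ← pow_succ']
    have hwW : Fix W (d ^ k) := hdW.pow k
    have hwH : d ^ k ∈ H := by
      refine hs.2.2 _ hwW ?_
      rw [mul_assoc, ← hws, inv_mul_cancel_left]; exact hs.1
    rcases hx _ hwH hwW hw2 hws with hg | hbad
    · exact hback (hg t' htW hwt)
    exfalso
    rcases dihedral hs2 ht'2 hk2 with ⟨j, e1, -⟩ | ⟨j, -, e2⟩
    · rw [← hd] at e1
      have hF : Fix W (d ^ j) := hdW.pow j
      have hjH : d ^ j ∈ H := by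
        refine (H.inv_mem_iff).mp (hs.2.2 (d ^ j)⁻¹ hF.inv ?_)
        rw [inv_inv, e1]
        exact H.mul_mem hs.1 hwH
      exact (hbad _ hjH hF).1 e1
    · rw [← hd] at e2
      have hF : Fix W (c⁻¹ * d ^ j) := hc.inv.mul (hdW.pow j)
      have f : (c⁻¹ * d ^ j)⁻¹ * t * (c⁻¹ * d ^ j) = s * d ^ k := by
        rw [ht'] at e2
        calc (c⁻¹ * d ^ j)⁻¹ * t * (c⁻¹ * d ^ j) = (d ^ j)⁻¹ * (c * t * c⁻¹) * d ^ j := by group
          _ = _ := by rw [← e2]; group
      have hH : c⁻¹ * d ^ j ∈ H := ht.2.2 _ hF (by rw [f]; exact H.mul_mem hs.1 hwH)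
      refine (hbad _ (H.inv_mem hH) hF.inv).2 ?_
      rw [inv_inv]
      exact f
  · exfalso
    have hdk := conj_left hs2 ht'2 k
    rw [← hd] at hdk
    have h2k : d ^ (k + k) * s = t' := by
      have h1 : d ^ (k + k) * d = 1 := by
        rw [← pow_succ, ← pow_orderOf_eq_one d]
        congr 1
        omega
      rw [eq_inv_of_mul_eq_one_left h1, hd, mul_inv_rev, inv_eq_of_mul_eq_one_right hs2,
        inv_eq_of_mul_eq_one_right ht'2, mul_assoc, hs2, mul_one]
    have e : (c⁻¹ * d ^ k) * s * (c⁻¹ * d ^ k)⁻¹ = t := by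
      calc (c⁻¹ * d ^ k) * s * (c⁻¹ * d ^ k)⁻¹ = c⁻¹ * (d ^ k * s * (d ^ k)⁻¹) * c := by group
        _ = t := by rw [hdk, h2k, ht']; group
    have hF : Fix W (c⁻¹ * d ^ k) := hc.inv.mul (hdW.pow k)
    have hH : c⁻¹ * d ^ k ∈ H := by
      refine (H.inv_mem_iff).mp (hs.2.2 _ hF.inv ?_)
      rw [inv_inv, e]; exact ht.1
    exact hne _ hH hF e

/-- Three classes of involutions in both groups, each met by `H`: no fusion. -/
theorem fuse_of_classes {M : Type*} [Group M] (f : M →* G) (hf : Function.Injective f) {p q r : M}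
    (hM : ∀ x : M, orderOf x = 2 → IsConj x p ∨ IsConj x q ∨ IsConj x r)
    {a b c : G} (ha : orderOf a = 2) (hb : orderOf b = 2) (hc : orderOf c = 2)
    (hab : ¬ IsConj a b) (hac : ¬ IsConj a c) (hbc : ¬ IsConj b c)
    (hmeet : ∀ x : G, orderOf x = 2 → ∃ y : M, IsConj x (f y)) {x y : M} (hx : orderOf x = 2)
    (hy : orderOf y = 2) (h : IsConj (f x) (f y)) : IsConj x y := by
  obtain ⟨A, hA⟩ := hmeet a ha
  obtain ⟨B, hB⟩ := hmeet b hb
  obtain ⟨C, hC⟩ := hmeet c hc
  have ord : ∀ {u : G} {v : M}, orderOf u = 2 → IsConj u (f v) → orderOf v = 2 := by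
    intro u v hu huv
    obtain ⟨g, hg⟩ := isConj_iff.1 huv
    rw [← orderOf_injective f hf, ← hg]
    exact (orderOf_injective (MulAut.conj g).toMonoidHom (MulAut.conj g).injective u).trans hu
  have nab : ¬ IsConj A B := fun e => hab (hA.trans ((f.map_isConj e).trans hB.symm))
  have nac : ¬ IsConj A C := fun e => hac (hA.trans ((f.map_isConj e).trans hC.symm))
  have nbc : ¬ IsConj B C := fun e => hbc (hB.trans ((f.map_isConj e).trans hC.symm))
  have three : ∀ v : M, orderOf v = 2 → IsConj v A ∨ IsConj v B ∨ IsConj v C := by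
    intro v hv
    have hA' := hM A (ord ha hA)
    have hB' := hM B (ord hb hB)
    have hC' := hM C (ord hc hC)
    rcases hM v hv with e | e | e <;> rcases hA' with e1 | e1 | e1 <;>
      rcases hB' with e2 | e2 | e2 <;> rcases hC' with e3 | e3 | e3 <;>
      first
        | exact absurd (e1.trans e2.symm) nab
        | exact absurd (e1.trans e3.symm) nac
        | exact absurd (e2.trans e3.symm) nbc
        | exact Or.inl (e.trans e1.symm)
        | exact Or.inr (Or.inl (e.trans e2.symm))
        | exact Or.inr (Or.inr (e.trans e3.symm))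
  rcases three x hx with e | e | e <;> rcases three y hy with e' | e' | e' <;>
    first
      | exact e.trans e'.symm
      | (exfalso
         have h1 := ((f.map_isConj e).symm.trans h).trans (f.map_isConj e')
         first
           | exact hab ((hA.trans h1).trans hB.symm)
           | exact hab ((hA.trans h1.symm).trans hB.symm)
           | exact hac ((hA.trans h1).trans hC.symm)
           | exact hac ((hA.trans h1.symm).trans hC.symm)
           | exact hbc ((hB.trans h1).trans hC.symm)
           | exact hbc ((hB.trans h1.symm).trans hC.symm))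

end Cfsg.Agent.CoOneUniq
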