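/-
The centraliser of a dodecad sign change lies in the monomial subgroup (helper19).

* `code_subset_dodecad` : a code set inside a dodecad is empty or the dodecad
* `norm_sixtyfour_shape` : the vectors of norm 64 supported in a dodecad
* `cent_dodecad_le` : the centraliser lies in `N0`
-/
import Cfsg.Agent.Lib.CoOneUniq.Model
import Cfsg.Agent.Lib.Leech.Inner

set_option autoImplicit false
open scoped Pointwise symmDiff

namespace Cfsg.Agent.CoOneUniq

open Cfsg Cfsg.Agent.Leech

theorem code_subset_dodecad {d s : Finset GolayPt}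
    (hd : d ∈ supports (golayCode : Set (GolayPt → ZMod 2))) (hd12 : d.card = 12)
    (hs : s ∈ supports (golayCode : Set (GolayPt → ZMod 2))) (hsd : s ⊆ d) : s = ∅ ∨ s = d := by
  have hle := Finset.card_le_card hsd
  have hdiff : d ∆ s = d \ s := by
    rw [symmDiff_def, Finset.sdiff_eq_empty_iff_subset.2 hsd, Finset.sup_eq_union, Finset.union_empty]
  have h2 := Golay.card_mem_weights (Golay.symmDiff_mem hd hs)
  rw [hdiff, Finset.card_sdiff_of_subset hsd, hd12] at h2
  rcases Golay.card_mem_weights hs with h | h | h | h | h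
  · exact Or.inl (Finset.card_eq_zero.1 h)
  · omega
  · exact Or.inr (Finset.eq_of_subset_of_card_le hsd (by omega))
  · omega
  · omega

/-- Half of a lattice vector vanishing somewhere. -/
theorem exists_half {x : GolayPt → ℤ} (hx : x ∈ leechLattice) {j : GolayPt} (hj : x j = 0) :
    ∃ a : GolayPt → ℤ, (∀ i, x i = 2 * a i) ∧ mod2 a ∈ golayCode := by
  obtain ⟨m, a, hm, h1, -, h3⟩ := exists_rep hx
  have hm0 : m = 0 := by
    rcases hm with h | h
    · exact h
    · have := h1 j; omega
  subst hm0
  exact ⟨a, fun i => by simpa using h1 i, h3⟩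

theorem mem_support₂_mod2 {a : GolayPt → ℤ} {i : GolayPt} :
    i ∈ support₂ (mod2 a) ↔ ¬ (2 : ℤ) ∣ a i := by
  rw [support₂, Finset.mem_filter]
  simp only [Finset.mem_univ, true_and, Ne]
  rw [mod2_apply, ZMod.intCast_zmod_eq_zero_iff_dvd]
  norm_cast

theorem support₂_mod2_subset {a : GolayPt → ℤ} {d : Finset GolayPt} (h : ∀ i, i ∉ d → a i = 0) :
    support₂ (mod2 a) ⊆ d := fun i hi => by
  by_contra hid
  exact (mem_support₂_mod2.1 hi) (by rw [h i hid]; exact dvd_zero _)

/-- A vector of norm 64 supported in a dodecad. -/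
theorem norm_sixtyfour_shape {d : Finset GolayPt}
    (hd : d ∈ supports (golayCode : Set (GolayPt → ZMod 2))) (hd12 : d.card = 12) {x : GolayPt → ℤ}
    (hx : x ∈ leechLattice) (hn : sqNorm x = 64) (hsupp : ∀ i, i ∉ d → x i = 0) :
    x ∈ stdCross ∨ ∀ i, x i = 0 ∨ x i = 4 ∨ x i = -4 := by
  obtain ⟨j, hj⟩ : (dᶜ).Nonempty := Finset.card_pos.1 (by rw [Finset.card_compl, hd12, card_pt]; norm_num)
  obtain ⟨a, ha, hcode⟩ := exists_half hx (hsupp j (Finset.mem_compl.1 hj))
  have ha0 : ∀ i, i ∉ d → a i = 0 := fun i hi => by have := ha i; rw [hsupp i hi] at this; omega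
  have hsum : ∑ i, a i ^ 2 = 16 := by
    have : sqNorm x = 4 * ∑ i, a i ^ 2 := by
      rw [sqNorm, Finset.mul_sum]
      exact Finset.sum_congr rfl fun i _ => by rw [ha i]; ring
    omega
  rcases code_subset_dodecad hd hd12 ((mem_code_iff_support _).1 hcode)
    (support₂_mod2_subset ha0) with h | h
  · have heven : ∀ i, ∃ b, a i = 2 * b := fun i => by
      have hi : i ∉ support₂ (mod2 a) := h ▸ Finset.notMem_empty i
      rw [mem_support₂_mod2, not_not] at hi
      exact hi
    choose b hb using heven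
    by_cases hbig : ∃ i, b i = 2 ∨ b i = -2
    · obtain ⟨i, hi⟩ := hbig
      have hrest : ∀ l, l ≠ i → b l = 0 := by
        intro l hl
        have h2 : a i ^ 2 + a l ^ 2 ≤ 16 := by
          rw [← hsum, ← Finset.sum_pair (f := fun k => a k ^ 2) (Ne.symm hl)]
          exact Finset.sum_le_sum_of_subset_of_nonneg (Finset.subset_univ _) fun _ _ _ => sq_nonneg _
        have h3 : a l ^ 2 = 0 := by
          have : a i ^ 2 = 16 := by rcases hi with e | e <;> rw [hb i, e] <;> norm_num
          nlinarith [sq_nonneg (a l)]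
        have h4 := hb l
        rw [sq_eq_zero_iff.1 h3] at h4
        omega
      refine Or.inl ⟨i, 4 * b i, by rcases hi with e | e <;> rw [e] <;> norm_num, funext fun l => ?_⟩
      by_cases hl : l = i
      · subst hl; rw [Pi.single_eq_same, ha, hb]; ring
      · rw [Pi.single_eq_of_ne hl, ha, hb, hrest l hl]; rfl
    · refine Or.inr fun i => ?_
      push Not at hbig
      have h2 : a i ^ 2 ≤ 16 := hsum ▸
        Finset.single_le_sum (f := fun l => a l ^ 2) (fun _ _ => sq_nonneg _) (Finset.mem_univ i)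
      rw [hb i] at h2
      have h3 : b i ≤ 2 ∧ -2 ≤ b i := ⟨by nlinarith, by nlinarith⟩
      have := hbig i
      rw [ha, hb]
      omega
  · exfalso
    have hodd : ∀ i ∈ d, a i ^ 2 = 1 ∨ a i ^ 2 = 9 ∨ 25 ≤ a i ^ 2 := fun i hi => by
      rw [← h] at hi
      have h2 : ¬ (2 : ℤ) ∣ a i := mem_support₂_mod2.1 hi
      rcases (show a i = 1 ∨ a i = -1 ∨ a i = 3 ∨ a i = -3 ∨ 5 ≤ a i ∨ a i ≤ -5 by omega) with
        e | e | e | e | e | e
      · exact Or.inl (by rw [e]; norm_num)
      · exact Or.inl (by rw [e]; norm_num)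
      · exact Or.inr (Or.inl (by rw [e]; norm_num))
      · exact Or.inr (Or.inl (by rw [e]; norm_num))
      · exact Or.inr (Or.inr (by nlinarith))
      · exact Or.inr (Or.inr (by nlinarith))
    have hs : ∑ i ∈ d, a i ^ 2 = 16 := by
      rw [← hsum]
      exact Finset.sum_subset (Finset.subset_univ d) fun i _ hi => by rw [ha0 i hi]; rfl
    by_cases hall : ∀ i ∈ d, a i ^ 2 = 1
    · rw [Finset.sum_congr rfl hall] at hs
      simp [hd12] at hs
    · push Not at hall
      obtain ⟨i, hi, hne⟩ := hall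
      rw [← Finset.add_sum_erase d _ hi] at hs
      have h11 : (11 : ℤ) ≤ ∑ l ∈ d.erase i, a l ^ 2 := by
        calc (11 : ℤ) = ∑ l ∈ d.erase i, 1 := by simp [Finset.card_erase_of_mem hi, hd12]
          _ ≤ _ := Finset.sum_le_sum fun l hl => by
              rcases hodd l (Finset.mem_of_mem_erase hl) with e | e | e <;> omega
      rcases hodd i hi with e | e | e
      · exact hne e
      · omega
      · omega

/-- The positions of a vector. -/
def suppOf (x : GolayPt → ℤ) : Finset GolayPt := Finset.univ.filter fun i => x i ≠ 0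

theorem card_suppOf {x : GolayPt → ℤ} (hn : sqNorm x = 64) (h : ∀ i, x i = 0 ∨ x i = 4 ∨ x i = -4) :
    (suppOf x).card = 4 := by
  have : sqNorm x = 16 * (suppOf x).card := by
    rw [sqNorm, suppOf, Finset.card_filter, Nat.cast_sum, Finset.mul_sum]
    refine Finset.sum_congr rfl fun i _ => ?_
    rcases h i with e | e | e <;> simp [e]
  omega

theorem suppOf_eq_of_congr {d : Finset GolayPt}
    (hd : d ∈ supports (golayCode : Set (GolayPt → ZMod 2))) (hd12 : d.card = 12) {x y : GolayPt → ℤ}
    (hx : ∀ i, x i = 0 ∨ x i = 4 ∨ x i = -4) (hy : ∀ i, y i = 0 ∨ y i = 4 ∨ y i = -4)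
    (hxn : sqNorm x = 64) (hyn : sqNorm y = 64) (hxs : ∀ i, i ∉ d → x i = 0)
    (hys : ∀ i, i ∉ d → y i = 0) (hc : Congr x y) : suppOf x = suppOf y := by
  obtain ⟨v, hv, he⟩ := hc
  have he' : ∀ i, x i - y i = 2 * v i := fun i => by
    have := congrFun he i
    simpa using this
  obtain ⟨j, hj⟩ : (dᶜ).Nonempty := Finset.card_pos.1 (by rw [Finset.card_compl, hd12, card_pt]; norm_num)
  have hj' := Finset.mem_compl.1 hj
  obtain ⟨a, ha, hcode⟩ := exists_half hv (j := j) (by
    have := he' j; rw [hxs j hj', hys j hj'] at this; omega)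
  have ha4 : ∀ i, x i - y i = 4 * a i := fun i => by rw [he' i, ha i]; ring
  have hmem : ∀ i, i ∈ support₂ (mod2 a) ↔ ¬ (i ∈ suppOf x ↔ i ∈ suppOf y) := by
    intro i
    have h1 : i ∈ support₂ (mod2 a) ↔ ¬ (2 : ℤ) ∣ a i := mem_support₂_mod2
    rw [h1]
    have := ha4 i
    simp only [suppOf, Finset.mem_filter, Finset.mem_univ, true_and]
    rcases hx i with e | e | e <;> rcases hy i with e' | e' | e' <;> rw [e, e'] at this ⊢ <;>
      simp <;> omega
  have hsub : support₂ (mod2 a) ⊆ d := support₂_mod2_subset fun i hi => by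
    have := ha4 i; rw [hxs i hi, hys i hi] at this; omega
  rcases code_subset_dodecad hd hd12 ((mem_code_iff_support _).1 hcode) hsub with h | h
  · ext i
    have := hmem i
    rw [h] at this
    simpa using this
  · exfalso
    have hle : (support₂ (mod2 a)).card ≤ (suppOf x ∪ suppOf y).card :=
      Finset.card_le_card fun i hi => by
        have := (hmem i).1 hi
        rw [Finset.mem_union]
        tauto
    have := Finset.card_union_le (suppOf x) (suppOf y)
    rw [h, hd12] at hle
    rw [card_suppOf hxn hx, card_suppOf hyn hy] at this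
    omega

theorem mem_stdStab_of_supported {c d : Finset GolayPt}
    (hd : d ∈ supports (golayCode : Set (GolayPt → ZMod 2))) (hd12 : d.card = 12) (hc12 : c.card = 12)
    {g : Co0} (h : ∀ i ∈ c, ∀ j, j ∉ d → ((g • eightVec i : leechLattice) : GolayPt → ℤ) j = 0) :
    g ∈ stdStab := by
  classical
  by_cases hex : ∃ i, ((g • eightVec i : leechLattice) : GolayPt → ℤ) ∈ stdCross
  · obtain ⟨i, hi⟩ := hex
    exact stdCross_invariant hi (eightVec_mem_stdCross none)
  exfalso
  push Not at hex
  set x : GolayPt → GolayPt → ℤ := fun i => ((g • eightVec i : leechLattice) : GolayPt → ℤ) with hxdef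
  have hn : ∀ i, sqNorm (x i) = 64 := fun i => by rw [hxdef, sqNorm_smul, sqNorm_eightVec]
  have hshape : ∀ i ∈ c, ∀ l, x i l = 0 ∨ x i l = 4 ∨ x i l = -4 := fun i hi =>
    (norm_sixtyfour_shape hd hd12 (g • eightVec i).2 (hn i) (h i hi)).resolve_left (hex i)
  obtain ⟨i0, hi0⟩ : c.Nonempty := Finset.card_pos.1 (by omega)
  set T := suppOf (x i0) with hT
  have hsame : ∀ i ∈ c, ∀ l, l ∉ T → x i l = 0 := by
    intro i hi l hl
    have hcg : Congr (x i) (x i0) := congr_smul g
      (congr_of_mem_stdCross (eightVec_mem_stdCross i) (eightVec_mem_stdCross i0))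
    have e := suppOf_eq_of_congr hd hd12 (hshape i hi) (hshape i0 hi0) (hn i) (hn i0) (h i hi)
      (h i0 hi0) hcg
    by_contra hne
    exact hl (hT ▸ e ▸ by simp [suppOf, hne])
  let R : Finset ({l // l ∈ T} → ℤ) := c.image fun i l => x i l.1
  have hdot : ∀ i ∈ c, ∀ j ∈ c, dotInt (fun l : {l // l ∈ T} => x i l.1) (fun l => x j l.1) =
      if i = j then 64 else 0 := by
    intro i hi j _
    have e : dotInt (x i) (x j) = if i = j then 64 else 0 := by
      rw [hxdef, dotInt_smul, coe_eightVec, coe_eightVec]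
      simp only [dotInt, Pi.single_apply, ite_mul, zero_mul, Finset.sum_ite_eq', Finset.mem_univ, if_true]
      split_ifs <;> simp_all
    rw [← e]
    simp only [dotInt]
    rw [← Finset.sum_subtype T (fun _ => Iff.rfl) (fun l => x i l * x j l)]
    exact Finset.sum_subset (Finset.subset_univ _) fun l _ hl => by rw [hsame i hi l hl, zero_mul]
  have hinj : Set.InjOn (fun i (l : {l // l ∈ T}) => x i l.1) c := by
    intro i hi j hj hij
    have h1 := hdot i hi j hj
    simp only at hij
    rw [hij, hdot j hj j hj, if_pos rfl] at h1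
    by_contra hne
    rw [if_neg hne] at h1
    norm_num at h1
  have hle := card_le_of_orthogonal R (fun y hy h0 => by
    obtain ⟨i, hi, rfl⟩ := Finset.mem_image.1 hy
    have h1 := hdot i hi i hi
    rw [h0, if_pos rfl] at h1
    simp [dotInt] at h1) (fun y hy z hz hne => by
    obtain ⟨i, hi, rfl⟩ := Finset.mem_image.1 hy
    obtain ⟨j, hj, rfl⟩ := Finset.mem_image.1 hz
    rw [hdot i hi j hj, if_neg (fun e => hne (by subst e; rfl))])
  rw [Finset.card_image_of_injOn hinj, hc12, Fintype.card_coe, hT,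
    card_suppOf (hn i0) (hshape i0 hi0)] at hle
  norm_num at hle

/-- **The centraliser of a dodecad sign change.** -/
theorem cent_dodecad_le {c : CodeSet} (hc : c.1.card = 12) {g : Spor.Co1}
    (h : g * nmono 1 c = nmono 1 c * g) : g ∈ N0 := by
  obtain ⟨g, rfl⟩ := QuotientGroup.mk_surjective g
  refine ⟨g, ?_, rfl⟩
  set e := mono0 1 c with he
  have h1 : (QuotientGroup.mk (g * e * (e * g)⁻¹) : Spor.Co1) = 1 := by
    rw [QuotientGroup.mk_mul, QuotientGroup.mk_mul, QuotientGroup.mk_inv, QuotientGroup.mk_mul, he]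
    exact mul_inv_eq_one.2 h
  have hvec : ∀ (v : leechLattice) l, ((e • v : leechLattice) : GolayPt → ℤ) l =
      if l ∈ c.1 then -(v : GolayPt → ℤ) l else (v : GolayPt → ℤ) l := fun v l => by
    rw [he, mono0, vec_mono]; rfl
  have hneg : ∀ i ∈ c.1, e • eightVec i = -eightVec i := fun i hi => Subtype.ext (funext fun l => by
    rw [hvec]
    show _ = -((eightVec i : GolayPt → ℤ) l)
    rw [coe_eightVec]
    by_cases hl : l = i
    · subst hl; rw [if_pos hi]
    · rw [Pi.single_eq_of_ne hl]; simp)
  rcases Co1Centralizer.mk_eq_one_iff.1 h1 with h2 | h2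
  · refine mem_stdStab_of_supported c.2 hc hc fun i hi j hj => ?_
    have h3 := congrArg (fun y : Co0 => ((y • eightVec i : leechLattice) : GolayPt → ℤ) j)
      (mul_inv_eq_one.1 h2)
    simp only [mul_smul, hneg i hi, smul_vneg, hvec, if_neg hj] at h3
    change -((g • eightVec i : leechLattice) : GolayPt → ℤ) j = _ at h3
    omega
  · refine mem_stdStab_of_supported (d := c.1ᶜ) (Golay.compl_mem c.2)
      (by rw [Finset.card_compl, hc, card_pt]) hc fun i hi j hj => ?_
    rw [Finset.mem_compl, not_not] at hj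
    have h3 := congrArg (fun y : Co0 => ((y • eightVec i : leechLattice) : GolayPt → ℤ) j)
      (mul_inv_eq_iff_eq_mul.1 h2)
    simp only [mul_smul, hneg i hi, smul_vneg, negOne_smul] at h3
    change -((g • eightVec i : leechLattice) : GolayPt → ℤ) j =
      -((e • g • eightVec i : leechLattice) : GolayPt → ℤ) j at h3
    rw [hvec, if_pos hj] at h3
    omega

end Cfsg.Agent.CoOneUniq
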