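/-
The involutions of Co1 in terms of sign changes (helper19).

* `sgn`, `conj_sgn`, `isConj_z0_sgn` : sign changes and their classes
* `not_isConj_dodecad` : the dodecad involution is not conjugate to `z0`
* `SqNeg`, `classify`, `exists_conj_comm_z0` : the classes of involutions
-/
import Cfsg.Agent.Lib.CoOneUniq.Dodecad
import Cfsg.Agent.Lib.CoType.Main
import Cfsg.Agent.Lib.GolayClasses.Free

set_option autoImplicit false
set_option maxRecDepth 100000
open scoped Pointwise symmDiff

namespace Cfsg.Agent.CoOneUniq.Closing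

open Cfsg Cfsg.Agent.Leech Cfsg.Agent.CoOneUniq
open Cfsg.Agent.Co1Centralizer (z1)

/-- The class of a sign change. -/
noncomputable def sgn (c : CodeSet) : Spor.Co1 := nmono 1 c

theorem mv_one (c : CodeSet) : mv 1 c = c := Subtype.ext (one_smul _ c.1)

theorem sgn_mul (c d : CodeSet) : sgn c * sgn d = sgn (cadd c d) := by
  rw [sgn, sgn, nmono_mul, one_mul, mv_one]; rfl

theorem cadd_comm (c d : CodeSet) : cadd c d = cadd d c := Subtype.ext (symmDiff_comm c.1 d.1)

theorem sgn_comm (c d : CodeSet) : sgn c * sgn d = sgn d * sgn c := by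
  rw [sgn_mul, sgn_mul, cadd_comm]

theorem sgn_sq (c : CodeSet) : sgn c * sgn c = 1 := by
  rw [sgn_mul, show cadd c c = cempty from Subtype.ext (symmDiff_self c.1)]
  exact nmono_one

theorem conj_sgn (σ : ↥M24) (e d : CodeSet) :
    nmono σ e * sgn d * (nmono σ e)⁻¹ = sgn (mv σ d) := by
  rw [mul_inv_eq_iff_eq_mul, sgn, sgn, nmono_mul, nmono_mul, mul_one, one_mul, mv_one, cadd_comm]

theorem cadd_cuniv (c : CodeSet) : (cadd cuniv c).1 = c.1ᶜ := by
  show Finset.univ ∆ c.1 = c.1ᶜ
  rw [← Finset.top_eq_univ, top_symmDiff]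
  rfl

theorem sgn_eq_iff {c d : CodeSet} : sgn c = sgn d ↔ d.1 = c.1 ∨ d.1 = c.1ᶜ := by
  rw [sgn, sgn, nmono_eq_iff]
  constructor
  · rintro ⟨-, rfl | rfl⟩
    · exact Or.inl rfl
    · exact Or.inr (cadd_cuniv c)
  · rintro (h | h)
    · exact ⟨rfl, Or.inl (Subtype.ext h.symm)⟩
    · exact ⟨rfl, Or.inr (Subtype.ext (h.trans (cadd_cuniv c).symm))⟩

theorem sgn_ne_one {c : CodeSet} (h0 : c.1.card ≠ 0) (h24 : c.1.card ≠ 24) : sgn c ≠ 1 := by
  intro h
  rw [← nmono_one] at h
  rcases sgn_eq_iff.1 (show sgn c = sgn cempty from h) with e | e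
  · exact h0 (by rw [← e]; rfl)
  · have := congrArg Finset.card e
    rw [Finset.card_compl, card_pt] at this
    simp only [cempty, Finset.card_empty] at this
    have hle := Finset.card_le_univ c.1
    rw [card_pt] at hle
    omega

theorem orderOf_sgn {c : CodeSet} (h0 : c.1.card ≠ 0) (h24 : c.1.card ≠ 24) :
    orderOf (sgn c) = 2 := by
  haveI : Fact (Nat.Prime 2) := ⟨Nat.prime_two⟩
  exact orderOf_eq_prime (by rw [sq, sgn_sq]) (sgn_ne_one h0 h24)

theorem isConj_of_octads {c d : CodeSet} (hc : c.1.card = 8) (hd : d.1.card = 8) :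
    IsConj (sgn c) (sgn d) := by
  obtain ⟨σ, hσ, he⟩ := Golay.exists_map_octad (⟨c.2, hc⟩ : c.1 ∈ octads) ⟨d.2, hd⟩
  refine isConj_iff.2 ⟨nmono ⟨σ, hσ⟩ cempty, ?_⟩
  rw [conj_sgn]
  exact congrArg sgn (Subtype.ext he)

/-- The base octad. -/
def cBase : CodeSet := ⟨Co2Centralizer.oct, Co2Centralizer.oct_mem.1⟩

theorem z1_eq : z1 = sgn cBase := by
  have h : z1 = sgn (⟨Co2Centralizer.octᶜ, Co2Centralizer.octCompl_mem⟩ : CodeSet) := rfl
  rw [h, sgn_eq_iff]
  exact Or.inr (compl_compl _).symm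

/-- Octads and their complements give the class of the standard involution. -/
theorem isConj_z0_sgn {c : CodeSet} (h : c.1.card = 8 ∨ c.1.card = 16) : IsConj z1 (sgn c) := by
  rw [z1_eq]
  rcases h with h | h
  · exact isConj_of_octads Co2Centralizer.oct_mem.2 h
  · have e : sgn c = sgn (cadd cuniv c) := by rw [sgn_eq_iff]; exact Or.inr (cadd_cuniv c)
    rw [e]
    exact isConj_of_octads Co2Centralizer.oct_mem.2
      (by rw [cadd_cuniv, Finset.card_compl, card_pt, h])

theorem natCard_cz : Nat.card (Co1Centralizer.cz1) = 2 ^ 9 * 174182400 := by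
  have h := Co1Centralizer.psi.ker.index_mul_card
  rw [Subgroup.index_ker, Co1Centralizer.psi_range, Co1Centralizer.natCard_Qz] at h
  rw [← h, mul_comm]
  exact congrArg (2 ^ 9 * ·) CoType.card_omega

theorem not_isConj_dodecad {c : CodeSet} (hc : c.1.card = 12) : ¬ IsConj z1 (sgn c) := by
  intro h
  obtain ⟨g, hg⟩ := isConj_iff.1 h
  have hle : Co1Centralizer.cz1.map (MulAut.conj g).toMonoidHom ≤ N0 := by
    rintro _ ⟨x, hx, rfl⟩
    refine cent_dodecad_le hc ?_
    show g * x * g⁻¹ * sgn c = sgn c * (g * x * g⁻¹)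
    rw [← hg]
    have hx' : x * z1 = z1 * x := Subgroup.mem_centralizer_singleton_iff.1 hx
    calc g * x * g⁻¹ * (g * z1 * g⁻¹) = g * (x * z1) * g⁻¹ := by group
      _ = g * (z1 * x) * g⁻¹ := by rw [hx']
      _ = _ := by group
  have h1 := Subgroup.card_dvd_of_le hle
  rw [Subgroup.card_map_of_injective (MulAut.conj g).injective, natCard_cz, natCard_N0] at h1
  norm_num at h1

/-- Some lift squares to the negative of the identity. -/
def SqNeg (x : Spor.Co1) : Prop := ∃ x0 : Co0, (QuotientGroup.mk x0 : Spor.Co1) = x ∧ x0 * x0 = negOne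

theorem negOne_comm (g : Co0) : g * negOne = negOne * g :=
  Subgroup.mem_center_iff.1 negOne_mem_center g

theorem negOne_mul_self : negOne * negOne = 1 :=
  co0_ext fun v => by rw [mul_smul, negOne_smul, negOne_smul, neg_neg, one_smul]

theorem SqNeg.of_isConj {x y : Spor.Co1} (h : SqNeg x) (hxy : IsConj x y) : SqNeg y := by
  obtain ⟨x0, rfl, hx0⟩ := h
  obtain ⟨g, rfl⟩ := isConj_iff.1 hxy
  obtain ⟨g, rfl⟩ := QuotientGroup.mk_surjective g
  refine ⟨g * x0 * g⁻¹, by rw [QuotientGroup.mk_mul, QuotientGroup.mk_mul, QuotientGroup.mk_inv], ?_⟩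
  calc g * x0 * g⁻¹ * (g * x0 * g⁻¹) = g * (x0 * x0) * g⁻¹ := by group
    _ = negOne := by rw [hx0, negOne_comm, mul_inv_cancel_right]

theorem not_sqNeg_sgn (c : CodeSet) : ¬ SqNeg (sgn c) := by
  rintro ⟨x0, hx, hsq⟩
  have hc : mono0 1 c * mono0 1 c = 1 := by
    rw [mono0_mul, one_mul, mv_one, show cadd c c = cempty from Subtype.ext (symmDiff_self c.1)]
    exact mono0_one
  have h1 : (QuotientGroup.mk (x0 * (mono0 1 c)⁻¹) : Spor.Co1) = 1 := by
    rw [QuotientGroup.mk_mul, hx, QuotientGroup.mk_inv]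
    exact mul_inv_cancel _
  apply negOne_ne_one
  rcases Co1Centralizer.mk_eq_one_iff.1 h1 with e | e
  · rw [← hsq, mul_inv_eq_one.1 e, hc]
  · rw [mul_inv_eq_iff_eq_mul] at e
    calc negOne = x0 * x0 := hsq.symm
      _ = negOne * mono0 1 c * (negOne * mono0 1 c) := by rw [← e]
      _ = negOne * (mono0 1 c * negOne) * mono0 1 c := by group
      _ = 1 := by rw [negOne_comm, ← mul_assoc, negOne_mul_self, one_mul, hc]

theorem SqNeg.not_isConj_sgn {x : Spor.Co1} (h : SqNeg x) (c : CodeSet) : ¬ IsConj (sgn c) x :=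
  fun e => not_sqNeg_sgn c (h.of_isConj e.symm)

theorem SqNeg.not_isConj_z1 {x : Spor.Co1} (h : SqNeg x) : ¬ IsConj z1 x :=
  z1_eq ▸ h.not_isConj_sgn cBase

/-- The property passes to the product with `z0` on its centraliser. -/
theorem SqNeg.z1_mul {x : Spor.Co1} (h : SqNeg x) (hc : x * z1 = z1 * x) : SqNeg (z1 * x) := by
  obtain ⟨x0, rfl, hx0⟩ := h
  have h0 := Co1Centralizer.mem_cen.1
    (Co1Centralizer.mk_mem_cz1.1 (Subgroup.mem_centralizer_singleton_iff.2 hc))
  refine ⟨Co2Centralizer.inv0 * x0, by rw [QuotientGroup.mk_mul]; rfl, ?_⟩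
  calc Co2Centralizer.inv0 * x0 * (Co2Centralizer.inv0 * x0)
      = Co2Centralizer.inv0 * (x0 * Co2Centralizer.inv0) * x0 := by group
    _ = Co2Centralizer.inv0 * Co2Centralizer.inv0 * (x0 * x0) := by rw [h0]; group
    _ = negOne := by rw [Co1Centralizer.inv0_mul_self, one_mul, hx0]

/-- The sign set of the witness. -/
def witMask : ℕ := 0x9ee154

theorem witMask_ok : (Golay.isCode witMask &&
    witMask ^^^ Golay.imgMask GolayClasses.freeInv witMask == 16777215 &&
    (List.range 24).all fun i => Golay.fn GolayClasses.freeInv (Golay.fn GolayClasses.freeInv i) == i)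
      = true := by decide +kernel

theorem exists_sqNeg : ∃ w : Spor.Co1, orderOf w = 2 ∧ SqNeg w := by
  have h := witMask_ok
  simp only [Bool.and_eq_true, beq_iff_eq, List.all_eq_true, List.mem_range] at h
  obtain ⟨⟨h1, h2⟩, h3⟩ := h
  have hlt := Golay.lt_of_isCode h1
  let σ : ↥M24 := ⟨GolayClasses.freeS, GolayClasses.freeS_mem⟩
  let c : CodeSet := ⟨Golay.pts witMask, (Golay.pts_mem_supports_iff hlt).2 h1⟩
  have hv := GolayClasses.validPerm_freeInv
  have hinv : σ * σ = 1 := Subtype.ext (Equiv.ext fun p => Golay.idx_injective (by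
    show Golay.idx (GolayClasses.freeS (GolayClasses.freeS p)) = Golay.idx p
    rw [GolayClasses.freeS, Golay.idx_toPerm hv, Golay.idx_toPerm hv]
    exact h3 _ (Golay.idx_lt p)))
  have hsq : mono0 σ c * mono0 σ c = negOne := by
    rw [mono0_mul, hinv, negOne_eq_mono]
    refine congrArg (mono0 1) (Subtype.ext ?_)
    show Golay.pts witMask ∆ (GolayClasses.freeS • Golay.pts witMask) = Finset.univ
    rw [GolayClasses.freeS, ← Golay.pts_imgMask hv, ← Golay.pts_xor, h2, Golay.pts_full]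
  refine ⟨nmono σ c, ?_, mono0 σ c, rfl, hsq⟩
  haveI : Fact (Nat.Prime 2) := ⟨Nat.prime_two⟩
  refine orderOf_eq_prime ?_ fun e => ?_
  · rw [sq, nmono, ← QuotientGroup.mk_mul, hsq, Co1Centralizer.mk_eq_one_iff.2 (Or.inr rfl)]
  · rcases Co1Centralizer.mk_eq_one_iff.1 (e : (QuotientGroup.mk (mono0 σ c) : Spor.Co1) = 1) with
      e' | e'
    · rw [e', one_mul] at hsq; exact negOne_ne_one hsq.symm
    · rw [e', negOne_mul_self] at hsq; exact negOne_ne_one hsq.symm

theorem exists_co_model : ∃ T : CoType.Co Spor.Co1, T.z = z1 := by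
  obtain ⟨g, hg, hne⟩ := Co1Centralizer.exists_fused
  obtain ⟨T, hT, -⟩ := CoType.exists_co z1 Co1Centralizer.orderOf_z1 Co1Centralizer.psi.ker
    Co1Centralizer.genFitting_eq Co1Centralizer.isExtraspecial_Qz Co1Centralizer.natCard_Qz
    ((QuotientGroup.quotientKerEquivRange Co1Centralizer.psi).trans
      (MulEquiv.subgroupCongr Co1Centralizer.psi_range)) ⟨g, hg, hne⟩
  exact ⟨T, hT⟩

theorem exists_conj_comm_z1 {x : Spor.Co1} (hx : orderOf x = 2) :
    ∃ g : Spor.Co1, g * x * g⁻¹ * z1 = z1 * (g * x * g⁻¹) := by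
  obtain ⟨T, hT⟩ := exists_co_model
  rw [← hT]
  exact T.exists_conj_comm hx

/-- **The classes of involutions of Co1.** -/
theorem classify {D : CodeSet} (hD : D.1.card = 12) {x : Spor.Co1} (hx : orderOf x = 2) :
    IsConj z1 x ∨ IsConj (sgn D) x ∨ SqNeg x := by
  obtain ⟨w, hw2, hw⟩ := exists_sqNeg
  obtain ⟨T, -⟩ := exists_co_model
  obtain ⟨a, b, c, -, -, -, -, -, -, hall⟩ := CoType.three_classes T
  have h1 : orderOf (sgn D) = 2 := orderOf_sgn (by omega) (by omega)
  have n1 : ¬ IsConj z1 (sgn D) := not_isConj_dodecad hD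
  have n2 : ¬ IsConj z1 w := hw.not_isConj_z1
  have n3 : ¬ IsConj (sgn D) w := hw.not_isConj_sgn D
  have key : IsConj z1 x ∨ IsConj (sgn D) x ∨ IsConj w x := by
    rcases hall z1 Co1Centralizer.orderOf_z1 with e | e | e <;>
      rcases hall _ h1 with e' | e' | e' <;>
      rcases hall w hw2 with e'' | e'' | e'' <;>
      first
        | exact absurd (e.trans e'.symm) n1
        | exact absurd (e.trans e''.symm) n2
        | exact absurd (e'.trans e''.symm) n3
        | (rcases hall x hx with f | f | f <;>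
            first
              | exact Or.inl (e.trans f.symm)
              | exact Or.inr (Or.inl (e'.trans f.symm))
              | exact Or.inr (Or.inr (e''.trans f.symm)))
  rcases key with k | k | k
  · exact Or.inl k
  · exact Or.inr (Or.inl k)
  · exact Or.inr (Or.inr (hw.of_isConj k))

end Cfsg.Agent.CoOneUniq.Closing
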