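/-
Closing step of the uniqueness of Co1: a copy of Co1 containing the centraliser of the standard
involution is the whole group (helper19, following the design of helper85).

* `range_eq_top` : the result
-/
import Cfsg.Agent.Lib.CoOneUniq.ModelInvol
import Cfsg.Agent.Lib.CoOneUniq.ClosingData
import Cfsg.Agent.Lib.CoOneUniq.Dihedral

set_option autoImplicit false
set_option maxRecDepth 100000
set_option linter.unusedSectionVars false
open scoped Pointwise symmDiff

namespace Cfsg.Agent.CoOneUniq.Closing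

open Cfsg Cfsg.Agent.Leech Cfsg.Agent.CoOneUniq
open Cfsg.Agent.TransvCent.Closing
open Cfsg.Agent.Co1Centralizer (z1)
open Cfsg.Agent.Golay (pts maskOf popcount)

/-! ### Masks and sets -/

/-- An octad meets a set in two or six points. -/
def Two (o w : Finset GolayPt) : Prop := (o ∩ w).card = 2 ∨ (o ∩ w).card = 6

theorem two_iff {O W : ℕ} : two O W = true ↔ Two (pts O) (pts W) := by
  simp only [two, Two, Bool.or_eq_true, beq_iff_eq, ← Golay.pts_and, Golay.card_pts]

theorem Two.smul {σ : Equiv.Perm GolayPt} {o w : Finset GolayPt} (ho : o.card = 8)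
    (hw : σ • w = w ∨ σ • w = wᶜ) : Two (σ • o) w ↔ Two o w := by
  have h1 : (σ • o ∩ σ • w).card = (o ∩ w).card := by
    rw [← Finset.smul_finset_inter, Finset.card_smul_finset]
  rcases hw with h | h
  · rw [h] at h1
    rw [Two, Two, h1]
  · rw [h] at h1
    have h2 : (σ • o ∩ w).card + (σ • o ∩ wᶜ).card = 8 := by
      rw [← Finset.sdiff_eq_inter_compl, Finset.card_inter_add_card_sdiff, Finset.card_smul_finset, ho]
    rw [Two, Two]
    omega

theorem mem_octList {o : CodeSet} (ho : o.1.card = 8) : maskOf o.1 ∈ octList := by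
  obtain ⟨x, hx, he⟩ := Golay.mem_supports_iff_exists.1 o.2
  rw [octList, List.mem_filter, beq_iff_eq, List.mem_map]
  refine ⟨⟨x, List.mem_range.2 hx, ?_⟩, by rw [Golay.popcount_maskOf, ho]⟩
  rw [← he, Golay.maskOf_pts (Golay.enc_lt x)]

theorem octList_ok {m : ℕ} (h : m ∈ octList) :
    pts m ∈ supports (golayCode : Set (GolayPt → ZMod 2)) ∧ (pts m).card = 8 := by
  rw [octList, List.mem_filter, beq_iff_eq, List.mem_map] at h
  obtain ⟨⟨x, hx, rfl⟩, h8⟩ := h
  exact ⟨Golay.mem_supports_iff_exists.2 ⟨x, List.mem_range.1 hx, rfl⟩, by rw [Golay.card_pts, h8]⟩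

theorem mem_octD {o : CodeSet} (ho : o.1.card = 8) (h : Two o.1 (pts dD)) : maskOf o.1 ∈ octD := by
  rw [octD, List.mem_filter, two_iff, Golay.pts_maskOf]
  exact ⟨mem_octList ho, h⟩

theorem data_ok : (Golay.isCode dD && popcount dD == 12 && Golay.isCode oS && popcount oS == 8 &&
    Golay.isCode oT && popcount oT == 8 && !two oS dD && two oT dD) = true := by decide +kernel

theorem data :
    (Golay.isCode dD = true ∧ (pts dD).card = 12) ∧ (Golay.isCode oS = true ∧ (pts oS).card = 8) ∧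
      (Golay.isCode oT = true ∧ (pts oT).card = 8) ∧ ¬ Two (pts oS) (pts dD) ∧ Two (pts oT) (pts dD) := by
  have h := data_ok
  simp only [Bool.and_eq_true, beq_iff_eq, Bool.not_eq_true', ← Bool.not_eq_true, two_iff,
    ← Golay.card_pts] at h
  tauto

theorem mem_supports_of_code {m : ℕ} (h : Golay.isCode m = true) :
    pts m ∈ supports (golayCode : Set (GolayPt → ZMod 2)) :=
  (Golay.pts_mem_supports_iff (Golay.lt_of_isCode h)).2 h

/-- The dodecad. -/
def cD : CodeSet := ⟨pts dD, mem_supports_of_code data.1.1⟩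
/-- The first octad. -/
def cS : CodeSet := ⟨pts oS, mem_supports_of_code data.2.1.1⟩
/-- The second octad. -/
def cT : CodeSet := ⟨pts oT, mem_supports_of_code data.2.2.1.1⟩

theorem isZ_iff {e : ℕ} : isZ e = true ↔ (pts e).card = 8 ∨ (pts e).card = 16 := by
  simp only [isZ, Bool.or_eq_true, beq_iff_eq, Golay.card_pts]

/-- The action on sign changes of an element commuting with one of them. -/
theorem smul_of_comm {σ : ↥M24} {e w : CodeSet} (h : nmono σ e * sgn w = sgn w * nmono σ e) :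
    σ.1 • w.1 = w.1 ∨ σ.1 • w.1 = w.1ᶜ :=
  sgn_eq_iff.1 (show sgn w = sgn (mv σ w) by rw [← conj_sgn σ e w, h, mul_inv_cancel_right])

/-- Equal classes of octads. -/
theorem octad_of_sgn_eq {a b : CodeSet} (ha : a.1.card = 8) (hb : b.1.card = 8)
    (h : sgn a = sgn b) : b.1 = a.1 := by
  refine (sgn_eq_iff.1 h).resolve_right fun e => ?_
  rw [e, Finset.card_compl, ha, card_pt] at hb
  norm_num at hb

theorem card_mv {σ : ↥M24} {a : CodeSet} : (mv σ a).1.card = a.1.card := Finset.card_smul_finset _ _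

variable {G : Type*} [Group G] [Finite G] {f : Spor.Co1 →* G}

theorem eq_sgn_of_conj (hf : Function.Injective f) {σ : ↥M24} {e a s : CodeSet} {y : Spor.Co1}
    (h : f (nmono σ e) * f (sgn a) * (f (nmono σ e))⁻¹ = f (sgn s) * f y) :
    y = sgn (cadd s (mv σ a)) := by
  rw [← map_mul, ← map_inv, ← map_mul, ← map_mul] at h
  have h1 := hf h
  rw [conj_sgn] at h1
  rw [← sgn_mul, h1, ← mul_assoc, sgn_sq, one_mul]

theorem sgn_eq_one_of_empty {c : CodeSet} (h : c.1 = ∅) : sgn c = 1 := by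
  rw [show c = cempty from Subtype.ext h]
  exact nmono_one

theorem conj_z_of_card {c : CodeSet} (h : c.1.card = 8 ∨ c.1.card = 16) :
    IsConj (f z1) (f (sgn c)) := f.map_isConj (isConj_z0_sgn h)

/-- The facts from the check for the last level. -/
theorem level_two (hf : Function.Injective f) (S : Setting f.range (f z1)) {E : CodeSet}
    (hE : lvlTwo (maskOf E.1) = true) : Good f.range {f (sgn cD)} (f (sgn E)) := by
  intro c hc hcx
  set u := f (sgn cD) with hu
  set x := f (sgn E) with hxdef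
  set W : Set G := {u, x, u * x} with hW
  have hW0 : ∀ k, Fix W k → k * u = u * k ∧ k * x = x * k := fun k hk =>
    ⟨hk u (by simp [hW]), hk x (by simp [hW])⟩
  have hcW : Fix W c := by
    intro w hw
    simp only [hW, Set.mem_insert_iff, Set.mem_singleton_iff] at hw
    rcases hw with rfl | rfl | rfl
    · exact hc _ rfl
    · exact hcx
    · rw [← mul_assoc, hc u rfl, mul_assoc, hcx, mul_assoc]
  have hfix : ∀ a : CodeSet, Fix W (f (sgn a)) := by
    intro a w hw
    simp only [hW, Set.mem_insert_iff, Set.mem_singleton_iff] at hw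
    rcases hw with rfl | rfl | rfl
    · rw [hu, ← map_mul, sgn_comm, map_mul]
    · rw [hxdef, ← map_mul, sgn_comm, map_mul]
    · rw [hu, hxdef, ← map_mul, ← map_mul, sgn_mul, sgn_comm, map_mul]
  simp only [lvlTwo, List.any_eq_true, List.all_eq_true, Bool.and_eq_true, Bool.not_eq_true',
    ← Bool.not_eq_true, two_iff, Golay.pts_xor, Golay.pts_maskOf] at hE
  obtain ⟨ms, hms, ⟨⟨hsDE, hsE⟩, mt, hmt, htDE, htE⟩, hall⟩ := hE
  rw [octD, List.mem_filter, two_iff] at hms hmt
  set cs : CodeSet := ⟨pts ms, (octList_ok hms.1).1⟩ with hcs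
  set ct : CodeSet := ⟨pts mt, (octList_ok hmt.1).1⟩ with hct
  have hs8 : cs.1.card = 8 := (octList_ok hms.1).2
  have ht8 : ct.1.card = 8 := (octList_ok hmt.1).2
  have hz : ∀ a : CodeSet, a.1.card = 8 → Safe f.range W (f (sgn a)) := fun a ha =>
    Safe.of_isConj S ⟨_, rfl⟩ (hfix a) (conj_z_of_card (Or.inl ha))
  have hsq : ∀ a : CodeSet, f (sgn a) * f (sgn a) = 1 := fun a => by
    rw [← map_mul, sgn_sq, map_one]
  have stab : ∀ k, Fix W (f k) → ∃ (σ : ↥M24) (e : CodeSet), k = nmono σ e ∧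
      (σ.1 • pts dD = pts dD ∨ σ.1 • pts dD = (pts dD)ᶜ) ∧
      (σ.1 • E.1 = E.1 ∨ σ.1 • E.1 = E.1ᶜ) ∧
      (σ.1 • (pts dD ∆ E.1) = pts dD ∆ E.1 ∨ σ.1 • (pts dD ∆ E.1) = (pts dD ∆ E.1)ᶜ) := by
    intro k hk
    obtain ⟨h1, h2⟩ := hW0 _ hk
    rw [hu, ← map_mul, ← map_mul] at h1
    rw [hxdef, ← map_mul, ← map_mul] at h2
    have h1' := hf h1
    have h2' := hf h2
    obtain ⟨σ, e, rfl⟩ := mem_N0.1 (cent_dodecad_le data.1.2 (c := cD) h1')
    refine ⟨σ, e, rfl, smul_of_comm h1', smul_of_comm h2', smul_of_comm (e := e) (w := cadd cD E) ?_⟩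
    rw [← sgn_mul, ← mul_assoc, h1', mul_assoc, h2', mul_assoc]
  refine cent_le_of_dihedral (W := W) (hz cs hs8) (hsq cs) (hz ct ht8) (hsq ct) ?_ ?_ c hcW
  · rintro _ ⟨k, rfl⟩ hk he
    obtain ⟨σ, e, rfl, -, hσE, -⟩ := stab k hk
    rw [← map_mul, ← map_inv, ← map_mul] at he
    have h1 := hf he
    rw [conj_sgn] at h1
    have h2 : ct.1 = σ.1 • cs.1 := octad_of_sgn_eq (card_mv.trans hs8) ht8 h1
    have h3 : Two (σ.1 • cs.1) E.1 := h2 ▸ htE
    exact hsE ((Two.smul hs8 hσE).1 h3)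
  · rintro _ ⟨y, rfl⟩ - hy2 -
    by_cases hg : Good f.range W (f y)
    · exact Or.inl hg
    refine Or.inr ?_
    have key : ∀ (a : CodeSet), a.1.card = 8 → Two a.1 (pts dD) → Two a.1 (pts dD ∆ E.1) →
        ∀ k, Fix W (f k) → f k * f (sgn a) * (f k)⁻¹ ≠ f (sgn cs) * f y := by
      intro a ha8 haD haDE k hk he
      obtain ⟨σ, e, rfl, hσD, -, hσDE⟩ := stab k hk
      have hy := eq_sgn_of_conj hf he
      set O := mv σ a with hO
      have hO8 : O.1.card = 8 := card_mv.trans ha8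
      have h1 : Two O.1 (pts dD) := (Two.smul ha8 hσD).2 haD
      have h2 : Two O.1 (pts dD ∆ E.1) := (Two.smul ha8 hσDE).2 haDE
      have h3 := hall _ (mem_octD hO8 h1)
      simp only [Bool.or_eq_true, Bool.not_eq_true', ← Bool.not_eq_true, two_iff, beq_iff_eq,
        isZ_iff, Golay.pts_xor, Golay.pts_maskOf, h2, not_true_eq_false, false_or] at h3
      have hw : ∀ w : CodeSet, f (sgn w) ∈ W →
          ((cadd cs O).1 ∆ w.1).card = 8 ∨ ((cadd cs O).1 ∆ w.1).card = 16 → False := by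
        intro w hwW hcard
        refine hg (good_of_mul S hwW ⟨_, rfl⟩ ⟨_, rfl⟩ ?_)
        rw [← map_mul, hy, sgn_mul]
        exact conj_z_of_card hcard
      rcases h3 with (((h3 | h3) | h3) | h3) | h3
      · have hem : (cadd cs O).1 = ∅ := by
          show pts ms ∆ O.1 = ∅
          have h4 := congrArg pts h3
          rwa [Golay.pts_xor, Golay.pts_maskOf, Golay.pts_zero] at h4
        rw [hy, sgn_eq_one_of_empty hem, map_one, orderOf_one] at hy2
        norm_num at hy2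
      · refine hg (good_of_conj S ?_ ⟨_, rfl⟩)
        rw [hy]
        exact conj_z_of_card h3
      · exact hw cD (by simp [hW, hu]) h3
      · exact hw E (by simp [hW, hxdef]) h3
      · exact hw (cadd cD E) (by rw [← sgn_mul, map_mul]; simp [hW, hu, hxdef]) h3
    rintro _ ⟨k, rfl⟩ hk
    exact ⟨key cs hs8 hms.2 hsDE k hk, key ct ht8 hmt.2 htDE k hk⟩

/-- The centraliser of the dodecad involution. -/
theorem cent_u_le (hf : Function.Injective f) (S : Setting f.range (f z1)) {c : G}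
    (hc : c * f (sgn cD) = f (sgn cD) * c) : c ∈ f.range := by
  set u := f (sgn cD) with hu
  set W : Set G := {u} with hW
  have hfix : ∀ a : CodeSet, Fix W (f (sgn a)) := by
    intro a w hw
    rw [hW, Set.mem_singleton_iff] at hw
    subst hw
    rw [hu, ← map_mul, sgn_comm, map_mul]
  have hz : ∀ a : CodeSet, a.1.card = 8 → Safe f.range W (f (sgn a)) := fun a ha =>
    Safe.of_isConj S ⟨_, rfl⟩ (hfix a) (conj_z_of_card (Or.inl ha))
  have hsq : ∀ a : CodeSet, f (sgn a) * f (sgn a) = 1 := fun a => by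
    rw [← map_mul, sgn_sq, map_one]
  have stab : ∀ k, Fix W (f k) → ∃ (σ : ↥M24) (e : CodeSet), k = nmono σ e ∧
      (σ.1 • pts dD = pts dD ∨ σ.1 • pts dD = (pts dD)ᶜ) := by
    intro k hk
    have h1 := hk u (by simp [hW])
    rw [hu, ← map_mul, ← map_mul] at h1
    have h1' := hf h1
    obtain ⟨σ, e, rfl⟩ := mem_N0.1 (cent_dodecad_le data.1.2 (c := cD) h1')
    exact ⟨σ, e, rfl, smul_of_comm h1'⟩
  have hcW : Fix W c := fun w hw => by rw [hW, Set.mem_singleton_iff] at hw; subst hw; exact hc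
  have hgood : ∀ O : CodeSet, O.1.card = 8 → sgn (cadd cS O) ≠ 1 →
      Good f.range W (f (sgn (cadd cS O))) := by
    intro O hO hne
    have h := List.all_eq_true.1 lvlOne_all _ (mem_octList hO)
    simp only [lvlOne, Bool.or_eq_true, beq_iff_eq, isZ_iff, Golay.pts_xor, Golay.pts_maskOf] at h
    rcases h with ((h | h) | h) | h
    · refine absurd (sgn_eq_one_of_empty ?_) hne
      show pts oS ∆ O.1 = ∅
      have h4 := congrArg pts h
      rwa [Golay.pts_xor, Golay.pts_maskOf, Golay.pts_zero] at h4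
    · exact good_of_conj S (conj_z_of_card h) ⟨_, rfl⟩
    · refine good_of_mul S (w := u) (by simp [hW]) ⟨_, rfl⟩ ⟨_, rfl⟩ ?_
      rw [hu, ← map_mul, sgn_mul]
      exact conj_z_of_card h
    · refine level_two hf S (E := cadd cS O) ?_
      rwa [show maskOf (cadd cS O).1 = oS ^^^ maskOf O.1 from ?_]
      apply Golay.pts_injOn (Golay.maskOf_lt _)
        (Nat.xor_lt_two_pow (Golay.lt_of_isCode data.2.1.1) (Golay.maskOf_lt _))
      rw [Golay.pts_maskOf, Golay.pts_xor, Golay.pts_maskOf]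
      rfl
  refine cent_le_of_dihedral (W := W) (hz cS data.2.1.2) (hsq cS) (hz cT data.2.2.1.2) (hsq cT) ?_ ?_ c hcW
  · rintro _ ⟨k, rfl⟩ hk he
    obtain ⟨σ, e, rfl, hσ⟩ := stab k hk
    rw [← map_mul, ← map_inv, ← map_mul] at he
    have h1 := hf he
    rw [conj_sgn] at h1
    have h2 : pts oT = σ.1 • pts oS := octad_of_sgn_eq (card_mv.trans data.2.1.2) data.2.2.1.2 h1
    exact data.2.2.2.1 ((Two.smul data.2.1.2 hσ).1 (h2 ▸ data.2.2.2.2))
  · rintro _ ⟨y, rfl⟩ - hy2 -
    by_cases hg : Good f.range W (f y)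
    · exact Or.inl hg
    refine Or.inr ?_
    have key : ∀ (a : CodeSet), a.1.card = 8 → ∀ k, Fix W (f k) →
        f k * f (sgn a) * (f k)⁻¹ ≠ f (sgn cS) * f y := by
      intro a ha k hk he
      obtain ⟨σ, e, rfl, -⟩ := stab k hk
      have hy := eq_sgn_of_conj hf he
      refine hg (hy ▸ hgood _ (card_mv.trans ha) fun h => ?_)
      rw [hy, h, map_one, orderOf_one] at hy2
      norm_num at hy2
    rintro _ ⟨k, rfl⟩ hk
    exact ⟨key cS data.2.1.2 k hk, key cT data.2.2.1.2 k hk⟩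

/-- **A copy of Co1 containing the centraliser of its standard involution is the whole group.** -/
theorem range_eq_top (f : Spor.Co1 →* G) (hf : Function.Injective f)
    (hc : ∀ g : G, g * f z1 = f z1 * g → g ∈ f.range)
    (hcl : ∃ a b c : G, orderOf a = 2 ∧ orderOf b = 2 ∧ orderOf c = 2 ∧ ¬ IsConj a b ∧ ¬ IsConj a c ∧
      ¬ IsConj b c)
    (hcomm : ∀ x : G, orderOf x = 2 → ∃ g : G, g * x * g⁻¹ * f z1 = f z1 * (g * x * g⁻¹)) :
    f.range = ⊤ := by
  obtain ⟨a, b, c, ha, hb, hc', hab, hac, hbc⟩ := hcl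
  obtain ⟨T, -⟩ := exists_co_model
  obtain ⟨p, q, r, -, -, -, -, -, -, hM⟩ := CoType.three_classes T
  have hmeet : ∀ x : G, orderOf x = 2 → ∃ y : Spor.Co1, IsConj x (f y) := by
    intro x hx
    obtain ⟨g, hg⟩ := hcomm x hx
    obtain ⟨y, hy⟩ := hc _ hg
    exact ⟨y, hy ▸ isConj_iff.2 ⟨g, rfl⟩⟩
  have fuse : ∀ {x y : Spor.Co1}, orderOf x = 2 → orderOf y = 2 → IsConj (f x) (f y) → IsConj x y :=
    fun hx hy h => fuse_of_classes f hf hM ha hb hc' hab hac hbc hmeet hx hy h
  have S : Setting f.range (f z1) := by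
    refine ⟨hc, fun g hg => ?_⟩
    obtain ⟨y, hy⟩ := hg
    have hzy : IsConj (f z1) (f y) := hy ▸ isConj_iff.2 ⟨g, rfl⟩
    have hy2 : orderOf y = 2 := by
      rw [← orderOf_injective f hf, hy, MulAut.conj_apply g (f z1) |>.symm,
        MulEquiv.orderOf_eq, orderOf_injective f hf, Co1Centralizer.orderOf_z1]
    obtain ⟨k, hk⟩ := isConj_iff.1 (fuse Co1Centralizer.orderOf_z1 hy2 hzy)
    exact ⟨f k, ⟨k, rfl⟩, by rw [← hy, ← hk, map_mul, map_mul, map_inv]⟩
  have hD : cD.1.card = 12 := data.1.2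
  have hD2 : orderOf (sgn cD) = 2 := orderOf_sgn (by omega) (by omega)
  set u := f (sgn cD) with hu
  have fx : ∀ k : G, Fix (∅ : Set G) k := fun k w hw => absurd hw (Set.notMem_empty w)
  have hu2 : u * u = 1 := by rw [hu, ← map_mul, sgn_sq, map_one]
  have hv : ∀ y' ∈ f.range, Fix (∅ : Set G) y' → y' ^ 2 = 1 →
      ∃ v ∈ f.range, Fix (∅ : Set G) v ∧ IsConj (f z1) v ∧ v * y' = y' * v := by
    rintro _ ⟨y, rfl⟩ - hy2
    by_cases hy1 : y = 1
    · exact ⟨f z1, ⟨z1, rfl⟩, fx _, IsConj.refl _, by simp [hy1]⟩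
    haveI : Fact (Nat.Prime 2) := ⟨Nat.prime_two⟩
    have hyo : orderOf y = 2 := orderOf_eq_prime (hf (by rw [map_pow, hy2, map_one])) hy1
    obtain ⟨g, hg⟩ := exists_conj_comm_z1 hyo
    refine ⟨f (g⁻¹ * z1 * g), ⟨_, rfl⟩, fx _,
      f.map_isConj (isConj_iff.2 ⟨g⁻¹, by rw [inv_inv]⟩), ?_⟩
    rw [← map_mul, ← map_mul]
    congr 1
    calc g⁻¹ * z1 * g * y = g⁻¹ * (z1 * (g * y * g⁻¹)) * g := by group
      _ = g⁻¹ * (g * y * g⁻¹ * z1) * g := by rw [hg]
      _ = y * (g⁻¹ * z1 * g) := by group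
  have hzz : f z1 * f z1 = 1 := by
    rw [← map_mul, ← sq, ← Co1Centralizer.orderOf_z1, pow_orderOf_eq_one, map_one]
  refine eq_top_iff.2 fun g _ => cent_le_of_dihedral (W := (∅ : Set G))
    (Safe.of_isConj S ⟨z1, rfl⟩ (fx _) (IsConj.refl _)) hzz
    (Safe.of_centralizer S ⟨_, rfl⟩ (fx u) (by rw [sq, hu2]) (fun k _ hk => cent_u_le hf S hk) hv) hu2
    ?_ ?_ g (fx g)
  · rintro _ ⟨k, rfl⟩ - he
    rw [← map_mul, ← map_inv, ← map_mul] at he
    exact not_isConj_dodecad hD (isConj_iff.2 ⟨k, hf he⟩)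
  · rintro _ ⟨y, rfl⟩ - hy2 hcom
    rw [orderOf_injective f hf] at hy2
    rw [← map_mul, ← map_mul] at hcom
    have hcom' := hf hcom
    rcases classify hD hy2 with h | h | h
    · exact Or.inl (good_of_conj S (f.map_isConj h) ⟨y, rfl⟩)
    · refine Or.inl fun k _ hk => ?_
      obtain ⟨m, hm⟩ := isConj_iff.1 h
      have h1 : (f m)⁻¹ * k * f m * u = u * ((f m)⁻¹ * k * f m) := by
        rw [← hm, map_mul, map_mul, map_inv, ← hu] at hk
        calc (f m)⁻¹ * k * f m * u = (f m)⁻¹ * (k * (f m * u * (f m)⁻¹)) * f m := by group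
          _ = (f m)⁻¹ * (f m * u * (f m)⁻¹ * k) * f m := by rw [hk]
          _ = _ := by group
      have h2 := cent_u_le hf S h1
      have h3 := f.range.mul_mem (f.range.mul_mem ⟨m, rfl⟩ h2) (f.range.inv_mem ⟨m, rfl⟩)
      simpa [mul_assoc] using h3
    · refine Or.inr ?_
      have hzy := h.z1_mul hcom'
      rintro _ ⟨k, rfl⟩ -
      constructor <;> intro he
      · rw [← map_mul, ← map_inv, ← map_mul, ← map_mul] at he
        exact hzy.not_isConj_z1 (isConj_iff.2 ⟨k, hf he⟩)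
      · rw [← map_mul, ← map_inv, ← map_mul, ← map_mul] at he
        exact hzy.not_isConj_sgn cD (isConj_iff.2 ⟨k, hf he⟩)

end Cfsg.Agent.CoOneUniq.Closing
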