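/-
The derivation is checked.

* `run_steps`, `items`, `items_hold`
-/
import Cfsg.Agent.Lib.CoOneUniq.Sound
import Cfsg.Agent.Lib.CoOneUniq.Derivation

set_option autoImplicit false

namespace Cfsg.Agent.CoOneUniq

theorem run_steps : run tree [] steps = true := by decide +kernel

theorem tree_V : ∀ k, V (tree k) := by
  intro k
  rcases k with _ | _ | _ | _ | _ | _ | k
  iterate 6 exact V_of_isV (by decide +kernel)
  exact V_idC

/-- The derived relations. -/
def items : List Item := steps.map Prod.snd

theorem items_hold {W : Type*} [Group W] (D : Amal W) : ∀ e ∈ items, e.Holds D tree := by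
  intro e he
  exact holds_of_run tree_V steps [] (by simp) run_steps e (by simpa [items] using he)

end Cfsg.Agent.CoOneUniq
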