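/-
The 3542 frames next to the standard one and the checkers for covering them.

* `pCongr`, `congr_of_pCongr` : congruence of four-point vectors
* `actP`, `congr_actP` : the monomial action
* `lookup`, `covRun` : the checkers
-/
import Cfsg.Agent.Lib.CoOneUniq.Checker

set_option autoImplicit false
open Cfsg
open Cfsg.Agent.Leech
open Cfsg.Agent.Golay (fn imgMask validPerm toPerm isAut idx pt pts popcount)

namespace Cfsg.Agent.CoOneUniq

/-- The congruence test. -/
def pCongr (q q' : ℕ × ℕ) : Bool :=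
  decide (q.1 < 16777216) && decide (q'.1 < 16777216) && Golay.isCode (q.1 ^^^ q'.1) &&
    (popcount q.1 + 3 * popcount q'.1 + 2 * popcount (q.2 &&& q.1) + 2 * popcount (q'.2 &&& q'.1)) % 4 == 0

/-- A vector with entries `±1` on a mask. -/
def unitV (T N : ℕ) : GolayPt → ℤ := fun p =>
  if T.testBit (idx p) then (if N.testBit (idx p) then -1 else 1) else 0

theorem sv_eq_smul (T N : ℕ) : sv T N = (4 : ℤ) • unitV T N := by
  funext p
  simp only [sv, unitV, Pi.smul_apply, smul_eq_mul]
  split_ifs <;> simp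

theorem sum_unitV (T N : ℕ) :
    ∑ p, unitV T N p = (popcount T : ℤ) - 2 * popcount (N &&& T) := by
  rw [← Golay.card_pts, ← Golay.card_pts]
  simp only [unitV, pts, Finset.card_filter, Nat.cast_sum, Finset.mul_sum, ← Finset.sum_sub_distrib,
    Nat.testBit_and]
  refine Finset.sum_congr rfl fun p _ => ?_
  cases T.testBit (idx p) <;> cases N.testBit (idx p) <;> simp

theorem congr_of_pCongr {q q' : ℕ × ℕ} (h : pCongr q q' = true) :
    Congr (sv q.1 q.2) (sv q'.1 q'.2) := by
  simp only [pCongr, Bool.and_eq_true, decide_eq_true_eq, beq_iff_eq] at h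
  obtain ⟨⟨⟨h1, h2⟩, h3⟩, h4⟩ := h
  have hcode : mod2 (unitV q.1 q.2 - unitV q'.1 q'.2) ∈ golayCode := by
    have e : mod2 (unitV q.1 q.2 - unitV q'.1 q'.2) = Golay.word (q.1 ^^^ q'.1) := by
      funext p
      simp only [mod2_apply, Pi.sub_apply, unitV, Golay.word, Nat.testBit_xor]
      cases q.1.testBit (idx p) <;> cases q'.1.testBit (idx p) <;>
        cases q.2.testBit (idx p) <;> cases q'.2.testBit (idx p) <;> decide
    rw [e, Golay.word_mem_golayCode_iff (Nat.xor_lt_two_pow (n := 24) h1 h2)]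
    exact h3
  refine ⟨_, mem_mk_even _ ?_ hcode, ?_⟩
  · rw [Finset.sum_congr rfl (fun p _ => Pi.sub_apply _ _ p), Finset.sum_sub_distrib, sum_unitV,
      sum_unitV]
    omega
  · funext p
    simp only [sv_eq_smul, Pi.sub_apply, Pi.smul_apply, smul_eq_mul, nsmul_eq_mul, Nat.cast_ofNat]
    ring

/-- The monomial action on four-point vectors. -/
def actP (c q : ℕ × ℕ) : ℕ × ℕ :=
  (imgMask c.2 q.1, (imgMask c.2 q.2 ^^^ c.1) &&& imgMask c.2 q.1)

theorem congr_actP {c : ℕ × ℕ} (hc : V c) {x : GolayPt → ℤ} {q : ℕ × ℕ}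
    (h : Congr x (sv q.1 q.2)) :
    Congr (signedPerm (toPerm c.2) (pts c.1) x) (sv (actP c q).1 (actP c q).2) := by
  obtain ⟨z, hz, he⟩ := h
  refine ⟨_, mem_signedPerm hc.2.2.2 hc.2.1 hz, ?_⟩
  rw [actP, sv_and, ← signedPerm_sv hc.2.2.1]
  funext p
  have := congrFun he ((toPerm c.2).symm p)
  simp only [signedPerm, Pi.sub_apply, Pi.smul_apply, nsmul_eq_mul, Nat.cast_ofNat] at this ⊢
  split_ifs <;> omega

/-- Lookup in a list of blocks of length 64. -/
def lookup (L : List (List (ℕ × ℕ))) (p : ℕ) : ℕ × ℕ := (L.getD (p / 64) []).getD (p % 64) (0, 0)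

end Cfsg.Agent.CoOneUniq
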