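/-
The covering checkers and their soundness.

* `GoodAt`, `coverOk`, `goodAt_of_coverOk`
* `gensOk`, `Reach`, `reach_mul`
-/
import Cfsg.Agent.Lib.CoOneUniq.Points
import Cfsg.Agent.Lib.CoOneUniq.Derived
import Cfsg.Agent.Lib.CoOneUniq.PointData

set_option autoImplicit false
open Cfsg
open Cfsg.Agent.Leech
open Cfsg.Agent.Golay (fn imgMask validPerm toPerm isAut idx pt pts)

namespace Cfsg.Agent.CoOneUniq

/-- The frame vector of `g * xiEl`. -/
noncomputable def frameVec (g : Co0) : GolayPt → ℤ :=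
  (((g * Co2Centralizer.xiEl) • eightVec none : leechLattice) : GolayPt → ℤ)

theorem frameVec_el0_mul {c : ℕ × ℕ} (hc : V c) (g : Co0) :
    frameVec (el0 c * g) = signedPerm (toPerm c.2) (pts c.1) (frameVec g) := by
  rw [frameVec, mul_assoc, mul_smul, vec_el0 hc]
  rfl

theorem frameVec_el0 {c : ℕ × ℕ} (hc : V c) :
    frameVec (el0 c) = sv (rImg c 23).1 (rImg c 23).2 := vec_rImg hc none

/-- The point `p`. -/
def point (p : ℕ) : ℕ × ℕ := lookup ptData p

/-- The image of the monomial element of `g ∈ stdStab`. -/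
def monOf (g : Co0) (h : g ∈ stdStab) : MonT := ⟨QuotientGroup.mk g, Subgroup.mem_map_of_mem _ h⟩

variable {W : Type*} [Group W]

/-- The union of the six double cosets. -/
def Amal.U (D : Amal W) : Set W :=
  {w | ∃ (j : ℕ) (a b : MonT), j < 6 ∧ w = D.ι a * D.R tree j * D.ι b}

/-- Some element over the point `p` is absorbed. -/
def GoodAt (D : Amal W) (i p : ℕ) : Prop :=
  ∃ (g : Co0) (h : g ∈ stdStab), Congr (frameVec g) (sv (point p).1 (point p).2) ∧
    D.R tree i * D.ι (monOf g h) * D.x ∈ D.U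

/-- A move along a stabiliser relation. -/
def edgeOk (i : ℕ) (mv : List ℕ) (e : ℕ × ℕ × ℕ) : Bool :=
  match items.getD (mv.getD e.1 0) Item.dflt with
  | .stab i' t _ => i' == i && pCongr (actP t (point e.2.1)) (point e.2.2)
  | _ => false

/-- A root. -/
def rootOk (i : ℕ) (r : ℕ × ℕ) : Bool :=
  match items.getD r.1 Item.dflt with
  | .fact i' m _ j _ => i' == i && decide (j < 6) && pCongr (rImg m 23) (point r.2)
  | _ => false

/-- Extend the covered set along a list of moves. -/
def covRun : ℕ → List (ℕ × ℕ × ℕ) → Option ℕ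
  | S, [] => some S
  | S, e :: rest => bif S.testBit e.2.1 then covRun (S ||| 2 ^ e.2.2) rest else none

/-- The moves of one block. -/
def blockOk (i : ℕ) (mv : List ℕ) (es : List (List (ℕ × ℕ × ℕ))) (k : ℕ) : Bool :=
  (es.getD k []).all (edgeOk i mv)

/-- The covered set of the roots. -/
def rootMask (rs : List (ℕ × ℕ)) : ℕ := rs.foldr (fun r S => S ||| 2 ^ r.2) 0

/-- The whole check for `i`. -/
def coverOk (i : ℕ) (rs : List (ℕ × ℕ)) (es : List (List (ℕ × ℕ × ℕ))) : Bool :=
  rs.all (rootOk i) && covRun (rootMask rs) es.flatten == some (2 ^ 3542 - 1)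

theorem goodAt_root (D : Amal W) {i : ℕ} {r : ℕ × ℕ} (h : rootOk i r = true) : GoodAt D i r.2 := by
  have hg := getD_holds (items_hold D) r.1
  unfold rootOk at h
  revert h hg
  cases items.getD r.1 Item.dflt <;>
    simp only [Bool.false_eq_true, Bool.and_eq_true, beq_iff_eq, decide_eq_true_eq, false_implies,
      implies_true]
  rename_i i' m A j B
  rintro ⟨⟨rfl, hj⟩, hc⟩ ⟨gm, -, -, ge⟩
  exact ⟨el0 m, el0_mem m, frameVec_el0 gm ▸ congr_of_pCongr hc, ⟨j, el A, el B, hj, ge⟩⟩

theorem goodAt_edge (D : Amal W) {i : ℕ} {mv : List ℕ} {e : ℕ × ℕ × ℕ}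
    (h : edgeOk i mv e = true) (hp : GoodAt D i e.2.1) : GoodAt D i e.2.2 := by
  have hs := getD_holds (items_hold D) (mv.getD e.1 0)
  unfold edgeOk at h
  revert h hs
  cases items.getD (mv.getD e.1 0) Item.dflt <;>
    simp only [Bool.false_eq_true, Bool.and_eq_true, beq_iff_eq, false_implies, implies_true]
  rename_i i' t s
  rintro ⟨rfl, hc⟩ ⟨gt, gs, ge⟩
  obtain ⟨g, hg, hgc, j, a, b, hj, hu⟩ := hp
  refine ⟨el0 t * g, mul_mem (el0_mem t) hg, ?_, j, el s * a, b, hj, ?_⟩
  · rw [frameVec_el0_mul gt]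
    exact congr_trans (congr_actP gt hgc) (congr_of_pCongr hc)
  · have e : monOf (el0 t * g) (mul_mem (el0_mem t) hg) = el t * monOf g hg := Subtype.ext rfl
    rw [e, map_mul, map_mul]
    calc D.R tree i' * (D.ι (el t) * D.ι (monOf g hg)) * D.x
        = (D.R tree i' * D.e t) * D.ι (monOf g hg) * D.x := by rw [Amal.e]; group
      _ = D.e s * (D.R tree i' * D.ι (monOf g hg) * D.x) := by rw [ge]; group
      _ = D.ι (el s) * D.ι a * D.R tree j * D.ι b := by rw [hu, Amal.e]; group

theorem goodAt_covRun (D : Amal W) {i : ℕ} {mv : List ℕ} :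
    ∀ (es : List (ℕ × ℕ × ℕ)) {S S' : ℕ}, (∀ e ∈ es, edgeOk i mv e = true) → covRun S es = some S' →
      (∀ p, S.testBit p = true → GoodAt D i p) → ∀ p, S'.testBit p = true → GoodAt D i p
  | [], S, S', _, h, hS => by
    simp only [covRun, Option.some.injEq] at h
    exact h ▸ hS
  | e :: rest, S, S', hok, h, hS => by
    simp only [covRun] at h
    by_cases hb : S.testBit e.2.1 = true
    · rw [hb, cond_true] at h
      refine goodAt_covRun D rest (fun x hx => hok x (List.mem_cons_of_mem _ hx)) h fun p hp => ?_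
      rw [Nat.testBit_or, Bool.or_eq_true] at hp
      rcases hp with hp | hp
      · exact hS p hp
      · rw [Nat.testBit_two_pow, decide_eq_true_eq] at hp
        exact hp ▸ goodAt_edge D (hok e (List.mem_cons_self ..)) (hS _ hb)
    · rw [Bool.not_eq_true _ |>.mp hb] at h
      simp at h

theorem goodAt_rootMask (D : Amal W) {i : ℕ} : ∀ (rs : List (ℕ × ℕ)), (∀ r ∈ rs, rootOk i r = true) →
    ∀ p, (rootMask rs).testBit p = true → GoodAt D i p
  | [], _, p, h => by simp [rootMask] at h
  | r :: rs, hr, p, h => by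
    rw [rootMask, List.foldr_cons, ← rootMask, Nat.testBit_or, Bool.or_eq_true] at h
    rcases h with h | h
    · exact goodAt_rootMask D rs (fun x hx => hr x (List.mem_cons_of_mem _ hx)) p h
    · rw [Nat.testBit_two_pow, decide_eq_true_eq] at h
      exact h ▸ goodAt_root D (hr r (List.mem_cons_self ..))

theorem goodAt_of_coverOk (D : Amal W) {i : ℕ} {rs : List (ℕ × ℕ)} {mv : List ℕ}
    {es : List (List (ℕ × ℕ × ℕ))} (hb : ∀ k < es.length, blockOk i mv es k = true)
    (h : coverOk i rs es = true) {p : ℕ} (hp : p < 3542) : GoodAt D i p := by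
  simp only [coverOk, Bool.and_eq_true, List.all_eq_true, beq_iff_eq] at h
  refine goodAt_covRun D (mv := mv) _ (fun e he => ?_) h.2 (goodAt_rootMask D rs h.1) p ?_
  · obtain ⟨b, hbm, heb⟩ := List.mem_flatten.1 he
    obtain ⟨k, hk, rfl⟩ := List.getElem_of_mem hbm
    have := hb k hk
    rw [blockOk, List.getD_eq_getElem _ _ hk, List.all_eq_true] at this
    exact this e heb
  rw [Nat.testBit_two_pow_sub_one, decide_eq_true_eq]
  exact hp

/-- The images of the point `p`. -/
def nbrs (p : ℕ) : List ℕ := (nbData.getD (p / 64) []).getD (p % 64) []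

/-- The closure check for one point. -/
def gensOk (p : ℕ) : Bool :=
  let u := point p
  let N := nbrs p
  (List.range 4).all fun k =>
    decide (N.getD k 0 < 3542) && pCongr (actP (gensC.getD k idC) u) (point (N.getD k 0))

/-- An element of `MonT` lies over one of the points. -/
def Reach (m : MonT) : Prop :=
  ∃ (p : ℕ) (g : Co0) (h : g ∈ stdStab), p < 3542 ∧ monOf g h = m ∧
    Congr (frameVec g) (sv (point p).1 (point p).2)

theorem reach_mul {k : ℕ} (hk : k < 4) (hV : V (gensC.getD k idC))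
    (hok : ∀ p < 3542, gensOk p = true) {m : MonT} (h : Reach m) :
    Reach (el (gensC.getD k idC) * m) := by
  obtain ⟨p, g, hg, hp, rfl, hc⟩ := h
  have h := hok p hp
  simp only [gensOk, List.all_eq_true, List.mem_range, Bool.and_eq_true, decide_eq_true_eq] at h
  obtain ⟨hq, hcg⟩ := h k hk
  refine ⟨_, el0 (gensC.getD k idC) * g, mul_mem (el0_mem _) hg, hq, Subtype.ext rfl, ?_⟩
  rw [frameVec_el0_mul hV]
  exact congr_trans (congr_actP hV hc) (congr_of_pCongr hcg)

theorem reach_one (h : pCongr (rImg idC 23) (point 0) = true) : Reach 1 :=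
  ⟨0, el0 idC, el0_mem idC, by norm_num, (Subtype.ext rfl : monOf _ _ = el idC).trans el_idC,
    frameVec_el0 V_idC ▸ congr_of_pCongr h⟩

end Cfsg.Agent.CoOneUniq
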