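/-
The covering for the double coset word 0 is checked, block by block.
-/
import Cfsg.Agent.Lib.CoOneUniq.Cover
import Cfsg.Agent.Lib.CoOneUniq.Cover0Data

set_option autoImplicit false
set_option Elab.async false

namespace Cfsg.Agent.CoOneUniq

theorem block0_0 : blockOk 0 moves0 edges0 0 = true := by decide +kernel

theorem block0_1 : blockOk 0 moves0 edges0 1 = true := by decide +kernel

theorem block0_2 : blockOk 0 moves0 edges0 2 = true := by decide +kernel

theorem block0_3 : blockOk 0 moves0 edges0 3 = true := by decide +kernel

theorem block0_4 : blockOk 0 moves0 edges0 4 = true := by decide +kernel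

theorem block0_5 : blockOk 0 moves0 edges0 5 = true := by decide +kernel

theorem block0_6 : blockOk 0 moves0 edges0 6 = true := by decide +kernel

theorem block0_7 : blockOk 0 moves0 edges0 7 = true := by decide +kernel

theorem block0_8 : blockOk 0 moves0 edges0 8 = true := by decide +kernel

theorem block0_9 : blockOk 0 moves0 edges0 9 = true := by decide +kernel

theorem block0_10 : blockOk 0 moves0 edges0 10 = true := by decide +kernel

theorem block0_11 : blockOk 0 moves0 edges0 11 = true := by decide +kernel

theorem block0_12 : blockOk 0 moves0 edges0 12 = true := by decide +kernel

theorem block0_13 : blockOk 0 moves0 edges0 13 = true := by decide +kernel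

theorem block0_14 : blockOk 0 moves0 edges0 14 = true := by decide +kernel

theorem block0_15 : blockOk 0 moves0 edges0 15 = true := by decide +kernel

theorem block0_16 : blockOk 0 moves0 edges0 16 = true := by decide +kernel

theorem block0_17 : blockOk 0 moves0 edges0 17 = true := by decide +kernel

theorem blocks0 : ∀ k < edges0.length, blockOk 0 moves0 edges0 k = true := by
  intro k hk
  have h : edges0.length = 18 := rfl
  rw [h] at hk
  interval_cases k
  · exact block0_0
  · exact block0_1
  · exact block0_2
  · exact block0_3
  · exact block0_4
  · exact block0_5
  · exact block0_6
  · exact block0_7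
  · exact block0_8
  · exact block0_9
  · exact block0_10
  · exact block0_11
  · exact block0_12
  · exact block0_13
  · exact block0_14
  · exact block0_15
  · exact block0_16
  · exact block0_17

theorem cover0 : coverOk 0 roots0 edges0 = true := by decide +kernel

end Cfsg.Agent.CoOneUniq
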