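/-
The covering for the double coset word 1 is checked, block by block.
-/
import Cfsg.Agent.Lib.CoOneUniq.Cover
import Cfsg.Agent.Lib.CoOneUniq.Cover1Data

set_option autoImplicit false
set_option Elab.async false

namespace Cfsg.Agent.CoOneUniq

theorem block1_0 : blockOk 1 moves1 edges1 0 = true := by decide +kernel

theorem block1_1 : blockOk 1 moves1 edges1 1 = true := by decide +kernel

theorem block1_2 : blockOk 1 moves1 edges1 2 = true := by decide +kernel

theorem block1_3 : blockOk 1 moves1 edges1 3 = true := by decide +kernel

theorem block1_4 : blockOk 1 moves1 edges1 4 = true := by decide +kernel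

theorem block1_5 : blockOk 1 moves1 edges1 5 = true := by decide +kernel

theorem block1_6 : blockOk 1 moves1 edges1 6 = true := by decide +kernel

theorem block1_7 : blockOk 1 moves1 edges1 7 = true := by decide +kernel

theorem block1_8 : blockOk 1 moves1 edges1 8 = true := by decide +kernel

theorem block1_9 : blockOk 1 moves1 edges1 9 = true := by decide +kernel

theorem block1_10 : blockOk 1 moves1 edges1 10 = true := by decide +kernel

theorem block1_11 : blockOk 1 moves1 edges1 11 = true := by decide +kernel

theorem block1_12 : blockOk 1 moves1 edges1 12 = true := by decide +kernel

theorem block1_13 : blockOk 1 moves1 edges1 13 = true := by decide +kernel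

theorem block1_14 : blockOk 1 moves1 edges1 14 = true := by decide +kernel

theorem block1_15 : blockOk 1 moves1 edges1 15 = true := by decide +kernel

theorem block1_16 : blockOk 1 moves1 edges1 16 = true := by decide +kernel

theorem block1_17 : blockOk 1 moves1 edges1 17 = true := by decide +kernel

theorem blocks1 : ∀ k < edges1.length, blockOk 1 moves1 edges1 k = true := by
  intro k hk
  have h : edges1.length = 18 := rfl
  rw [h] at hk
  interval_cases k
  · exact block1_0
  · exact block1_1
  · exact block1_2
  · exact block1_3
  · exact block1_4
  · exact block1_5
  · exact block1_6
  · exact block1_7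
  · exact block1_8
  · exact block1_9
  · exact block1_10
  · exact block1_11
  · exact block1_12
  · exact block1_13
  · exact block1_14
  · exact block1_15
  · exact block1_16
  · exact block1_17

theorem cover1 : coverOk 1 roots1 edges1 = true := by decide +kernel

end Cfsg.Agent.CoOneUniq
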