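/-
The covering for the double coset word 2 is checked, block by block.
-/
import Cfsg.Agent.Lib.CoOneUniq.Cover
import Cfsg.Agent.Lib.CoOneUniq.Cover2Data

set_option autoImplicit false
set_option Elab.async false

namespace Cfsg.Agent.CoOneUniq

theorem block2_0 : blockOk 2 moves2 edges2 0 = true := by decide +kernel

theorem block2_1 : blockOk 2 moves2 edges2 1 = true := by decide +kernel

theorem block2_2 : blockOk 2 moves2 edges2 2 = true := by decide +kernel

theorem block2_3 : blockOk 2 moves2 edges2 3 = true := by decide +kernel

theorem block2_4 : blockOk 2 moves2 edges2 4 = true := by decide +kernel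

theorem block2_5 : blockOk 2 moves2 edges2 5 = true := by decide +kernel

theorem block2_6 : blockOk 2 moves2 edges2 6 = true := by decide +kernel

theorem block2_7 : blockOk 2 moves2 edges2 7 = true := by decide +kernel

theorem block2_8 : blockOk 2 moves2 edges2 8 = true := by decide +kernel

theorem block2_9 : blockOk 2 moves2 edges2 9 = true := by decide +kernel

theorem block2_10 : blockOk 2 moves2 edges2 10 = true := by decide +kernel

theorem block2_11 : blockOk 2 moves2 edges2 11 = true := by decide +kernel

theorem block2_12 : blockOk 2 moves2 edges2 12 = true := by decide +kernel

theorem block2_13 : blockOk 2 moves2 edges2 13 = true := by decide +kernel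

theorem block2_14 : blockOk 2 moves2 edges2 14 = true := by decide +kernel

theorem block2_15 : blockOk 2 moves2 edges2 15 = true := by decide +kernel

theorem block2_16 : blockOk 2 moves2 edges2 16 = true := by decide +kernel

theorem block2_17 : blockOk 2 moves2 edges2 17 = true := by decide +kernel

theorem blocks2 : ∀ k < edges2.length, blockOk 2 moves2 edges2 k = true := by
  intro k hk
  have h : edges2.length = 18 := rfl
  rw [h] at hk
  interval_cases k
  · exact block2_0
  · exact block2_1
  · exact block2_2
  · exact block2_3
  · exact block2_4
  · exact block2_5
  · exact block2_6
  · exact block2_7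
  · exact block2_8
  · exact block2_9
  · exact block2_10
  · exact block2_11
  · exact block2_12
  · exact block2_13
  · exact block2_14
  · exact block2_15
  · exact block2_16
  · exact block2_17

theorem cover2 : coverOk 2 roots2 edges2 = true := by decide +kernel

end Cfsg.Agent.CoOneUniq
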