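/-
The covering for the double coset word 3 is checked, block by block.
-/
import Cfsg.Agent.Lib.CoOneUniq.Cover
import Cfsg.Agent.Lib.CoOneUniq.Cover3Data

set_option autoImplicit false
set_option Elab.async false

namespace Cfsg.Agent.CoOneUniq

theorem block3_0 : blockOk 3 moves3 edges3 0 = true := by decide +kernel

theorem block3_1 : blockOk 3 moves3 edges3 1 = true := by decide +kernel

theorem block3_2 : blockOk 3 moves3 edges3 2 = true := by decide +kernel

theorem block3_3 : blockOk 3 moves3 edges3 3 = true := by decide +kernel

theorem block3_4 : blockOk 3 moves3 edges3 4 = true := by decide +kernel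

theorem block3_5 : blockOk 3 moves3 edges3 5 = true := by decide +kernel

theorem block3_6 : blockOk 3 moves3 edges3 6 = true := by decide +kernel

theorem block3_7 : blockOk 3 moves3 edges3 7 = true := by decide +kernel

theorem block3_8 : blockOk 3 moves3 edges3 8 = true := by decide +kernel

theorem block3_9 : blockOk 3 moves3 edges3 9 = true := by decide +kernel

theorem block3_10 : blockOk 3 moves3 edges3 10 = true := by decide +kernel

theorem block3_11 : blockOk 3 moves3 edges3 11 = true := by decide +kernel

theorem block3_12 : blockOk 3 moves3 edges3 12 = true := by decide +kernel

theorem block3_13 : blockOk 3 moves3 edges3 13 = true := by decide +kernel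

theorem block3_14 : blockOk 3 moves3 edges3 14 = true := by decide +kernel

theorem block3_15 : blockOk 3 moves3 edges3 15 = true := by decide +kernel

theorem block3_16 : blockOk 3 moves3 edges3 16 = true := by decide +kernel

theorem block3_17 : blockOk 3 moves3 edges3 17 = true := by decide +kernel

theorem blocks3 : ∀ k < edges3.length, blockOk 3 moves3 edges3 k = true := by
  intro k hk
  have h : edges3.length = 18 := rfl
  rw [h] at hk
  interval_cases k
  · exact block3_0
  · exact block3_1
  · exact block3_2
  · exact block3_3
  · exact block3_4
  · exact block3_5
  · exact block3_6
  · exact block3_7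
  · exact block3_8
  · exact block3_9
  · exact block3_10
  · exact block3_11
  · exact block3_12
  · exact block3_13
  · exact block3_14
  · exact block3_15
  · exact block3_16
  · exact block3_17

theorem cover3 : coverOk 3 roots3 edges3 = true := by decide +kernel

end Cfsg.Agent.CoOneUniq
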