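/-
The covering for the double coset word 4 is checked, block by block.
-/
import Cfsg.Agent.Lib.CoOneUniq.Cover
import Cfsg.Agent.Lib.CoOneUniq.Cover4Data

set_option autoImplicit false
set_option Elab.async false

namespace Cfsg.Agent.CoOneUniq

theorem block4_0 : blockOk 4 moves4 edges4 0 = true := by decide +kernel

theorem block4_1 : blockOk 4 moves4 edges4 1 = true := by decide +kernel

theorem block4_2 : blockOk 4 moves4 edges4 2 = true := by decide +kernel

theorem block4_3 : blockOk 4 moves4 edges4 3 = true := by decide +kernel

theorem block4_4 : blockOk 4 moves4 edges4 4 = true := by decide +kernel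

theorem block4_5 : blockOk 4 moves4 edges4 5 = true := by decide +kernel

theorem block4_6 : blockOk 4 moves4 edges4 6 = true := by decide +kernel

theorem block4_7 : blockOk 4 moves4 edges4 7 = true := by decide +kernel

theorem block4_8 : blockOk 4 moves4 edges4 8 = true := by decide +kernel

theorem block4_9 : blockOk 4 moves4 edges4 9 = true := by decide +kernel

theorem block4_10 : blockOk 4 moves4 edges4 10 = true := by decide +kernel

theorem block4_11 : blockOk 4 moves4 edges4 11 = true := by decide +kernel

theorem block4_12 : blockOk 4 moves4 edges4 12 = true := by decide +kernel

theorem block4_13 : blockOk 4 moves4 edges4 13 = true := by decide +kernel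

theorem block4_14 : blockOk 4 moves4 edges4 14 = true := by decide +kernel

theorem block4_15 : blockOk 4 moves4 edges4 15 = true := by decide +kernel

theorem block4_16 : blockOk 4 moves4 edges4 16 = true := by decide +kernel

theorem block4_17 : blockOk 4 moves4 edges4 17 = true := by decide +kernel

theorem blocks4 : ∀ k < edges4.length, blockOk 4 moves4 edges4 k = true := by
  intro k hk
  have h : edges4.length = 18 := rfl
  rw [h] at hk
  interval_cases k
  · exact block4_0
  · exact block4_1
  · exact block4_2
  · exact block4_3
  · exact block4_4
  · exact block4_5
  · exact block4_6
  · exact block4_7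
  · exact block4_8
  · exact block4_9
  · exact block4_10
  · exact block4_11
  · exact block4_12
  · exact block4_13
  · exact block4_14
  · exact block4_15
  · exact block4_16
  · exact block4_17

theorem cover4 : coverOk 4 roots4 edges4 = true := by decide +kernel

end Cfsg.Agent.CoOneUniq
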