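/-
The covering for the double coset word 5 is checked, block by block.
-/
import Cfsg.Agent.Lib.CoOneUniq.Cover
import Cfsg.Agent.Lib.CoOneUniq.Cover5Data

set_option autoImplicit false
set_option Elab.async false

namespace Cfsg.Agent.CoOneUniq

theorem block5_0 : blockOk 5 moves5 edges5 0 = true := by decide +kernel

theorem block5_1 : blockOk 5 moves5 edges5 1 = true := by decide +kernel

theorem block5_2 : blockOk 5 moves5 edges5 2 = true := by decide +kernel

theorem block5_3 : blockOk 5 moves5 edges5 3 = true := by decide +kernel

theorem block5_4 : blockOk 5 moves5 edges5 4 = true := by decide +kernel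

theorem block5_5 : blockOk 5 moves5 edges5 5 = true := by decide +kernel

theorem block5_6 : blockOk 5 moves5 edges5 6 = true := by decide +kernel

theorem block5_7 : blockOk 5 moves5 edges5 7 = true := by decide +kernel

theorem block5_8 : blockOk 5 moves5 edges5 8 = true := by decide +kernel

theorem block5_9 : blockOk 5 moves5 edges5 9 = true := by decide +kernel

theorem block5_10 : blockOk 5 moves5 edges5 10 = true := by decide +kernel

theorem block5_11 : blockOk 5 moves5 edges5 11 = true := by decide +kernel

theorem block5_12 : blockOk 5 moves5 edges5 12 = true := by decide +kernel

theorem block5_13 : blockOk 5 moves5 edges5 13 = true := by decide +kernel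

theorem block5_14 : blockOk 5 moves5 edges5 14 = true := by decide +kernel

theorem block5_15 : blockOk 5 moves5 edges5 15 = true := by decide +kernel

theorem block5_16 : blockOk 5 moves5 edges5 16 = true := by decide +kernel

theorem block5_17 : blockOk 5 moves5 edges5 17 = true := by decide +kernel

theorem blocks5 : ∀ k < edges5.length, blockOk 5 moves5 edges5 k = true := by
  intro k hk
  have h : edges5.length = 18 := rfl
  rw [h] at hk
  interval_cases k
  · exact block5_0
  · exact block5_1
  · exact block5_2
  · exact block5_3
  · exact block5_4
  · exact block5_5
  · exact block5_6
  · exact block5_7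
  · exact block5_8
  · exact block5_9
  · exact block5_10
  · exact block5_11
  · exact block5_12
  · exact block5_13
  · exact block5_14
  · exact block5_15
  · exact block5_16
  · exact block5_17

theorem cover5 : coverOk 5 roots5 edges5 = true := by decide +kernel

end Cfsg.Agent.CoOneUniq
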