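/-
The points are closed under the generators.
-/
import Cfsg.Agent.Lib.CoOneUniq.Cover

set_option autoImplicit false
set_option Elab.async false

namespace Cfsg.Agent.CoOneUniq

theorem gensOk_0 : (List.range 253).all (fun p => gensOk (0 + p)) = true := by decide +kernel

theorem gensOk_1 : (List.range 253).all (fun p => gensOk (253 + p)) = true := by decide +kernel

theorem gensOk_2 : (List.range 253).all (fun p => gensOk (506 + p)) = true := by decide +kernel

theorem gensOk_3 : (List.range 253).all (fun p => gensOk (759 + p)) = true := by decide +kernel

theorem gensOk_4 : (List.range 253).all (fun p => gensOk (1012 + p)) = true := by decide +kernel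

theorem gensOk_5 : (List.range 253).all (fun p => gensOk (1265 + p)) = true := by decide +kernel

theorem gensOk_6 : (List.range 253).all (fun p => gensOk (1518 + p)) = true := by decide +kernel

theorem gensOk_7 : (List.range 253).all (fun p => gensOk (1771 + p)) = true := by decide +kernel

theorem gensOk_8 : (List.range 253).all (fun p => gensOk (2024 + p)) = true := by decide +kernel

theorem gensOk_9 : (List.range 253).all (fun p => gensOk (2277 + p)) = true := by decide +kernel

theorem gensOk_10 : (List.range 253).all (fun p => gensOk (2530 + p)) = true := by decide +kernel

theorem gensOk_11 : (List.range 253).all (fun p => gensOk (2783 + p)) = true := by decide +kernel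

theorem gensOk_12 : (List.range 253).all (fun p => gensOk (3036 + p)) = true := by decide +kernel

theorem gensOk_13 : (List.range 253).all (fun p => gensOk (3289 + p)) = true := by decide +kernel

theorem gensOk_block {k : ℕ} (hk : k < 14) :
    (List.range 253).all (fun p => gensOk (253 * k + p)) = true := by
  interval_cases k
  · exact gensOk_0
  · exact gensOk_1
  · exact gensOk_2
  · exact gensOk_3
  · exact gensOk_4
  · exact gensOk_5
  · exact gensOk_6
  · exact gensOk_7
  · exact gensOk_8
  · exact gensOk_9
  · exact gensOk_10
  · exact gensOk_11
  · exact gensOk_12
  · exact gensOk_13

theorem gensOk_all : ∀ p < 3542, gensOk p = true := by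
  intro p hp
  have h := gensOk_block (k := p / 253) (by omega)
  simp only [List.all_eq_true, List.mem_range] at h
  have := h (p % 253) (by omega)
  rwa [Nat.div_add_mod] at this

theorem gensC_V : ∀ k < 4, V (gensC.getD k idC) := by
  have h : (List.range 4).all (fun k => isV (gensC.getD k idC)) = true := by decide +kernel
  simp only [List.all_eq_true, List.mem_range] at h
  exact fun k hk => V_of_isV (h k hk)

theorem reach_base : pCongr (rImg idC 23) (point 0) = true := by decide +kernel

end Cfsg.Agent.CoOneUniq
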