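/-
A group with a copy of the monomial subgroup of Co1 and a sextet element is an image of Co1.

* `MonT_eq_closure`, `reach_all` : the monomial subgroup is covered by the points
* `Amal.mul_x_mem` : the six double cosets are closed under the sextet element
* `Amal.exists_hom` : the homomorphism from Co1, and its injectivity
-/
import Cfsg.Agent.Lib.CoOneUniq.Cover
import Cfsg.Agent.Lib.CoOneUniq.Cover0
import Cfsg.Agent.Lib.CoOneUniq.Cover1
import Cfsg.Agent.Lib.CoOneUniq.Cover2
import Cfsg.Agent.Lib.CoOneUniq.Cover3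
import Cfsg.Agent.Lib.CoOneUniq.Cover4
import Cfsg.Agent.Lib.CoOneUniq.Cover5
import Cfsg.Agent.Lib.CoOneUniq.GensCheck
import Cfsg.Agent.Lib.Leech.CrossMax
import Cfsg.Agent.Lib.Leech.Co1Simple
import Cfsg.Agent.Lib.Golay.Generators

set_option autoImplicit false
open scoped Pointwise
open Cfsg
open Cfsg.Agent.Leech
open Cfsg.Agent.Golay (fn imgMask validPerm toPerm isAut idx pt pts)

namespace Cfsg.Agent.CoOneUniq

/-! ### Generators of the monomial subgroup -/

theorem el0_sign {w : ℕ} (h : V (w, Golay.idCode)) :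
    el0 (w, Golay.idCode) = signEl (pts w) h.2.1 := by
  refine co0_ext fun v => Subtype.ext (funext fun i => ?_)
  rw [vec_el0 h, vec_signEl]
  simp only [signedPerm, Golay.toPerm_idCode.2, Equiv.Perm.one_def, Equiv.refl_symm, Equiv.refl_apply]

theorem el0_perm {d : ℕ} (h : V (0, d)) : el0 (0, d) = permEl (toPerm d) h.2.2.2 := by
  refine co0_ext fun v => Subtype.ext (funext fun i => ?_)
  have e1 := congrFun (vec_el0 h v) i
  have e2 := vec_permEl (toPerm d) h.2.2.2 v i
  simp only [signedPerm, Golay.pts_zero, Finset.notMem_empty, if_false] at e1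
  exact e1.trans e2.symm

/-- The subgroup of `MonT` generated by the generators. -/
noncomputable def genGroup : Subgroup MonT :=
  Subgroup.closure {m | ∃ k < 4, m = el (gensC.getD k idC)}

theorem gensC_perm : ∀ d ∈ Golay.slpGens, ∃ k < 4, gensC.getD k idC = (0, d) := by
  decide +kernel

theorem gensC_sign : gensC.getD 3 idC = (Golay.rows.getD 0 0, Golay.idCode) := by
  decide +kernel

/-- The preimage of `genGroup` in Co0. -/
noncomputable def genPre : Subgroup Co0 :=
  (genGroup.map MonT.subtype).comap (QuotientGroup.mk' (Subgroup.center Co0))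

theorem el0_mem_genPre {k : ℕ} (hk : k < 4) : el0 (gensC.getD k idC) ∈ genPre :=
  ⟨el (gensC.getD k idC), Subgroup.subset_closure ⟨k, hk, rfl⟩, rfl⟩

theorem permEl_mem_genPre {σ : Equiv.Perm GolayPt} (hσ : σ ∈ M24) : permEl σ hσ ∈ genPre := by
  let K : Subgroup (Equiv.Perm GolayPt) :=
    { carrier := {s | ∃ h : s ∈ M24, permEl s h ∈ genPre}
      one_mem' := ⟨one_mem _, by
        rw [show permEl 1 (one_mem _) = 1 from co0_ext fun v => Subtype.ext (funext fun i => by
          rw [vec_permEl, one_smul]; rfl)]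
        exact one_mem _⟩
      mul_mem' := by
        rintro a b ⟨ha, ha'⟩ ⟨hb, hb'⟩
        refine ⟨mul_mem ha hb, ?_⟩
        rw [show permEl (a * b) (mul_mem ha hb) = permEl a ha * permEl b hb from
          co0_ext fun v => Subtype.ext (funext fun i => by
            rw [mul_smul, vec_permEl, vec_permEl, vec_permEl]; rfl)]
        exact mul_mem ha' hb'
      inv_mem' := by
        rintro a ⟨ha, ha'⟩
        refine ⟨inv_mem ha, ?_⟩
        rw [show permEl a⁻¹ (inv_mem ha) = (permEl a ha)⁻¹ from eq_inv_of_mul_eq_one_left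
          (co0_ext fun v => Subtype.ext (funext fun i => by
            rw [mul_smul, vec_permEl, vec_permEl, one_smul]
            exact congrArg _ (a.symm_apply_apply i)))]
        exact inv_mem ha' }
  suffices h : M24 ≤ K from (h hσ).2
  rw [← Golay.closure_three_eq, Subgroup.closure_le]
  have hgen : ∀ d ∈ Golay.slpGens, toPerm d ∈ K := by
    intro d hd
    obtain ⟨k, hk, hke⟩ := gensC_perm d hd
    have hV : V (0, d) := hke ▸ gensC_V k hk
    exact ⟨hV.2.2.2, el0_perm hV ▸ hke ▸ el0_mem_genPre hk⟩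
  obtain ⟨h0, h1, h2⟩ := Golay.toPerm_slpGens
  rintro g (rfl | rfl | rfl)
  · exact h0 ▸ hgen _ (by decide +kernel)
  · exact h1 ▸ hgen _ (by decide +kernel)
  · exact h2 ▸ hgen _ (by decide +kernel)

theorem signOctad_mem_genPre {o : Finset GolayPt} (ho : o ∈ octads) : signEl o ho.1 ∈ genPre := by
  have hV : V (Golay.rows.getD 0 0, Golay.idCode) := gensC_sign ▸ gensC_V 3 (by norm_num)
  obtain ⟨σ, hσ, he⟩ := Golay.exists_map_octad
    (Golay.rows_octads (Golay.rows.getD 0 0) (by decide +kernel)) ho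
  have h := mul_mem (mul_mem (permEl_mem_genPre hσ) (el0_mem_genPre (k := 3) (by norm_num)))
    (inv_mem (permEl_mem_genPre hσ))
  rw [gensC_sign, el0_sign hV, permEl, mono_mul_signEl hσ Golay.empty_mem hV.2.1,
    mul_inv_cancel_right] at h
  rwa [signEl_congr (hd := ho.1) he] at h

theorem sign_mem_genPre : ∀ (gs : List ℕ), (∀ r ∈ gs, r ∈ Golay.rows) → ∀ x,
    ∀ h : pts (Golay.encAux gs x) ∈ supports (golayCode : Set (GolayPt → ZMod 2)),
      signEl (pts (Golay.encAux gs x)) h ∈ genPre := by
  intro gs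
  induction gs with
  | nil =>
    intro _ x h
    rw [signEl_congr (hd := Golay.empty_mem) (by simp [Golay.encAux, Golay.pts_zero]), signEl_empty]
    exact one_mem _
  | cons r gs ih =>
    intro hr x h
    have ih' := ih (fun g hg => hr g (List.mem_cons_of_mem _ hg))
    have hmem : ∀ y, pts (Golay.encAux gs y) ∈ supports (golayCode : Set (GolayPt → ZMod 2)) := by
      intro y
      have := Golay.word_encAux_mem gs (fun g hg => Golay.rows_mem g (hr g (List.mem_cons_of_mem _ hg))) y
      exact ⟨_, this, Golay.support₂_word _⟩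
    by_cases hb : x % 2 = 1
    · have hro : pts r ∈ octads := Golay.rows_octads r (hr r (List.mem_cons_self ..))
      rw [signEl_congr (hd := Golay.symmDiff_mem hro.1 (hmem (x / 2)))
          (by rw [Golay.encAux, Golay.pts_xor]; simp [hb]), ← signEl_mul_signEl hro.1 (hmem (x / 2))]
      exact mul_mem (signOctad_mem_genPre hro) (ih' _ _)
    · rw [signEl_congr (hd := hmem (x / 2))
          (by rw [Golay.encAux, Golay.pts_xor]; simp [show x % 2 = 0 by omega, Golay.pts_zero])]
      exact ih' _ _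

theorem genGroup_eq_top : genGroup = ⊤ := by
  refine top_unique fun m _ => ?_
  obtain ⟨g, hg, hgm⟩ := m.2
  obtain ⟨σ, hσ, c, hc, rfl⟩ := exists_mono_of_mem hg
  have hmem : mono σ hσ c hc ∈ genPre := by
    rw [mono_eq_signEl_mul]
    refine mul_mem ?_ (permEl_mem_genPre hσ)
    obtain ⟨x, -, hx⟩ := Golay.mem_supports_iff_exists.mp hc
    subst hx
    exact sign_mem_genPre Golay.rows (fun _ h => h) x hc
  obtain ⟨m', hm', hme⟩ := hmem
  exact (Subtype.ext (hme.trans hgm) : m' = m) ▸ hm'

theorem reach_all (m : MonT) : Reach m := by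
  haveI : Finite MonT := Finite.of_injective _ Subtype.val_injective
  let S : Submonoid MonT :=
    { carrier := {y | ∀ m, Reach m → Reach (y * m)}
      one_mem' := fun m hm => by rwa [one_mul]
      mul_mem' := fun {a b} ha hb m hm => by rw [mul_assoc]; exact ha _ (hb m hm) }
  let H : Subgroup MonT :=
    { S with
      inv_mem' := fun {a} ha => by
        have hpow : a⁻¹ = a ^ (orderOf a - 1) := inv_eq_of_mul_eq_one_right (by
          rw [← pow_succ', Nat.sub_add_cancel (orderOf_pos a), pow_orderOf_eq_one])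
        show a⁻¹ ∈ S
        exact hpow ▸ pow_mem (show a ∈ S from ha) _ }
  have h : genGroup ≤ H := by
    rw [genGroup, Subgroup.closure_le]
    rintro _ ⟨k, hk, rfl⟩
    exact fun m hm => reach_mul hk (gensC_V k hk) gensOk_all hm
  have := (h (genGroup_eq_top ▸ Subgroup.mem_top m)) 1 (reach_one reach_base)
  rwa [mul_one] at this

theorem goodAt_all {W : Type*} [Group W] (D : Amal W) {i p : ℕ} (hi : i < 6) (hp : p < 3542) :
    GoodAt D i p := by
  interval_cases i
  exacts [goodAt_of_coverOk D blocks0 cover0 hp, goodAt_of_coverOk D blocks1 cover1 hp,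
    goodAt_of_coverOk D blocks2 cover2 hp, goodAt_of_coverOk D blocks3 cover3 hp,
    goodAt_of_coverOk D blocks4 cover4 hp, goodAt_of_coverOk D blocks5 cover5 hp]

/-! ### Closure of the double cosets -/

theorem xi_conj_mem_stdStab {g g' : Co0} (h : Congr (frameVec g) (frameVec g')) :
    Co2Centralizer.xiEl * (g⁻¹ * g') * Co2Centralizer.xiEl ∈ stdStab := by
  refine (mem_stdCross_iff_congr none).2 ⟨by rw [sqNorm_smul, sqNorm_eightVec], ?_⟩
  have h1 := congr_smul (Co2Centralizer.xiEl * g⁻¹) h
  rw [← mul_smul, ← mul_smul, mul_assoc _ g⁻¹, inv_mul_cancel_left, xiEl_mul_self, one_smul] at h1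
  simpa only [mul_assoc] using congr_symm h1

variable {W : Type*} [Group W]

theorem Amal.mul_x_mem (D : Amal W) {w : W} (h : w ∈ D.U) : w * D.x ∈ D.U := by
  obtain ⟨i, a, b, hi, rfl⟩ := h
  obtain ⟨p, g', hg', hp, rfl, hc'⟩ := reach_all b
  obtain ⟨g, hg, hc, j, a', b', hj, hu⟩ := goodAt_all D hi hp
  have hl := xi_conj_mem_stdStab (congr_trans hc (congr_symm hc'))
  set l : MonT := monOf (g⁻¹ * g') (mul_mem (inv_mem hg) hg')
  set l' : MonT := monOf _ hl
  have hcj : D.x * D.ι l * D.x = D.ι l' := D.conj l l' (by rfl)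
  have hl2 : D.ι l * D.x = D.x * D.ι l' := by
    rw [← hcj, show D.x * (D.x * D.ι l * D.x) = (D.x * D.x) * (D.ι l * D.x) by group, D.x_sq, one_mul]
  have hb : monOf g' hg' = monOf g hg * l := Subtype.ext (by
    show (QuotientGroup.mk g' : Spor.Co1) = QuotientGroup.mk g * QuotientGroup.mk (g⁻¹ * g')
    rw [← QuotientGroup.mk_mul, mul_inv_cancel_left])
  refine ⟨j, a * a', b' * l', hj, ?_⟩
  rw [hb, map_mul, map_mul, map_mul]
  calc D.ι a * D.R tree i * (D.ι (monOf g hg) * D.ι l) * D.x
      = D.ι a * D.R tree i * D.ι (monOf g hg) * (D.ι l * D.x) := by group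
    _ = D.ι a * (D.R tree i * D.ι (monOf g hg) * D.x) * D.ι l' := by rw [hl2]; group
    _ = D.ι a * D.ι a' * D.R tree j * (D.ι b' * D.ι l') := by rw [hu]; group

theorem Amal.mul_ι_mem (D : Amal W) {w : W} (h : w ∈ D.U) (m : MonT) : w * D.ι m ∈ D.U := by
  obtain ⟨i, a, b, hi, rfl⟩ := h
  exact ⟨i, a, b * m, hi, by rw [map_mul, mul_assoc]⟩

/-- The subgroup generated by the monomial part and the sextet element. -/
def Amal.Γ (D : Amal W) : Subgroup W := Subgroup.closure (Set.range D.ι ∪ {D.x})

theorem Amal.mem_U (D : Amal W) {w : W} (hw : w ∈ D.Γ) : w ∈ D.U := by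
  induction hw using Subgroup.closure_induction_right with
  | one => exact ⟨0, 1, 1, by norm_num, by simp [Amal.R]⟩
  | mul_right x y _ hy ih =>
    rcases hy with ⟨m, rfl⟩ | rfl
    · exact D.mul_ι_mem ih m
    · exact D.mul_x_mem ih
  | mul_inv_cancel x y _ hy ih =>
    rcases hy with ⟨m, rfl⟩ | rfl
    · rw [← map_inv]; exact D.mul_ι_mem ih m⁻¹
    · rw [inv_eq_of_mul_eq_one_right D.x_sq]; exact D.mul_x_mem ih

/-! ### The words in the model -/

/-- Co1 itself. -/
def modelAmal : Amal Spor.Co1 where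
  ι := MonT.subtype
  x := xiT
  x_sq := xiT_mul_self
  conj _ _ h := h
  seed _ _ _ _ _ _ h := h

theorem xiT_not_mem : xiT ∉ MonT := by
  rintro ⟨g, hg, hge⟩
  have hx : Co2Centralizer.xiEl ∈ stdStab := by
    have hz : (QuotientGroup.mk (g⁻¹ * Co2Centralizer.xiEl) : Spor.Co1) = 1 := by
      rw [QuotientGroup.mk_mul, QuotientGroup.mk_inv]
      exact inv_mul_eq_one.2 hge
    have : g⁻¹ * Co2Centralizer.xiEl ∈ stdStab := by
      rcases Co1Centralizer.mk_eq_one_iff.1 hz with h | h
      · rw [h]; exact one_mem _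
      · rw [h]
        refine (mem_stdCross_iff_congr none).2 ⟨by rw [sqNorm_smul, sqNorm_eightVec], ?_⟩
        rw [vec_negOne]
        exact congr_symm (congr_neg (eightVec none).2)
    simpa using mul_mem hg this
  obtain ⟨i, s, hs, he⟩ := mem_stdStab_iff.1 hx _ (eightVec_mem_stdCross none)
  rw [xiEl_eight] at he
  have h : ∀ i : GolayPt, ∃ k, sv (tT 23) (tN 23) k ≠ 0 ∧ k ≠ i := by decide +kernel
  obtain ⟨k, hk0, hki⟩ := h i
  exact hk0 ((congrFun he k).trans (Pi.single_eq_of_ne hki _))

theorem genPre_le : stdStab ≤ MonT.comap (QuotientGroup.mk' (Subgroup.center Co0)) :=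
  fun _ hg => Subgroup.mem_map_of_mem _ hg

theorem closure_model : Subgroup.closure ((MonT : Set Spor.Co1) ∪ {xiT}) = ⊤ := by
  set H := Subgroup.closure ((MonT : Set Spor.Co1) ∪ {xiT})
  have hlt : stdStab < H.comap (QuotientGroup.mk' (Subgroup.center Co0)) := by
    refine lt_of_le_not_ge (fun g hg => Subgroup.subset_closure (Or.inl (genPre_le hg))) fun h => ?_
    exact xiT_not_mem (genPre_le (h (show xiT ∈ H from Subgroup.subset_closure (Or.inr rfl))))
  refine top_unique fun y _ => ?_
  obtain ⟨g, rfl⟩ := QuotientGroup.mk_surjective y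
  have := isCoatom_stdStab.2 _ hlt
  exact Subgroup.mem_comap.1 (this ▸ Subgroup.mem_top g)

end Cfsg.Agent.CoOneUniq
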