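/-
The homomorphism from Co1.

* `R_not_mem` : the nontrivial double coset words are not monomial
* `Amal.exists_hom` : the extension to Co1;  `hom_injective`
-/
import Cfsg.Agent.Lib.CoOneUniq.Extend

set_option autoImplicit false
open Cfsg
open Cfsg.Agent.Leech
open Cfsg.Agent.Golay (fn imgMask validPerm toPerm isAut idx pt pts)

namespace Cfsg.Agent.CoOneUniq

theorem mem_stdStab_of_mk {g : Co0} (h : (QuotientGroup.mk g : Spor.Co1) ∈ MonT) : g ∈ stdStab := by
  obtain ⟨g', hg', he⟩ := h
  have hz : (QuotientGroup.mk (g'⁻¹ * g) : Spor.Co1) = 1 := by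
    rw [QuotientGroup.mk_mul, QuotientGroup.mk_inv]
    exact inv_mul_eq_one.2 he
  have : g'⁻¹ * g ∈ stdStab := by
    rcases Co1Centralizer.mk_eq_one_iff.1 hz with h | h
    · rw [h]; exact one_mem _
    · rw [h]
      refine (mem_stdCross_iff_congr none).2 ⟨by rw [sqNorm_smul, sqNorm_eightVec], ?_⟩
      rw [vec_negOne]
      exact congr_symm (congr_neg (eightVec none).2)
  simpa using mul_mem hg' this

theorem word_two_check : ∀ k ∈ [2, 3], ∃ i : GolayPt,
    let y := Co2Centralizer.xiFun (sv (rImg (tree k) 23).1 (rImg (tree k) 23).2) i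
    y ≠ 0 ∧ y ≠ 8 ∧ y ≠ -8 := by decide +kernel

theorem word_four_check : ∀ k ∈ [4, 5], ∃ i : GolayPt,
    let y := Co2Centralizer.xiFun (sv (rImg (tree k) 23).1 (rImg (tree k) 23).2) i
    y ≠ 0 ∧ y ≠ 4 ∧ y ≠ -4 := by decide +kernel

theorem vec_two (k : ℕ) (hk : V (tree k)) :
    (((Co2Centralizer.xiEl * el0 (tree k) * Co2Centralizer.xiEl) • eightVec none : leechLattice) :
      GolayPt → ℤ) =
      Co2Centralizer.xiFun (sv (rImg (tree k) 23).1 (rImg (tree k) 23).2) := by
  rw [mul_assoc, mul_smul, Co2Centralizer.vec_xiEl, vec_rImg hk none]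
  rfl

/-- The nontrivial words are not monomial. -/
theorem R_not_mem {j : ℕ} (h0 : j ≠ 0) (h6 : j < 6) : modelAmal.R tree j ∉ MonT := by
  have two : ∀ k ∈ [2, 3], Co2Centralizer.xiEl * el0 (tree k) * Co2Centralizer.xiEl ∉ stdStab := by
    intro k hk hmem
    obtain ⟨i, s, hs, he⟩ := mem_stdStab_iff.1 hmem _ (eightVec_mem_stdCross none)
    rw [vec_two k (tree_V k)] at he
    obtain ⟨l, hl0, hl1, hl2⟩ := word_two_check k hk
    have := congrFun he l
    by_cases hli : l = i
    · subst hli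
      rw [Pi.single_eq_same] at this
      rcases hs with rfl | rfl
      · exact hl1 this
      · exact hl2 this
    · rw [Pi.single_eq_of_ne hli] at this
      exact hl0 this
  have four : ∀ k ∈ [4, 5], ∀ c : ℕ × ℕ, V c →
      Co2Centralizer.xiEl * el0 c * Co2Centralizer.xiEl * el0 (tree k) * Co2Centralizer.xiEl ∉ stdStab := by
    intro k hk c hc hmem
    set g := Co2Centralizer.xiEl * el0 c * Co2Centralizer.xiEl * el0 (tree k) * Co2Centralizer.xiEl
    obtain ⟨i, s, hs, he⟩ := mem_stdStab_iff.1 hmem _ (eightVec_mem_stdCross none)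
    have hval : ∀ l, ((Co2Centralizer.xiEl • (g • eightVec none) : leechLattice) : GolayPt → ℤ) l = 0 ∨
        ((Co2Centralizer.xiEl • (g • eightVec none) : leechLattice) : GolayPt → ℤ) l = 4 ∨
        ((Co2Centralizer.xiEl • (g • eightVec none) : leechLattice) : GolayPt → ℤ) l = -4 := by
      intro l
      rcases hs with rfl | rfl
      · rw [show g • eightVec none = eightVec i from Subtype.ext he, xiEl_eight]
        simp only [sv]; split_ifs <;> simp
      · rw [show g • eightVec none = -eightVec i from Subtype.ext (by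
            rw [he]
            show _ = -(eightVec i : GolayPt → ℤ)
            rw [coe_eightVec, ← Pi.single_neg]), smul_vneg]
        show -((Co2Centralizer.xiEl • eightVec i : leechLattice) : GolayPt → ℤ) l = 0 ∨ _
        rw [show ((-(Co2Centralizer.xiEl • eightVec i) : leechLattice) : GolayPt → ℤ) l =
          -(((Co2Centralizer.xiEl • eightVec i : leechLattice) : GolayPt → ℤ) l) from rfl, xiEl_eight]
        simp only [sv]; split_ifs <;> simp
    have e : Co2Centralizer.xiEl • (g • eightVec none) =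
        el0 c • ((Co2Centralizer.xiEl * el0 (tree k) * Co2Centralizer.xiEl) • eightVec none) := by
      simp only [g, ← mul_smul, ← mul_assoc, xiEl_mul_self, one_mul]
    obtain ⟨l, hl0, hl1, hl2⟩ := word_four_check k hk
    rw [← vec_two k (tree_V k)] at hl0 hl1 hl2
    have h' := hval (toPerm c.2 l)
    rw [e, vec_el0 hc] at h'
    simp only [signedPerm, Equiv.symm_apply_apply] at h'
    split_ifs at h' <;> omega
  intro hmem
  interval_cases j
  · exact h0 rfl
  · exact xiT_not_mem hmem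
  · exact two 2 (by decide) (mem_stdStab_of_mk hmem)
  · exact two 3 (by decide) (mem_stdStab_of_mk hmem)
  · exact four 4 (by decide) _ (tree_V 2) (mem_stdStab_of_mk hmem)
  · exact four 5 (by decide) _ (tree_V 3) (mem_stdStab_of_mk hmem)

variable {G : Type*} [Group G]

/-- The product of the model with a group. -/
def Amal.withModel (D : Amal G) : Amal (Spor.Co1 × G) where
  ι := MonT.subtype.prod D.ι
  x := (xiT, D.x)
  x_sq := Prod.ext xiT_mul_self D.x_sq
  conj l l' h := Prod.ext h (D.conj l l' h)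
  seed p a b hp ha hb h := Prod.ext h (D.seed p a b hp ha hb h)

theorem R_fst (D : Amal G) : ∀ j, (D.withModel.R tree j).1 = modelAmal.R tree j
  | 0 | 1 | 2 | 3 | 4 | 5 | _ + 6 => rfl

theorem R_snd (D : Amal G) : ∀ j, (D.withModel.R tree j).2 = D.R tree j
  | 0 | 1 | 2 | 3 | 4 | 5 | _ + 6 => rfl

theorem eq_one_of_fst (D : Amal G) {w : Spor.Co1 × G} (hw : w ∈ D.withModel.Γ) (h1 : w.1 = 1) :
    w = 1 := by
  obtain ⟨j, a, b, hj, rfl⟩ := D.withModel.mem_U hw
  simp only [Prod.fst_mul, R_fst] at h1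
  change (a : Spor.Co1) * _ * (b : Spor.Co1) = 1 at h1
  by_cases h0 : j = 0
  · subst h0
    simp only [Amal.R, mul_one] at h1 ⊢
    have hab : a * b = 1 := Subtype.ext h1
    rw [← map_mul, hab, map_one]
  · refine absurd ?_ (R_not_mem h0 hj)
    rw [show modelAmal.R tree j = (a : Spor.Co1)⁻¹ * (b : Spor.Co1)⁻¹ by
      rw [eq_inv_mul_iff_mul_eq, eq_inv_iff_mul_eq_one]; exact h1]
    exact mul_mem (inv_mem a.2) (inv_mem b.2)

/-- The relations present Co1. -/
theorem Amal.exists_hom (D : Amal G) :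
    ∃ f : Spor.Co1 →* G, (∀ m : MonT, f m = D.ι m) ∧ f xiT = D.x := by
  set Γ := D.withModel.Γ
  let π : Γ →* Spor.Co1 := (MonoidHom.fst Spor.Co1 G).comp Γ.subtype
  have hinj : Function.Injective π := (injective_iff_map_eq_one _).2 fun w hw =>
    Subtype.ext (eq_one_of_fst D w.2 hw)
  have hm : ∀ m : MonT, ((m : Spor.Co1), D.ι m) ∈ Γ := fun m =>
    Subgroup.subset_closure (Or.inl ⟨m, rfl⟩)
  have hx : (xiT, D.x) ∈ Γ := Subgroup.subset_closure (Or.inr rfl)
  have hsurj : Function.Surjective π := by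
    rw [← MonoidHom.range_eq_top, eq_top_iff, ← closure_model, Subgroup.closure_le]
    rintro y (hy | hy)
    · exact ⟨⟨_, hm ⟨y, hy⟩⟩, rfl⟩
    · exact ⟨⟨_, hx⟩, hy.symm⟩
  let e : Γ ≃* Spor.Co1 := MulEquiv.ofBijective π ⟨hinj, hsurj⟩
  refine ⟨((MonoidHom.snd Spor.Co1 G).comp Γ.subtype).comp e.symm.toMonoidHom, fun m => ?_, ?_⟩
  · rw [MonoidHom.comp_apply, MulEquiv.coe_toMonoidHom,
      (e.symm_apply_eq).2 (show (m : Spor.Co1) = e ⟨_, hm m⟩ from rfl)]
    rfl
  · rw [MonoidHom.comp_apply, MulEquiv.coe_toMonoidHom,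
      (e.symm_apply_eq).2 (show xiT = e ⟨_, hx⟩ from rfl)]
    rfl

/-- A homomorphism from Co1 which is not trivial is injective. -/
theorem hom_injective (f : Spor.Co1 →* G) {y : Spor.Co1} (hy : f y ≠ 1) : Function.Injective f := by
  haveI : IsSimpleGroup Spor.Co1 := isSimpleGroup_co1
  rw [← MonoidHom.ker_eq_bot_iff]
  rcases (MonoidHom.normal_ker f).eq_bot_or_eq_top with h | h
  · exact h
  · exact absurd (MonoidHom.mem_ker.1 (h ▸ Subgroup.mem_top y)) hy

end Cfsg.Agent.CoOneUniq
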