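/-
Co1 embeds into every group of Conway type.

* `exists_embedding` : an injective homomorphism whose image contains the centralizer of the involution
-/
import Cfsg.Agent.Lib.CoOneUniq.Assembly
import Cfsg.Agent.Lib.CoOneUniq.Hom

set_option autoImplicit false

namespace Cfsg.Agent.CoOneUniq

open Cfsg

/-- The embedding. -/
theorem exists_embedding {G : Type*} [Group G] [Finite G] (T : CoType.Co G) :
    ∃ f : Spor.Co1 →* G, Function.Injective f ∧ f z0 = T.z ∧
      ∀ g : G, g * f z0 = f z0 * g → g ∈ f.range := by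
  obtain ⟨D, fC, hinj, hcen, hz⟩ := exists_local T
  obtain ⟨f, hf, -⟩ := D.exists_hom
  have hfz : f z0 = T.z := (hf ⟨z0, z0_mem⟩).trans hz
  obtain ⟨h1, h2⟩ := cent_le_range T.z_ne fC hinj hcen f hfz
  exact ⟨f, h1, hfz, h2⟩

end Cfsg.Agent.CoOneUniq
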