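/-
A group of Conway type is isomorphic to Co1.

* `iso_of_co`
-/
import Cfsg.Agent.Lib.CoOneUniq.Embed
import Cfsg.Agent.Lib.CoOneUniq.Closing

set_option autoImplicit false

namespace Cfsg.Agent.CoOneUniq

open Cfsg

/-- Uniqueness. -/
theorem iso_of_co {G : Type*} [Group G] [Finite G] (T : CoType.Co G) : Spor.IsoCo1 G := by
  obtain ⟨f, hi, hz, hc⟩ := exists_embedding T
  obtain ⟨a, b, c, ha, hb, hcc, h1, h2, h3, -⟩ := CoType.three_classes T
  have htop : f.range = ⊤ := Closing.range_eq_top f hi hc ⟨a, b, c, ha, hb, hcc, h1, h2, h3⟩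
    fun x hx => by rw [show f Co1Centralizer.z1 = T.z from hz]; exact T.exists_conj_comm hx
  exact ⟨(MulEquiv.ofBijective f ⟨hi, MonoidHom.range_eq_top.1 htop⟩).symm⟩

end Cfsg.Agent.CoOneUniq
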