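/-
Coordinates at an involution `z` that is weakly closed in the extraspecial radical of its centraliser
of type `2^(1+8).Ω⁺₈(2)` (helper9).

* `Wk` : the data, those of `CoType.Co` with weak closure in place of its negation
* `exists_wk` : existence (the proof of `CoType.exists_co`)
* `Wk.comm` : commutators in the radical;  `Wk.conj` : the data at a conjugate
-/
import Cfsg.Agent.Lib.CoType.Coord

set_option autoImplicit false
set_option linter.unusedSectionVars false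
open scoped commutatorElement

namespace Cfsg.Agent.CoOneUniq

open Cfsg.Agent.CoType Cfsg.Agent.Orth Cfsg.Agent.LargeExtraspecial
open QuadraticMap (polar)

variable {G : Type*} [Group G]

/-- The data at `z`. -/
structure Wk (G : Type*) [Group G] where
  z : G
  Q : Subgroup G
  data : Data Q z
  card_Q : Nat.card Q = 2 ^ 9
  c : G → V8
  ρ : G → IsoGrp qm
  c_mul : ∀ x ∈ Q, ∀ y ∈ Q, c (x * y) = c x + c y
  c_ker : ∀ x ∈ Q, c x = 0 → x = 1 ∨ x = z
  c_surj : ∀ w, ∃ x ∈ Q, c x = w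
  sq : ∀ x ∈ Q, x * x = pw z (qm (c x))
  ρ_mul : ∀ g h, g * z = z * g → h * z = z * h → ρ (g * h) = ρ g * ρ h
  ρ_conj : ∀ g, g * z = z * g → ∀ x ∈ Q, c (g * x * g⁻¹) = ap (ρ g) (c x)
  ρ_ker : ∀ g, g * z = z * g → (ρ g = 1 ↔ g ∈ Q)
  ρ_mem : ∀ g, g * z = z * g → ρ g ∈ Cfsg.Omega (ZMod 2) ⇑qm
  ρ_surj : ∀ ω ∈ Cfsg.Omega (ZMod 2) ⇑qm, ∃ g, g * z = z * g ∧ ρ g = ω
  wc : ∀ g : G, g * z * g⁻¹ ∈ Q → g * z * g⁻¹ = z

theorem exists_wk [Finite G] (z : G) (hz : orderOf z = 2) (Qc : Subgroup (Subgroup.centralizer ({z} : Set G)))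
    [Qc.Normal] (hF : Cfsg.generalizedFittingSubgroup (Subgroup.centralizer ({z} : Set G)) = Qc)
    (hQ : Cfsg.IsExtraspecial 2 Qc) (hcard : Nat.card Qc = 2 ^ 9)
    (e : (Subgroup.centralizer ({z} : Set G)) ⧸ Qc ≃*
      Cfsg.Omega (ZMod 2) (Cfsg.quadFormPlus 4 (ZMod 2)))
    (hwc : ∀ g : G, g * z * g⁻¹ ∈ Qc.map (Subgroup.centralizer ({z} : Set G)).subtype → g * z * g⁻¹ = z) :
    ∃ T : Wk G, T.z = z ∧ T.Q = Qc.map (Subgroup.centralizer ({z} : Set G)).subtype := by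
  classical
  haveI : Fact (Nat.Prime 2) := ⟨Nat.prime_two⟩
  have memC : ∀ x, x ∈ Subgroup.centralizer ({z} : Set G) ↔ x * z = z * x := fun x =>
    Subgroup.mem_centralizer_singleton_iff
  set Q : Subgroup G := Qc.map (Subgroup.centralizer ({z} : Set G)).subtype with hQdef
  have hQex : Cfsg.IsExtraspecial 2 ↥Q :=
    isExtraspecial_congr (Qc.equivMapOfInjective (Subgroup.centralizer ({z} : Set G)).subtype (Subgroup.centralizer ({z} : Set G)).subtype_injective) hQ
  obtain ⟨D, -⟩ := Data.of_generalizedFitting hz (Q := Q) (by rw [hF]) hQex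
  haveI : Fact (Cfsg.IsExtraspecial 2 ↥Qc) := ⟨hQ⟩
  have hfr : Module.finrank (ZMod 2) (OutForm.Vm ↥Qc) = 8 := OutForm.finrank_Vm (n := 4) hcard
  -- the action
  let act : ↥(Subgroup.centralizer ({z} : Set G)) →* Forms.preservingFun (F := ZMod 2) (V := OutForm.Vm ↥Qc) (OutForm.qf ↥Qc) :=
    (OutForm.act ↥Qc).comp MulAut.conjNormal
  have hker : act.ker = Qc := by
    ext g
    rw [MonoidHom.mem_ker]
    constructor
    · intro h
      have h' : MulAut.conjNormal g ∈ Cfsg.Inn ↥Qc := by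
        rw [← OutForm.ker_eq, MonoidHom.mem_ker]; exact h
      obtain ⟨q, hq⟩ := h'
      have hcen : ((q : ↥(Subgroup.centralizer ({z} : Set G)))⁻¹ * g) ∈ Subgroup.centralizer (Qc : Set ↥(Subgroup.centralizer ({z} : Set G))) := by
        refine Subgroup.mem_centralizer_iff.mpr fun x hx => ?_
        have h1 := congrArg (fun φ : MulAut ↥Qc => ((φ ⟨x, hx⟩ : ↥Qc) : ↥(Subgroup.centralizer ({z} : Set G)))) hq
        simp only [MulAut.conjNormal_apply, MulAut.conj_apply, Subgroup.coe_mul, Subgroup.coe_inv] at h1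
        calc x * ((q : ↥(Subgroup.centralizer ({z} : Set G)))⁻¹ * g) = (q : ↥(Subgroup.centralizer ({z} : Set G)))⁻¹ * ((q : ↥(Subgroup.centralizer ({z} : Set G))) * x * (q : ↥(Subgroup.centralizer ({z} : Set G)))⁻¹) * g := by group
          _ = (q : ↥(Subgroup.centralizer ({z} : Set G)))⁻¹ * (g * x * g⁻¹) * g := by rw [h1]
          _ = _ := by group
      have h2 := Symplectic.centralizer_generalizedFitting_le ↥(Subgroup.centralizer ({z} : Set G)) (by rw [hF]; exact hcen)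
      rw [hF] at h2
      simpa using mul_mem q.2 h2
    · intro h
      refine (OutForm.inn_le_ker : Cfsg.Inn ↥Qc ≤ _) ⟨⟨g, h⟩, MulEquiv.ext fun x => Subtype.ext ?_⟩
      simp [MulAut.conjNormal_apply]
  have hrange : Nat.card act.range = 174182400 := by
    rw [← Subgroup.index_ker, hker, Subgroup.index_eq_card, Nat.card_congr e.toEquiv]
    exact card_omega
  -- the type
  obtain ⟨L, hL⟩ : ∃ L : V8 ≃ₗ[ZMod 2] OutForm.Vm ↥Qc, ∀ v, OutForm.qf ↥Qc (L v) = qm v := by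
    rcases Forms.classify (OutForm.qf ↥Qc) OutForm.qf_nondegenerate with
      ⟨m, L, hL⟩ | ⟨m, a, b, L, hab, hL⟩ | ⟨m, c, L, -, h2, -⟩
    · have hm : m = 4 := by
        have h := L.finrank_eq
        rw [hfr, Module.finrank_fintype_fun_eq_card, Fintype.card_sum, Fintype.card_fin] at h
        omega
      subst hm
      exact ⟨L, fun v => by rw [hL, Forms.qfPlus_eq]; rfl⟩
    · exfalso
      have hm : m = 3 := by
        have h := L.finrank_eq
        rw [hfr, Module.finrank_fintype_fun_eq_card, Fintype.card_sum, Fintype.card_sum, Fintype.card_fin,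
          Fintype.card_fin] at h
        omega
      subst hm
      have h1 := Subgroup.card_subgroup_dvd_card act.range
      rw [hrange, ← Nat.card_congr (Forms.preservingFunCongr (⇑(Forms.qfMinus 3 (ZMod 2) a b))
        (⇑(OutForm.qf ↥Qc)) L 1 one_ne_zero (fun v => by rw [one_mul]; exact hL v)).toEquiv,
        Forms.card_preservingFun_qfMinus hab] at h1
      norm_num [Finset.prod_range_succ] at h1
    · exact absurd rfl h2
  let ρh : ↥(Subgroup.centralizer ({z} : Set G)) →* IsoGrp qm :=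
    ((Forms.isometryGroupEquiv (⇑qm)).symm.toMonoidHom).comp
      ((Forms.preservingFunCongr (⇑(OutForm.qf ↥Qc)) (⇑qm) L.symm 1 one_ne_zero (fun v => by
        rw [one_mul, ← hL (L.symm v), LinearEquiv.apply_symm_apply])).toMonoidHom.comp act)
  have hρap : ∀ (g : ↥(Subgroup.centralizer ({z} : Set G))) (w : V8), ap (ρh g) w = L.symm ((act g).1 (L w)) := by
    intro g w
    rw [ap_apply, ← Forms.isometryGroupEquiv_apply (⇑qm) (ρh g) w]
    simp [ρh, Forms.preservingFunCongr]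
  have hρker : ρh.ker = Qc := by
    rw [← hker]
    ext g
    simp [ρh, MonoidHom.mem_ker]
  have hρrange : ρh.range = Cfsg.Omega (ZMod 2) ⇑qm := by
    have hc : Nat.card ρh.range = 174182400 := by
      rw [← Subgroup.index_ker, hρker, ← hker, Subgroup.index_ker, hrange]
    have hidx : ρh.range.index = 2 := by
      have h := ρh.range.card_mul_index
      rw [hc, card_iso] at h
      omega
    refine (Subgroup.eq_of_le_of_card_ge (omega_le_of_index_two _ hidx) ?_).symm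
    exact le_of_eq (hc.trans card_omega.symm)
  let c : G → V8 := fun x =>
    if h : ∃ q : ↥Qc, ((q : ↥(Subgroup.centralizer ({z} : Set G))) : G) = x then L.symm (OutForm.pr h.choose) else 0
  have hc : ∀ q : ↥Qc, c ((q : ↥(Subgroup.centralizer ({z} : Set G))) : G) = L.symm (OutForm.pr q) := by
    intro q
    have h : ∃ q' : ↥Qc, ((q' : ↥(Subgroup.centralizer ({z} : Set G))) : G) = ((q : ↥(Subgroup.centralizer ({z} : Set G))) : G) := ⟨q, rfl⟩
    simp only [c, dif_pos h]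
    rw [show h.choose = q from Subtype.ext (Subtype.ext h.choose_spec)]
  let ρ : G → IsoGrp qm := fun g => if h : g ∈ Subgroup.centralizer ({z} : Set G) then ρh ⟨g, h⟩ else 1
  have hρ : ∀ g : ↥(Subgroup.centralizer ({z} : Set G)), ρ (g : G) = ρh g := fun g => dif_pos g.2
  have hlift : ∀ x ∈ Q, ∃ q : ↥Qc, ((q : ↥(Subgroup.centralizer ({z} : Set G))) : G) = x := fun x hx => by
    obtain ⟨q, hq, rfl⟩ := hx
    exact ⟨⟨q, hq⟩, rfl⟩
  have hz2 : z * z = 1 := D.z_sq
  refine ⟨⟨z, Q, D, ?_, c, ρ, ?_, ?_, ?_, ?_, ?_, ?_, ?_, ?_, ?_, ?_⟩, rfl, rfl⟩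
  · rw [hQdef, Subgroup.card_map_of_injective (Subgroup.centralizer ({z} : Set G)).subtype_injective, hcard]
  · intro x hx y hy
    obtain ⟨a, rfl⟩ := hlift x hx
    obtain ⟨b, rfl⟩ := hlift y hy
    rw [show ((a : ↥(Subgroup.centralizer ({z} : Set G))) : G) * ((b : ↥(Subgroup.centralizer ({z} : Set G))) : G) = (((a * b : ↥Qc) : ↥(Subgroup.centralizer ({z} : Set G))) : G) from rfl, hc, hc, hc,
      OutForm.pr_mul, map_add]
  · intro x hx h0
    obtain ⟨a, rfl⟩ := hlift x hx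
    rw [hc, LinearEquiv.map_eq_zero_iff, OutForm.pr_eq_zero] at h0
    refine D.cent _ fun q hq => ?_
    obtain ⟨b, rfl⟩ := hlift q hq
    exact congrArg (fun w : ↥Qc => ((w : ↥(Subgroup.centralizer ({z} : Set G))) : G)) (Subgroup.mem_center_iff.mp h0 b)
  · intro w
    obtain ⟨a, ha⟩ := OutForm.pr_surjective (L w)
    exact ⟨((a : ↥(Subgroup.centralizer ({z} : Set G))) : G), ⟨a, a.2, rfl⟩, by rw [hc, ha, LinearEquiv.symm_apply_apply]⟩
  · intro x hx
    obtain ⟨a, rfl⟩ := hlift x hx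
    have hq : qm (c ((a : ↥(Subgroup.centralizer ({z} : Set G))) : G)) = OutForm.eps (a * a) := by
      rw [hc, ← hL, LinearEquiv.apply_symm_apply, OutForm.qf_apply]
    rcases D.sq hx with h | h
    · rw [h, hq, show a * a = 1 from Subtype.ext (Subtype.ext h), OutForm.eps_one, pw_zero]
    · have hne : a * a ≠ 1 := fun h' => D.z_ne
        (h.symm.trans (congrArg (fun w : ↥Qc => ((w : ↥(Subgroup.centralizer ({z} : Set G))) : G)) h'))
      rw [h, hq, OutForm.eps, if_neg hne, pw_one]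
  · intro g h hg hh
    have hg' := (memC g).2 hg
    have hh' := (memC h).2 hh
    rw [show g * h = ((⟨g, hg'⟩ * ⟨h, hh'⟩ : ↥(Subgroup.centralizer ({z} : Set G))) : G) from rfl, hρ, map_mul, ← hρ, ← hρ]
  · intro g hg x hx
    obtain ⟨a, rfl⟩ := hlift x hx
    have hg' := (memC g).2 hg
    rw [show ρ g = ρh ⟨g, hg'⟩ from dif_pos hg', hρap, hc, LinearEquiv.apply_symm_apply,
      show g * ((a : ↥(Subgroup.centralizer ({z} : Set G))) : G) * g⁻¹ = ((MulAut.conjNormal (⟨g, hg'⟩ : ↥(Subgroup.centralizer ({z} : Set G))) a : ↥Qc) : ↥(Subgroup.centralizer ({z} : Set G))) from by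
        simp [MulAut.conjNormal_apply], hc]
    congr 1
    exact (OutForm.actLin_pr _ a).symm
  · intro g hg
    have hg' := (memC g).2 hg
    rw [show ρ g = ρh ⟨g, hg'⟩ from dif_pos hg', ← MonoidHom.mem_ker, hρker]
    exact ⟨fun h => ⟨_, h, rfl⟩, fun ⟨q, hq, hqg⟩ => by
      rwa [show (⟨g, hg'⟩ : ↥(Subgroup.centralizer ({z} : Set G))) = q from Subtype.ext hqg.symm]⟩
  · intro g hg
    rw [show ρ g = ρh ⟨g, (memC g).2 hg⟩ from dif_pos ((memC g).2 hg), ← hρrange]
    exact ⟨_, rfl⟩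
  · intro ω hω
    rw [← hρrange] at hω
    obtain ⟨g, rfl⟩ := hω
    exact ⟨g, (memC _).1 g.2, hρ g⟩
  · exact hwc

namespace Wk

variable (T : Wk G)

theorem z_ne : T.z ≠ 1 := T.data.z_ne
theorem z_sq : T.z * T.z = 1 := T.data.z_sq
theorem z_inv : T.z⁻¹ = T.z := inv_eq_of_mul_eq_one_right T.z_sq
theorem Qz {x : G} (hx : x ∈ T.Q) : x * T.z = T.z * x := T.data.z_central x hx
theorem pw_mem (e : ZMod 2) : pw T.z e ∈ T.Q := by
  rw [pw]; split
  exacts [one_mem _, T.data.z_mem]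

theorem pw_add (d e : ZMod 2) : pw T.z (d + e) = pw T.z d * pw T.z e := CoType.pw_add T.z_sq d e

theorem pw_sq (e : ZMod 2) : pw T.z e * pw T.z e = 1 := by
  rw [← T.pw_add, ZModModule.add_self, pw_zero]

theorem pw_central {g : G} (h : g * T.z = T.z * g) (e : ZMod 2) : g * pw T.z e = pw T.z e * g :=
  pw_comm g h e

theorem c_one : T.c 1 = 0 := by
  have h := T.c_mul 1 (one_mem _) 1 (one_mem _)
  rw [mul_one] at h
  exact add_eq_left.mp h.symm

theorem c_z : T.c T.z = 0 := by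
  obtain ⟨x, hx, hxc⟩ := T.c_surj (io W0)
  have h := T.sq x hx
  have hq : qm (io W0) = 1 := by rw [qm_io]; decide
  rw [hxc, hq, pw_one] at h
  rw [← h, T.c_mul x hx x hx, ZModModule.add_self]

theorem c_pw (e : ZMod 2) : T.c (pw T.z e) = 0 := by
  rw [pw]; split
  exacts [T.c_one, T.c_z]

theorem c_inv {x : G} (hx : x ∈ T.Q) : T.c x⁻¹ = T.c x := by
  have h := T.c_mul x hx x⁻¹ (inv_mem hx)
  rw [mul_inv_cancel, c_one] at h
  exact (eq_neg_of_add_eq_zero_right h.symm).trans (ZModModule.neg_eq_self _)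

theorem eq_of_c {x y : G} (hx : x ∈ T.Q) (hy : y ∈ T.Q) (h : T.c x = T.c y) :
    y = x ∨ y = x * T.z := by
  rcases T.c_ker (x⁻¹ * y) (mul_mem (inv_mem hx) hy)
      (by rw [T.c_mul _ (inv_mem hx) _ hy, T.c_inv hx, h, ZModModule.add_self]) with e | e
  · exact Or.inl (inv_mul_eq_one.1 e).symm
  · exact Or.inr (by rw [← e, mul_inv_cancel_left])

theorem inv_eq {x : G} (hx : x ∈ T.Q) : x⁻¹ = x * pw T.z (qm (T.c x)) := by
  refine inv_eq_of_mul_eq_one_right ?_
  rw [← mul_assoc, T.sq x hx, T.pw_sq]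

/-- Commutators in the radical. -/
theorem comm {x y : G} (hx : x ∈ T.Q) (hy : y ∈ T.Q) :
    y * x = x * y * pw T.z (polar ⇑qm (T.c x) (T.c y)) := by
  have hxy := T.sq _ (mul_mem hx hy)
  rw [T.c_mul x hx y hy, Q_add, T.pw_add, T.pw_add] at hxy
  have e : y * x = x⁻¹ * (x * y * (x * y)) * y⁻¹ := by group
  have hc : ∀ e, pw T.z e * (y * pw T.z (qm (T.c y))) = y * pw T.z (qm (T.c y)) * pw T.z e := fun d => by
    rw [← mul_assoc, ← T.pw_central (T.Qz hy), mul_assoc, ← T.pw_add, add_comm, T.pw_add, ← mul_assoc]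
  rw [e, hxy, T.inv_eq hx, T.inv_eq hy]
  set P := pw T.z (qm (T.c x))
  set R := pw T.z (qm (T.c y))
  set B := pw T.z (polar ⇑qm (T.c x) (T.c y))
  calc x * P * (P * R * B) * (y * R) = x * (P * P) * R * B * (y * R) := by group
    _ = x * R * (B * (y * R)) := by rw [T.pw_sq, mul_one]; group
    _ = x * (R * (y * R)) * B := by rw [show B * (y * R) = y * R * B from hc _]; group
    _ = x * y * (R * R) * B := by rw [show R * (y * R) = y * R * R from hc _]; group
    _ = x * y * B := by rw [T.pw_sq, mul_one]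

theorem commute_iff {x y : G} (hx : x ∈ T.Q) (hy : y ∈ T.Q) :
    x * y = y * x ↔ polar ⇑qm (T.c x) (T.c y) = 0 := by
  refine ⟨fun h => ?_, fun h => by rw [T.comm hx hy, h, pw_zero, mul_one]⟩
  refine pw_inj T.z_ne ?_
  rw [pw_zero]
  have := T.comm hx hy
  rw [← h] at this
  exact left_eq_mul.1 this

/-- A lift of a vector. -/
noncomputable def li (v : V8) : G := (T.c_surj v).choose

theorem li_mem (v : V8) : T.li v ∈ T.Q := (T.c_surj v).choose_spec.1
theorem c_li (v : V8) : T.c (T.li v) = v := (T.c_surj v).choose_spec.2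
theorem li_z (v : V8) : T.li v * T.z = T.z * T.li v := T.Qz (T.li_mem v)

theorem ρ_Q {x : G} (hx : x ∈ T.Q) : T.ρ x = 1 := (T.ρ_ker x (T.Qz hx)).2 hx

theorem ρ_one : T.ρ 1 = 1 := T.ρ_Q (one_mem _)

theorem ρ_inv {g : G} (hg : g * T.z = T.z * g) : T.ρ g⁻¹ = (T.ρ g)⁻¹ := by
  refine eq_inv_of_mul_eq_one_left ?_
  rw [← T.ρ_mul _ _ (Commute.inv_left hg).eq hg, inv_mul_cancel, T.ρ_one]

/-- Conjugate of `z`. -/
def Cj (x : G) : Prop := ∃ g, g * T.z * g⁻¹ = x

theorem Cj.eq_z {T : Wk G} {x : G} (h : T.Cj x) (hx : x ∈ T.Q) : x = T.z := by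
  obtain ⟨g, rfl⟩ := h
  exact T.wc g hx

theorem Cj.conj {T : Wk G} {x : G} (h : T.Cj x) (c : G) : T.Cj (c * x * c⁻¹) := by
  obtain ⟨g, rfl⟩ := h
  exact ⟨c * g, by group⟩

theorem Cj.sq {T : Wk G} {x : G} (h : T.Cj x) : x * x = 1 := by
  obtain ⟨g, rfl⟩ := h
  calc g * T.z * g⁻¹ * (g * T.z * g⁻¹) = g * (T.z * T.z) * g⁻¹ := by group
    _ = 1 := by rw [T.z_sq]; group

theorem Cj.inv {T : Wk G} {x : G} (h : T.Cj x) : x⁻¹ = x := inv_eq_of_mul_eq_one_right h.sq

theorem conj_iff {g x : G} : g⁻¹ * x * g * T.z = T.z * (g⁻¹ * x * g) ↔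
    x * (g * T.z * g⁻¹) = g * T.z * g⁻¹ * x := by
  constructor <;> intro h
  · calc x * (g * T.z * g⁻¹) = g * (g⁻¹ * x * g * T.z) * g⁻¹ := by group
      _ = _ := by rw [h]; group
  · calc g⁻¹ * x * g * T.z = g⁻¹ * (x * (g * T.z * g⁻¹)) * g := by group
      _ = _ := by rw [h]; group

/-- The data at a conjugate. -/
def conj (g : G) : Wk G where
  z := g * T.z * g⁻¹
  Q := conjS g T.Q
  data := T.data.conjugate g
  card_Q := by
    rw [Subgroup.card_map_of_injective (MulAut.conj g).injective, T.card_Q]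
  c x := T.c (g⁻¹ * x * g)
  ρ x := T.ρ (g⁻¹ * x * g)
  c_mul x hx y hy := by
    rw [← T.c_mul _ (mem_conjS.1 hx) _ (mem_conjS.1 hy)]
    congr 1; group
  c_ker x hx h := by
    rcases T.c_ker _ (mem_conjS.1 hx) h with e | e
    · left
      calc x = g * (g⁻¹ * x * g) * g⁻¹ := by group
        _ = 1 := by rw [e]; group
    · right
      calc x = g * (g⁻¹ * x * g) * g⁻¹ := by group
        _ = g * T.z * g⁻¹ := by rw [e]
  c_surj w := by
    obtain ⟨x, hx, hxc⟩ := T.c_surj w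
    exact ⟨g * x * g⁻¹, ⟨x, hx, rfl⟩, by rw [← hxc]; congr 1; group⟩
  sq x hx := by
    have h := congrArg (fun a => g * a * g⁻¹) (T.sq _ (mem_conjS.1 hx))
    have e : g * pw T.z (qm (T.c (g⁻¹ * x * g))) * g⁻¹ =
        pw (g * T.z * g⁻¹) (qm (T.c (g⁻¹ * x * g))) := by
      rw [pw, pw]; split <;> simp
    rw [← e, ← h]; group
  ρ_mul x y hx hy := by
    rw [← T.ρ_mul _ _ ((T.conj_iff).2 hx) ((T.conj_iff).2 hy)]
    congr 1; group
  ρ_conj x hx y hy := by
    rw [← T.ρ_conj _ ((T.conj_iff).2 hx) _ (mem_conjS.1 hy)]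
    congr 1; group
  ρ_ker x hx := by
    rw [T.ρ_ker _ ((T.conj_iff).2 hx), mem_conjS]
  ρ_mem x hx := T.ρ_mem _ ((T.conj_iff).2 hx)
  ρ_surj ω hω := by
    obtain ⟨x, hx, hxω⟩ := T.ρ_surj ω hω
    refine ⟨g * x * g⁻¹, ?_, by rw [← hxω]; congr 1; group⟩
    exact (T.conj_iff).1 (by simpa [mul_assoc] using hx)
  wc h hh := by
    have e := T.wc (g⁻¹ * h * g) (by
      have := mem_conjS.1 hh
      simpa [mul_assoc] using this)
    calc h * (g * T.z * g⁻¹) * h⁻¹ = g * (g⁻¹ * h * g * T.z * (g⁻¹ * h * g)⁻¹) * g⁻¹ := by group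
      _ = _ := by rw [e]

theorem conj_z (g : G) : (T.conj g).z = g * T.z * g⁻¹ := rfl

theorem Cj_conj (g : G) {x : G} : (T.conj g).Cj x ↔ T.Cj x := by
  constructor
  · rintro ⟨h, rfl⟩
    exact ⟨h * g, by rw [conj_z]; group⟩
  · rintro ⟨h, rfl⟩
    exact ⟨h * g⁻¹, by rw [conj_z]; group⟩

end Wk

end Cfsg.Agent.CoOneUniq
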