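/-
Two commuting conjugates `z`, `a` of an involution weakly closed in its radical, with `z a` not
conjugate to `z` (helper9).

* `NPair T a` : such a pair;  `NPair.sec v` : the product of `a` and its conjugate by a lift of `v`
* `NPair.qm_X`, `NPair.sec_add` : the commutator space is totally singular, the section is a cocycle
* `NPair.exists_lift` : isometries commuting with the image of `a` lift into the centraliser of `a`
* `NPair.exists_pair` : the data at `a`, in which `z` is again such an element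
-/
import Cfsg.Agent.Lib.CoOneUniq.WcData
import Cfsg.Agent.Lib.CoType.Linear

set_option autoImplicit false
set_option linter.unusedSectionVars false

namespace Cfsg.Agent.CoOneUniq

open Cfsg.Agent.CoType Cfsg.Agent.Orth
open QuadraticMap (polar)

variable {G : Type*} [Group G]

theorem bit_cases : ∀ t : ZMod 2, t = 0 ∨ t = 1 := by decide

namespace Wk

variable (T : Wk G)

/-- The commutator map of the image of `g`. -/
noncomputable def X (g : G) (v : V8) : V8 := ap (T.ρ g) v + v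

/-- `g` times its conjugate by a lift of `v`. -/
noncomputable def sec (g : G) (v : V8) : G := g * (T.li v * g * (T.li v)⁻¹)

theorem X_add (g : G) (u v : V8) : T.X g (u + v) = T.X g u + T.X g v := by
  rw [X, X, X, map_add, add_add_add_comm]

theorem X_zero (g : G) : T.X g 0 = 0 := by rw [X, map_zero, add_zero]

theorem X_eq_zero {g : G} {v : V8} : T.X g v = 0 ↔ ap (T.ρ g) v = v :=
  ⟨fun h => add_eq_zero_v h, fun h => by rw [X, h, ZModModule.add_self]⟩

end Wk

/-- The pair. -/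
structure NPair (T : Wk G) (a : G) : Prop where
  cj : T.Cj a
  comm : a * T.z = T.z * a
  ne : a ≠ T.z
  not_cj : ¬ T.Cj (T.z * a)

namespace NPair

variable {T : Wk G} {a : G} (h : NPair T a)

include h

theorem sq : a * a = 1 := h.cj.sq
theorem inv : a⁻¹ = a := h.cj.inv
theorem notMem : a ∉ T.Q := fun hm => h.ne (h.cj.eq_z hm)
theorem ρ_sq : T.ρ a * T.ρ a = 1 := by rw [← T.ρ_mul a a h.comm h.comm, h.sq, T.ρ_one]
theorem ρ_ne : T.ρ a ≠ 1 := fun e => h.notMem ((T.ρ_ker a h.comm).1 e)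
theorem ρ_mem : T.ρ a ∈ Cfsg.Omega (ZMod 2) ⇑qm := T.ρ_mem a h.comm

theorem sec_eq {q : G} (hq : q ∈ T.Q) : a * (q * a * q⁻¹) = T.sec a (T.c q) := by
  rcases T.eq_of_c hq (T.li_mem _) (T.c_li _).symm with e | e
  · rw [Wk.sec, e]
  · rw [Wk.sec, e]
    calc a * (q * a * q⁻¹) = a * (q * (T.z * a * T.z⁻¹) * q⁻¹) := by
          rw [← h.comm, mul_inv_cancel_right]
      _ = _ := by group

theorem sec_alt (v : V8) : T.sec a v = (a * T.li v * a⁻¹) * (T.li v)⁻¹ := by
  rw [Wk.sec, h.inv]; group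

theorem conjA_mem {q : G} (hq : q ∈ T.Q) : a * q * a⁻¹ ∈ T.Q := T.data.norm a h.comm q hq

theorem sec_mem (v : V8) : T.sec a v ∈ T.Q := by
  rw [h.sec_alt]; exact mul_mem (h.conjA_mem (T.li_mem v)) (inv_mem (T.li_mem v))

theorem c_sec (v : V8) : T.c (T.sec a v) = T.X a v := by
  rw [h.sec_alt, T.c_mul _ (h.conjA_mem (T.li_mem v)) _ (inv_mem (T.li_mem v)),
    T.c_inv (T.li_mem v), T.ρ_conj a h.comm _ (T.li_mem v), T.c_li]
  rfl

theorem sec_z (v : V8) : T.sec a v * T.z = T.z * T.sec a v := T.Qz (h.sec_mem v)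

theorem cj_a_sec (v : V8) : T.Cj (a * T.sec a v) := by
  rw [Wk.sec, ← mul_assoc, h.sq, one_mul]; exact h.cj.conj _

/-- `a z` is not a conjugate. -/
theorem not_cj' : ¬ T.Cj (a * T.z) := by rw [h.comm]; exact h.not_cj

theorem qm_X (v : V8) : qm (T.X a v) = 0 := by
  rcases bit_cases (qm (T.X a v)) with e | e
  · exact e
  exfalso
  set s := T.sec a v
  have hs : s * s = T.z := by rw [T.sq _ (h.sec_mem v), h.c_sec, e, pw_one]
  have h2 : a * s * (a * s) = 1 := (h.cj_a_sec v).sq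
  refine h.not_cj' ?_
  have hsa : s * a = a * s⁻¹ := by
    calc s * a = a⁻¹ * (a * s * (a * s)) * s⁻¹ := by group
      _ = a * s⁻¹ := by rw [h2, h.inv, mul_one]
  have e1 : T.Cj (a * s * T.z) := by
    have := (h.cj_a_sec v).conj s
    rwa [show s * (a * s) * s⁻¹ = a * s * T.z by
      rw [show s * (a * s) * s⁻¹ = s * a by group, hsa, mul_assoc,
        show s⁻¹ = s * T.z from inv_eq_of_mul_eq_one_right (by rw [← mul_assoc, hs, T.z_sq])]] at this
  have := e1.conj (T.li v)⁻¹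
  rwa [show (T.li v)⁻¹ * (a * s * T.z) * (T.li v)⁻¹⁻¹ = a * T.z by
    calc (T.li v)⁻¹ * (a * s * T.z) * (T.li v)⁻¹⁻¹
        = (T.li v)⁻¹ * (a * a * (T.li v * a * (T.li v)⁻¹) * (T.z * T.li v)) := by
          simp only [s, Wk.sec]; group
      _ = (T.li v)⁻¹ * (T.li v * a * (T.li v)⁻¹ * (T.li v * T.z)) := by rw [h.sq, one_mul, T.li_z]
      _ = _ := by group] at this

theorem sec_sq (v : V8) : T.sec a v * T.sec a v = 1 := by
  rw [T.sq _ (h.sec_mem v), h.c_sec, h.qm_X, pw_zero]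

theorem sec_inv (v : V8) : (T.sec a v)⁻¹ = T.sec a v := inv_eq_of_mul_eq_one_right (h.sec_sq v)

theorem sec_comm_a (v : V8) : T.sec a v * a = a * T.sec a v := by
  have h2 := (h.cj_a_sec v).sq
  calc T.sec a v * a = a⁻¹ * (a * T.sec a v * (a * T.sec a v)) * (T.sec a v)⁻¹ := by group
    _ = _ := by rw [h2, h.inv, h.sec_inv, mul_one]

theorem polar_X_X (u v : V8) : polar ⇑qm (T.X a u) (T.X a v) = 0 := inv_orth h.ρ_sq u v

theorem polar_adj (u v : V8) : polar ⇑qm (T.X a u) v = polar ⇑qm u (T.X a v) := inv_adj h.ρ_sq u v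

theorem polar_X_comm (u v : V8) : polar ⇑qm u (T.X a v) = polar ⇑qm v (T.X a u) := by
  rw [← h.polar_adj, pl_comm]

theorem polar_self (v : V8) : polar ⇑qm v (T.X a v) = 0 := by
  rw [← h.qm_X v]; exact (inv_sing v).symm

theorem X_X (v : V8) : T.X a (T.X a v) = 0 := inv_twice h.ρ_sq v

theorem sec_comm (u v : V8) : T.sec a u * T.sec a v = T.sec a v * T.sec a u := by
  rw [T.commute_iff (h.sec_mem u) (h.sec_mem v), h.c_sec, h.c_sec]
  exact h.polar_X_X u v

theorem commute_of_fix {q : G} (hq : q ∈ T.Q) (hf : T.X a (T.c q) = 0) : q * a = a * q := by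
  have hc := h.c_sec (T.c q)
  rw [hf] at hc
  have hb : q * a * q⁻¹ = a * T.sec a (T.c q) := by
    rw [← h.sec_eq hq, ← mul_assoc, h.sq, one_mul]
  rcases T.c_ker _ (h.sec_mem _) hc with e | e
  · rw [e, mul_one, mul_inv_eq_iff_eq_mul] at hb; exact hb
  · exact absurd (e ▸ hb ▸ h.cj.conj q) h.not_cj'

theorem fix_of_commute {q : G} (hq : q ∈ T.Q) (hc : q * a = a * q) : T.X a (T.c q) = 0 := by
  rw [T.X_eq_zero, ← T.ρ_conj a h.comm q hq, ← hc, mul_inv_cancel_right]

theorem sec_eq_one {v : V8} (hv : T.X a v = 0) : T.sec a v = 1 := by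
  rw [Wk.sec, h.commute_of_fix (T.li_mem v) (by rw [T.c_li]; exact hv), mul_inv_cancel_right, h.sq]

theorem sec_add (u v : V8) :
    T.sec a (u + v) = T.sec a v * T.sec a u * pw T.z (polar ⇑qm v (T.X a u)) := by
  have hq : T.c (T.li v * T.li u) = u + v := by
    rw [T.c_mul _ (T.li_mem v) _ (T.li_mem u), T.c_li, T.c_li, add_comm]
  have hu : T.li u * a * (T.li u)⁻¹ = a * T.sec a u := by
    rw [Wk.sec, ← mul_assoc, h.sq, one_mul]
  have hv : T.li v * a * (T.li v)⁻¹ = a * T.sec a v := by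
    rw [Wk.sec, ← mul_assoc, h.sq, one_mul]
  have hc : T.li v * T.sec a u * (T.li v)⁻¹ = T.sec a u * pw T.z (polar ⇑qm v (T.X a u)) := by
    rw [mul_inv_eq_iff_eq_mul, mul_assoc, ← T.pw_central (T.li_z v), ← mul_assoc,
      T.comm (h.sec_mem u) (T.li_mem v), h.c_sec, T.c_li, pl_comm]
  rw [← hq, ← h.sec_eq (mul_mem (T.li_mem v) (T.li_mem u))]
  calc a * (T.li v * T.li u * a * (T.li v * T.li u)⁻¹)
      = a * (T.li v * (T.li u * a * (T.li u)⁻¹) * (T.li v)⁻¹) := by group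
    _ = a * (T.li v * a * (T.li v)⁻¹ * (T.li v * T.sec a u * (T.li v)⁻¹)) := by rw [hu]; group
    _ = a * a * T.sec a v * (T.sec a u * pw T.z (polar ⇑qm v (T.X a u))) := by rw [hv, hc]; group
    _ = _ := by rw [h.sq, one_mul]; group

theorem sec_congr {u v : V8} (huv : T.X a u = T.X a v) : T.sec a u = T.sec a v := by
  have hd : T.X a (u + v) = 0 := by rw [T.X_add, huv, ZModModule.add_self]
  have e : u = v + (u + v) := by rw [add_comm u v, ← add_assoc, ZModModule.add_self, zero_add]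
  rw [e, h.sec_add, h.sec_eq_one hd, one_mul, ← h.polar_adj, hd, pl_zero_left, pw_zero, mul_one]

theorem sec_natural {g : G} (hg : g * T.z = T.z * g) (hga : g * a * g⁻¹ = a) (v : V8) :
    g * T.sec a v * g⁻¹ = T.sec a (ap (T.ρ g) v) := by
  conv_rhs => rw [← T.c_li v, ← T.ρ_conj g hg _ (T.li_mem v),
    ← h.sec_eq (T.data.norm g hg _ (T.li_mem v))]
  rw [Wk.sec]
  calc g * (a * (T.li v * a * (T.li v)⁻¹)) * g⁻¹
      = (g * a * g⁻¹) * ((g * T.li v * g⁻¹) * (g * a * g⁻¹) * (g * T.li v * g⁻¹)⁻¹) := by group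
    _ = _ := by rw [hga]

theorem sec_ne {v : V8} (hv : T.X a v ≠ 0) : T.sec a v ≠ 1 := fun e =>
  hv (by rw [← h.c_sec, e, T.c_one])

theorem mem_X_range {v : V8} (hv : ∀ u, T.X a u = 0 → polar ⇑qm u v = 0) : ∃ p, T.X a p = v := by
  by_contra hno
  obtain ⟨x, hx, hxv⟩ := exists_fix_polar_ne nd_qm (g := T.ρ a) (v := v) (by
    intro hm
    rw [← range_gm] at hm
    obtain ⟨p, hp⟩ := hm
    exact hno ⟨p, hp⟩)
  exact hxv (hv x (T.X_eq_zero.2 hx))

/-- Lifts. -/
theorem exists_lift {ω : IsoGrp qm} (hω : ω ∈ Cfsg.Omega (ZMod 2) ⇑qm)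
    (hc : ω * T.ρ a = T.ρ a * ω) :
    ∃ g : G, g * T.z = T.z * g ∧ g * a * g⁻¹ = a ∧ T.ρ g = ω := by
  obtain ⟨g, hg, rfl⟩ := T.ρ_surj ω hω
  have hgi : g⁻¹ * T.z = T.z * g⁻¹ := (Commute.inv_left hg).eq
  set b := g * a * g⁻¹ with hb
  have hbz : b * T.z = T.z * b :=
    ((show Commute g T.z from hg).mul_left h.comm).mul_left (Commute.inv_left hg) |>.eq
  have hρb : T.ρ b = T.ρ a := by
    rw [hb, T.ρ_mul _ _ (((show Commute g T.z from hg).mul_left h.comm).eq) hgi,
      T.ρ_mul _ _ hg h.comm, T.ρ_inv hg, hc, mul_inv_cancel_right]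
  have habz : a * b * T.z = T.z * (a * b) := ((show Commute a T.z from h.comm).mul_left hbz).eq
  have hq : a * b ∈ T.Q := by
    rw [← T.ρ_ker _ habz, T.ρ_mul _ _ h.comm hbz, hρb, h.ρ_sq]
  set q := a * b with hqdef
  have hbq : b = a * q := by rw [hqdef, ← mul_assoc, h.sq, one_mul]
  have hcb : T.Cj b := h.cj.conj g
  have hnb : ¬ T.Cj (b * T.z) := by
    rintro hcj
    refine h.not_cj' ?_
    have := hcj.conj g⁻¹
    rwa [show g⁻¹ * (b * T.z) * g⁻¹⁻¹ = a * (g⁻¹ * T.z * g) by rw [hb]; group,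
      show g⁻¹ * T.z * g = T.z by rw [hgi, inv_mul_cancel_right]] at this
  -- the commutator space contains `c q`
  have hinv : a * q * a⁻¹ = q⁻¹ := by
    rw [hqdef, mul_inv_rev, hcb.inv, h.inv, ← mul_assoc a a b, h.sq, one_mul]
  have hfix : T.X a (T.c q) = 0 := by
    rw [T.X_eq_zero, ← T.ρ_conj a h.comm q hq, hinv, T.c_inv hq]
  obtain ⟨v, hv⟩ := h.mem_X_range (v := T.c q) (fun u hu => by
    rcases bit_cases (polar ⇑qm u (T.c q)) with e | e
    · exact e
    exfalso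
    have hpa := h.commute_of_fix (T.li_mem u) (by rw [T.c_li]; exact hu)
    refine hnb ?_
    have hpq : T.li u * q * (T.li u)⁻¹ = q * T.z := by
      rw [mul_inv_eq_iff_eq_mul, mul_assoc q T.z, ← T.li_z u, T.comm hq (T.li_mem u), T.c_li,
        pl_comm, e, pw_one, mul_assoc q (T.li u)]
    have := hcb.conj (T.li u)
    rwa [show T.li u * b * (T.li u)⁻¹ = b * T.z by
      rw [hbq]
      calc T.li u * (a * q) * (T.li u)⁻¹ = (T.li u * a) * q * (T.li u)⁻¹ := by group
        _ = a * (T.li u * q * (T.li u)⁻¹) := by rw [hpa]; group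
        _ = _ := by rw [hpq]; group] at this)
  have hs : T.c (T.sec a v) = T.c q := by rw [h.c_sec, hv]
  rcases T.eq_of_c (h.sec_mem v) hq hs with e | e
  · have hba : b = T.li v * a * (T.li v)⁻¹ := by
      rw [hbq, e, Wk.sec, ← mul_assoc, h.sq, one_mul]
    have hli : (T.li v)⁻¹ * T.z = T.z * (T.li v)⁻¹ := (Commute.inv_left (T.li_z v)).eq
    refine ⟨(T.li v)⁻¹ * g, ((show Commute _ T.z from hli).mul_left hg).eq, ?_, ?_⟩
    · calc (T.li v)⁻¹ * g * a * ((T.li v)⁻¹ * g)⁻¹ = (T.li v)⁻¹ * b * T.li v := by rw [hb]; group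
        _ = a := by rw [hba]; group
    · rw [T.ρ_mul _ _ hli hg, T.ρ_Q (inv_mem (T.li_mem v)), one_mul]
  · exfalso
    refine hnb ?_
    rw [hbq, e, show a * (T.sec a v * T.z) * T.z = a * T.sec a v * (T.z * T.z) by group, T.z_sq, mul_one]
    exact h.cj_a_sec v

/-- The data at `a`. -/
theorem exists_pair : ∃ T' : Wk G, T'.z = a ∧ NPair T' T.z ∧ ∀ x, T'.Cj x ↔ T.Cj x := by
  obtain ⟨g, hg⟩ := h.cj
  refine ⟨T.conj g, hg, ⟨(T.Cj_conj g).2 ⟨1, by group⟩, ?_, ?_, ?_⟩, fun x => T.Cj_conj g⟩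
  · rw [T.conj_z, hg, h.comm]
  · rw [T.conj_z, hg]; exact h.ne.symm
  · rw [T.Cj_conj, T.conj_z, hg]; exact h.not_cj'

end NPair

end Cfsg.Agent.CoOneUniq
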