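/-
The two radicals at a pair of commuting conjugates (helper9).

* `Pr T T'` : the data at both;  `Pr.exists_vec` : the shape of the common elements
* `Pr.meet_polar` : two of them;  `Pr.commutator_rule` : the commutators between the two sides
-/
import Cfsg.Agent.Lib.CoOneUniq.WcPair

set_option autoImplicit false
set_option linter.unusedSectionVars false

namespace Cfsg.Agent.CoOneUniq

open Cfsg.Agent.CoType Cfsg.Agent.Orth
open QuadraticMap (polar)
open scoped commutatorElement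

variable {G : Type*} [Group G]

/-- The data at both involutions. -/
structure Pr (T T' : Wk G) : Prop where
  left : NPair T T'.z
  right : NPair T' T.z
  cj : ∀ x, T'.Cj x ↔ T.Cj x

theorem NPair.exists_pr {T : Wk G} {a : G} (h : NPair T a) : ∃ T', T'.z = a ∧ Pr T T' := by
  obtain ⟨T', rfl, h', hcj⟩ := h.exists_pair
  exact ⟨T', rfl, h, h', hcj⟩

namespace Pr

variable {T T' : Wk G} (P : Pr T T')

include P

theorem symm : Pr T' T := ⟨P.right, P.left, fun x => (P.cj x).symm⟩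

theorem sec_notMem {v : V8} (hv : T.X T'.z v ≠ 0) : T.sec T'.z v ∉ T'.Q := by
  intro hm
  refine P.left.sec_ne hv ?_
  have hb : T.li v * T'.z * (T.li v)⁻¹ ∈ T'.Q := by
    have := mul_mem T'.data.z_mem hm
    rwa [Wk.sec, ← mul_assoc, P.left.sq, one_mul] at this
  rw [Wk.sec, Wk.Cj.eq_z ((P.cj _).2 (P.left.cj.conj _)) hb, P.left.sq]

variable {f : G}

theorem meet_comm (hf : f ∈ T.Q) (hf' : f ∈ T'.Q) : f * T'.z = T'.z * f := T'.Qz hf'

/-- An element of both radicals commutes with the centralisers of the other involution in them. -/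
theorem meet_cent (hf : f ∈ T.Q) (hf' : f ∈ T'.Q) {d : G} (hd : d ∈ T.Q) (hda : d * T'.z = T'.z * d) :
    d * f = f * d := by
  rw [← commutatorElement_eq_one_iff_mul_comm]
  rcases T.data.comm d hd f hf with e | e
  · exact e
  · refine absurd ?_ P.right.notMem
    rw [← e, commutatorElement_def]
    exact mul_mem (T'.data.norm d hda f hf') (inv_mem hf')

theorem exists_vec (hf : f ∈ T.Q) (hf' : f ∈ T'.Q) (hne : f ≠ 1) :
    ∃ v, T.X T'.z v ≠ 0 ∧ f = T.sec T'.z v * T.z := by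
  obtain ⟨v, hv⟩ := P.left.mem_X_range (v := T.c f) (fun u hu => by
    have h := P.meet_cent hf hf' (T.li_mem u) (P.left.commute_of_fix (T.li_mem u) (by rw [T.c_li]; exact hu))
    have := (T.commute_iff (T.li_mem u) hf).1 h
    rwa [T.c_li] at this)
  have hz : T.z ∉ T'.Q := P.right.notMem
  rcases T.eq_of_c (P.left.sec_mem v) hf (by rw [P.left.c_sec, hv]) with e | e
  · exfalso
    by_cases h0 : T.X T'.z v = 0
    · exact hne (by rw [e, P.left.sec_eq_one h0])
    · exact P.sec_notMem h0 (e ▸ hf')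
  · refine ⟨v, fun h0 => hz ?_, e⟩
    rwa [e, P.left.sec_eq_one h0, one_mul] at hf'

theorem meet_sq (hf : f ∈ T.Q) (hf' : f ∈ T'.Q) : f * f = 1 := by
  by_cases hne : f = 1
  · rw [hne, one_mul]
  obtain ⟨v, -, rfl⟩ := P.exists_vec hf hf' hne
  calc T.sec T'.z v * T.z * (T.sec T'.z v * T.z) = T.sec T'.z v * (T.z * T.sec T'.z v) * T.z := by group
    _ = T.sec T'.z v * T.sec T'.z v * (T.z * T.z) := by rw [← P.left.sec_z]; group
    _ = 1 := by rw [P.left.sec_sq, T.z_sq, one_mul]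

theorem meet_inv (hf : f ∈ T.Q) (hf' : f ∈ T'.Q) : f⁻¹ = f :=
  inv_eq_of_mul_eq_one_right (P.meet_sq hf hf')

theorem c_meet {v : V8} : T.c (T.sec T'.z v * T.z) = T.X T'.z v := by
  rw [T.c_mul _ (P.left.sec_mem v) _ T.data.z_mem, T.c_z, add_zero, P.left.c_sec]

/-- Two distinct common elements. -/
theorem meet_polar {u v : V8} (hf : T.sec T'.z u * T.z ∈ T'.Q) (hg : T.sec T'.z v * T.z ∈ T'.Q)
    (hne : T.sec T'.z u * T.z ≠ T.sec T'.z v * T.z) : polar ⇑qm u (T.X T'.z v) = 1 := by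
  set f := T.sec T'.z u * T.z with hfdef
  set g := T.sec T'.z v * T.z with hgdef
  have hfQ : f ∈ T.Q := mul_mem (P.left.sec_mem u) T.data.z_mem
  have hgQ : g ∈ T.Q := mul_mem (P.left.sec_mem v) T.data.z_mem
  have hne1 : f * g ≠ 1 := fun e => hne (by
    rw [eq_inv_of_mul_eq_one_left e, P.meet_inv hgQ hg])
  obtain ⟨w, -, hw⟩ := P.exists_vec (mul_mem hfQ hgQ) (mul_mem hf hg) hne1
  have hfg : f * g = T.sec T'.z u * T.sec T'.z v := by
    rw [hfdef, hgdef]
    calc T.sec T'.z u * T.z * (T.sec T'.z v * T.z) = T.sec T'.z u * (T.z * T.sec T'.z v) * T.z := by group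
      _ = T.sec T'.z u * T.sec T'.z v * (T.z * T.z) := by rw [← P.left.sec_z]; group
      _ = _ := by rw [T.z_sq, mul_one]
  have hX : T.X T'.z w = T.X T'.z (v + u) := by
    rw [← P.c_meet (v := w), ← hw, hfg, T.c_mul _ (P.left.sec_mem u) _ (P.left.sec_mem v),
      P.left.c_sec, P.left.c_sec, T.X_add, add_comm]
  rw [hfg, P.left.sec_congr hX, P.left.sec_add, mul_assoc _ _ T.z] at hw
  have h1 : pw T.z (polar ⇑qm u (T.X T'.z v)) * T.z = 1 := left_eq_mul.1 hw
  rcases bit_cases (polar ⇑qm u (T.X T'.z v)) with e | e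
  · rw [e, pw_zero, one_mul] at h1; exact absurd h1 T.z_ne
  · exact e

/-- Elements of the other radical centralising `z` centralise the common elements. -/
theorem meet_cent' {e : G} (he : e ∈ T'.Q) (hez : e * T.z = T.z * e) (hf : f ∈ T.Q) (hf' : f ∈ T'.Q) :
    e * f = f * e := P.symm.meet_cent hf' hf he hez

theorem comm_mem {e d : G} (he : e ∈ T'.Q) (hez : e * T.z = T.z * e) (hd : d ∈ T.Q)
    (hda : d * T'.z = T'.z * d) : e * d * e⁻¹ * d⁻¹ ∈ T.Q ∧ e * d * e⁻¹ * d⁻¹ ∈ T'.Q := by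
  refine ⟨mul_mem (T.data.norm e hez d hd) (inv_mem hd), ?_⟩
  have := mul_mem he (T'.data.norm d hda _ (inv_mem he))
  simpa [mul_assoc] using this

theorem commutator_rule_one {e : G} (he : e ∈ T'.Q) (hez : e * T.z = T.z * e) {x v : V8}
    (hv : T.X T'.z v ≠ 0) (hf : e * T.sec T'.z x * e⁻¹ * (T.sec T'.z x)⁻¹ = T.sec T'.z v * T.z) :
    polar ⇑qm x (T.X T'.z v) = 1 := by
  set d := ap (T.ρ e) x + x with hd
  have hx : ap (T.ρ e) x = d + x := by rw [hd, add_assoc, ZModModule.add_self, add_zero]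
  rw [P.left.sec_natural hez (by rw [T'.Qz he, mul_inv_cancel_right]), hx, P.left.sec_add,
    P.left.sec_inv] at hf
  have hcommz : pw T.z (polar ⇑qm x (T.X T'.z d)) * T.sec T'.z x =
      T.sec T'.z x * pw T.z (polar ⇑qm x (T.X T'.z d)) :=
    (T.pw_central (P.left.sec_z x) _).symm
  have key : T.sec T'.z d * pw T.z (polar ⇑qm x (T.X T'.z d)) = T.sec T'.z v * T.z := by
    rw [← hf, P.left.sec_comm x d, mul_assoc _ _ (T.sec T'.z x), hcommz,
      mul_assoc (T.sec T'.z d), ← mul_assoc (T.sec T'.z x) (T.sec T'.z x), P.left.sec_sq, one_mul]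
  have hX : T.X T'.z d = T.X T'.z v := by
    have := congrArg T.c key
    rwa [T.c_mul _ (P.left.sec_mem d) _ (T.pw_mem _), T.c_pw, add_zero, P.left.c_sec, P.c_meet] at this
  rw [P.left.sec_congr hX, mul_left_cancel_iff, hX] at key
  rcases bit_cases (polar ⇑qm x (T.X T'.z v)) with e0 | e0
  · rw [e0, pw_zero] at key; exact absurd key.symm T.z_ne
  · exact e0

theorem sec_c_mem {x : V8} : T.sec T'.z x ∈ T.Q ∧ T.sec T'.z x * T'.z = T'.z * T.sec T'.z x :=
  ⟨P.left.sec_mem x, P.left.sec_comm_a x⟩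

/-- A non-trivial commutator: the second common element coincides with it. -/
theorem meet_unique {e : G} (he : e ∈ T'.Q) (hez : e * T.z = T.z * e) {x : V8}
    (hne : e * T.sec T'.z x * e⁻¹ * (T.sec T'.z x)⁻¹ ≠ 1) {g : G} (hg : g ∈ T.Q) (hg' : g ∈ T'.Q)
    (hg1 : g ≠ 1) : g = e * T.sec T'.z x * e⁻¹ * (T.sec T'.z x)⁻¹ := by
  obtain ⟨hQ, hQ'⟩ := P.comm_mem he hez P.sec_c_mem.1 P.sec_c_mem.2
  obtain ⟨v, hv, hf⟩ := P.exists_vec hQ hQ' hne
  obtain ⟨w, hw, rfl⟩ := P.exists_vec hg hg' hg1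
  by_contra hgf
  have h1 : polar ⇑qm w (T.X T'.z v) = 1 :=
    P.meet_polar hg' (hf ▸ hQ') (fun e0 => hgf (e0.trans hf.symm))
  have hex : e * T.sec T'.z (w + x) * e⁻¹ * (T.sec T'.z (w + x))⁻¹ = T.sec T'.z v * T.z := by
    rw [← hf, P.left.sec_add]
    have h2 := P.meet_cent' he hez hg hg'
    set p := pw T.z (polar ⇑qm x (T.X T'.z w))
    have hp : e * p = p * e := T.pw_central hez _
    have hz : e * T.z = T.z * e := hez
    have hw' : e * T.sec T'.z w = T.sec T'.z w * e := by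
      calc e * T.sec T'.z w = e * (T.sec T'.z w * T.z) * T.z := by
            rw [mul_assoc e, mul_assoc _ T.z T.z, T.z_sq, mul_one]
        _ = T.sec T'.z w * T.z * (e * T.z) := by rw [h2]; group
        _ = T.sec T'.z w * (T.z * T.z) * e := by rw [hz]; group
        _ = _ := by rw [T.z_sq, mul_one]
    have hwp : Commute e (T.sec T'.z w * p) := (show Commute e _ from hw').mul_right hp
    rw [mul_assoc (T.sec T'.z x) _ p]
    calc e * (T.sec T'.z x * (T.sec T'.z w * p)) * e⁻¹ * (T.sec T'.z x * (T.sec T'.z w * p))⁻¹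
        = e * T.sec T'.z x * ((T.sec T'.z w * p) * e⁻¹) * (T.sec T'.z w * p)⁻¹ * (T.sec T'.z x)⁻¹ := by
          group
      _ = e * T.sec T'.z x * (e⁻¹ * (T.sec T'.z w * p)) * (T.sec T'.z w * p)⁻¹ * (T.sec T'.z x)⁻¹ := by
          rw [(hwp.inv_left).eq]
      _ = _ := by group
  have h3 := P.commutator_rule_one he hez hv hf
  have h4 := P.commutator_rule_one he hez hv hex
  rw [pl_add_left, h3, h1] at h4
  exact zero_ne_one h4

end Pr

end Cfsg.Agent.CoOneUniq
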