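/-
The commutator space of the image at a pair of commuting conjugates is never a line (helper9).

* `Ln` : a commutator space of dimension two, in dual coordinates;  `fix_fixed` : isometries fixing
  the fixed space
* `Four` : vectors orthogonal to the line and its duals;  `Adm` : transvection-like images from the
  other radical;  `Full.false`
* `Pr.finrank_eq_four` : the conclusion
-/
import Cfsg.Agent.Lib.CoOneUniq.WcMeet

set_option autoImplicit false
set_option linter.unusedSectionVars false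

namespace Cfsg.Agent.CoOneUniq

open Cfsg.Agent.CoType Cfsg.Agent.Orth
open QuadraticMap (polar)

variable {G : Type*} [Group G]

theorem eich2 {u w : V8} (hu : qm u = 0) (hw : polar ⇑qm u w = 0) (v : V8) :
    ap (eich qm u w) v = v + polar ⇑qm u v • w + (polar ⇑qm w v + qm w * polar ⇑qm u v) • u := by
  rw [eich_ap hu hw, sub_eq_add_neg, ZModModule.neg_eq_self]

theorem eich_omega (u w : V8) : eich qm u w ∈ Cfsg.Omega (ZMod 2) ⇑qm := by
  rw [omega_eq_eichGen good_qm (by simp) (Or.inr (by simp))]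
  exact eich_mem_eichGen _ _

theorem plc (x y : V8) : polar ⇑qm x y = polar ⇑qm y x := pl_comm (Q := qm) x y

theorem polar_self_v (x : V8) : polar ⇑qm x x = 0 := by
  rw [pl_self, show (2 : ZMod 2) = 0 by decide, zero_mul]

theorem sep_v {x : V8} (hx : x ≠ 0) : ∃ y, polar ⇑qm x y = 1 := by
  obtain ⟨y, hy⟩ := Orth.exists_polar_ne nd_qm hx
  exact ⟨y, (bit_cases _).resolve_left hy⟩

theorem eq_of_polar {a b : V8} (h : ∀ v, polar ⇑qm a v = polar ⇑qm b v) : a = b := by
  by_contra hne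
  obtain ⟨y, hy⟩ := sep_v (x := a + b) (fun e => hne (add_eq_zero_v e))
  rw [pl_add_left, h, ZModModule.add_self] at hy
  exact zero_ne_one hy

theorem card_ker_gm (ρ : IsoGrp qm) :
    Nat.card (LinearMap.ker (gm ρ)) = 2 ^ (8 - Module.finrank (ZMod 2) (resSpace ρ)) := by
  have h : Module.finrank (ZMod 2) (LinearMap.range (gm ρ)) +
      Module.finrank (ZMod 2) (LinearMap.ker (gm ρ)) = 8 := by
    rw [LinearMap.finrank_range_add_finrank_ker]
    simp [Module.finrank_fintype_fun_eq_card]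
  rw [Module.natCard_eq_pow_finrank (K := ZMod 2), Nat.card_zmod, ← range_gm]
  congr 1
  exact Nat.eq_sub_of_add_eq' h

namespace Wk

variable (T : Wk G)

theorem X_apply_gm (g : G) (v : V8) : gm (T.ρ g) v = T.X g v := rfl

theorem comm_iff_X {g : G} {ω : IsoGrp qm} (h : ∀ v, T.X g (ap ω v) = ap ω (T.X g v)) :
    ω * T.ρ g = T.ρ g * ω := by
  refine ext_ap fun v => ?_
  have e := h v
  rw [X, X, map_add (ap ω)] at e
  rw [ap_mul, ap_mul]
  exact (add_right_cancel e).symm

end Wk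

/-- The commutator space is a line with dual vectors `x`, `y`. -/
structure Ln (T T' : Wk G) (x y : V8) : Prop where
  pr : Pr T T'
  dual : polar ⇑qm x (T.X T'.z y) = 1
  form : ∀ v, T.X T'.z v =
    polar ⇑qm v (T.X T'.z y) • T.X T'.z x + polar ⇑qm v (T.X T'.z x) • T.X T'.z y

namespace Ln

variable {T T' : Wk G} {x y : V8} (L : Ln T T' x y)

include L

theorem swap : Ln T T' y x :=
  ⟨L.pr, by rw [L.pr.left.polar_X_comm, L.dual], fun v => by rw [L.form v, add_comm]⟩

theorem dual' : polar ⇑qm y (T.X T'.z x) = 1 := L.swap.dual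
theorem xx : polar ⇑qm x (T.X T'.z x) = 0 := L.pr.left.polar_self x
theorem yy : polar ⇑qm y (T.X T'.z y) = 0 := L.pr.left.polar_self y

theorem Xx_ne : T.X T'.z x ≠ 0 := fun e => by
  have := L.dual'
  rw [e, pl_zero_right] at this
  exact zero_ne_one this

theorem mem_fixed {v : V8} : T.X T'.z v = 0 ↔
    polar ⇑qm v (T.X T'.z x) = 0 ∧ polar ⇑qm v (T.X T'.z y) = 0 := by
  constructor
  · intro h
    constructor <;> rw [← L.pr.left.polar_adj, h, pl_zero_left]
  · rintro ⟨h1, h2⟩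
    rw [L.form v, h1, h2, zero_smul, zero_smul, add_zero]

theorem decomp (v : V8) : ∃ u, T.X T'.z u = 0 ∧
    v = u + (polar ⇑qm v (T.X T'.z y) • x + polar ⇑qm v (T.X T'.z x) • y) := by
  refine ⟨v + (polar ⇑qm v (T.X T'.z y) • x + polar ⇑qm v (T.X T'.z x) • y), L.mem_fixed.2 ⟨?_, ?_⟩,
    by rw [add_assoc, ZModModule.add_self, add_zero]⟩ <;>
  · simp only [pl_add_left, pl_smul_left, L.dual, L.dual', L.xx, L.yy, mul_zero, mul_one, add_zero,
      zero_add, ZModModule.add_self]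

theorem polar_line (v : V8) (α β : ZMod 2) :
    polar ⇑qm v (α • T.X T'.z x + β • T.X T'.z y) =
      α * polar ⇑qm v (T.X T'.z x) + β * polar ⇑qm v (T.X T'.z y) := by
  rw [pl_add_right, pl_smul_right, pl_smul_right]

theorem exists_line {v : V8} (h : ∀ u, T.X T'.z u = 0 → polar ⇑qm u v = 0) :
    ∃ α β : ZMod 2, v = α • T.X T'.z x + β • T.X T'.z y := by
  obtain ⟨p, rfl⟩ := L.pr.left.mem_X_range h
  exact ⟨_, _, L.form p⟩

/-- An isometry fixing the fixed space of the image acts as it or trivially. -/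
theorem fix_fixed {e : G} (he : e ∈ T'.Q) (hez : e * T.z = T.z * e)
    (hfix : ∀ u, T.X T'.z u = 0 → ap (T.ρ e) u = u) : e ∈ T.Q ∨ e * T'.z ∈ T.Q := by
  have hmove : ∀ v, ∃ α β : ZMod 2, T.X e v = α • T.X T'.z x + β • T.X T'.z y := fun v => by
    refine L.exists_line fun u hu => ?_
    rw [Wk.X, pl_add_right]
    conv_lhs => rw [← hfix u hu, polar_ap, hfix u hu]
    exact ZModModule.add_self _
  have hq : ∀ v, polar ⇑qm v (T.X e v) = 0 := fun v => by
    obtain ⟨α, β, h⟩ := hmove v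
    rw [← show qm (T.X e v) = polar ⇑qm v (T.X e v) from inv_sing v, h, Q_add, Q_smul, Q_smul,
      L.pr.left.qm_X, L.pr.left.qm_X, pl_smul_left, pl_smul_right, L.pr.left.polar_X_X]
    ring
  obtain ⟨α, β, hx⟩ := hmove x
  obtain ⟨γ, δ, hy⟩ := hmove y
  have hβ : β = 0 := by
    have := hq x
    rw [hx, L.polar_line, L.xx, L.dual, mul_zero, zero_add, mul_one] at this
    exact this
  have hγ : γ = 0 := by
    have := hq y
    rw [hy, L.polar_line, L.yy, L.dual', mul_zero, add_zero, mul_one] at this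
    exact this
  subst hβ hγ
  rw [zero_smul, add_zero] at hx
  rw [zero_smul, zero_add] at hy
  have hex : ap (T.ρ e) x = x + α • T.X T'.z x := by
    rw [← hx, Wk.X, add_left_comm, ZModModule.add_self, add_zero]
  have hey : ap (T.ρ e) y = y + δ • T.X T'.z y := by
    rw [← hy, Wk.X, add_left_comm, ZModModule.add_self, add_zero]
  have hαδ : δ = α := by
    have := polar_ap (T.ρ e) x y
    rw [hex, hey, pl_add_left, pl_add_right, pl_add_right, pl_smul_left, pl_smul_left, pl_smul_right,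
      pl_smul_right, L.dual, L.pr.left.polar_X_X, plc (T.X T'.z x), L.dual'] at this
    have key : ∀ a b p : ZMod 2, p + b * 1 + (a * 1 + a * (b * 0)) = p → b = a := by decide
    exact key _ _ _ this
  subst hαδ
  have hact : ∀ v, T.X e v = δ • T.X T'.z v := by
    intro v
    obtain ⟨u, hu, hv⟩ := L.decomp v
    have hu' : T.X e u = 0 := T.X_eq_zero.2 (hfix u hu)
    rw [hv]
    simp only [T.X_add, hu, hu', zero_add]
    have hsm : ∀ (g : G) (c : ZMod 2) (w : V8), T.X g (c • w) = c • T.X g w := fun g c w => by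
      rw [← T.X_apply_gm, map_smul]; rfl
    rw [hsm, hsm, hsm, hsm, hx, hy, smul_add, smul_comm δ, smul_comm δ]
  rcases bit_cases δ with rfl | rfl
  · left
    refine (T.ρ_ker e hez).1 (ext_ap fun v => ?_)
    rw [ap_one]
    exact T.X_eq_zero.1 (by rw [hact, zero_smul])
  · right
    have hc : e * T'.z * T.z = T.z * (e * T'.z) :=
      ((show Commute e T.z from hez).mul_left L.pr.left.comm).eq
    refine (T.ρ_ker _ hc).1 ?_
    rw [T.ρ_mul _ _ hez L.pr.left.comm, show T.ρ e = T.ρ T'.z from ext_ap fun v => by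
      have := hact v
      rw [one_smul, Wk.X, Wk.X] at this
      exact add_right_cancel this, L.pr.left.ρ_sq]

theorem fix_range {e : G} (hfix : ∀ u, T.X T'.z u = 0 → ap (T.ρ e) u = u) (v : V8) :
    ap (T.ρ e) (T.X T'.z v) = T.X T'.z v := hfix _ (L.pr.left.X_X v)

/-- Vectors orthogonal to the line and the two duals. -/
def Four (T T' : Wk G) (x y n : V8) : Prop :=
  polar ⇑qm n (T.X T'.z x) = 0 ∧ polar ⇑qm n (T.X T'.z y) = 0 ∧ polar ⇑qm n x = 0 ∧ polar ⇑qm n y = 0

theorem four_fixed {n : V8} (h : Four T T' x y n) : T.X T'.z n = 0 := L.mem_fixed.2 ⟨h.1, h.2.1⟩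

theorem four_swap {n : V8} (h : Four T T' x y n) : Four T T' y x n := ⟨h.2.1, h.1, h.2.2.2, h.2.2.1⟩

theorem four_zero : Four T T' x y 0 := by simp [Four, pl_zero_left]

theorem four_add {m n : V8} (hm : Four T T' x y m) (hn : Four T T' x y n) : Four T T' x y (m + n) := by
  obtain ⟨a, b, c, d⟩ := hm
  obtain ⟨a', b', c', d'⟩ := hn
  simp [Four, pl_add_left, a, b, c, d, a', b', c', d']

/-- The projection on `Four`. -/
theorem four_proj (b : V8) : ∃ n, Four T T' x y n ∧
    ∀ k, Four T T' x y k → polar ⇑qm k n = polar ⇑qm k b := by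
  set a := T.X T'.z x
  set c := T.X T'.z y
  set γ := polar ⇑qm b a
  set δ := polar ⇑qm b c
  set ε := polar ⇑qm x y
  refine ⟨b + (polar ⇑qm b y + δ * ε) • a + (polar ⇑qm b x + γ * ε) • c + γ • y + δ • x, ⟨?_, ?_, ?_, ?_⟩,
    fun k hk => ?_⟩
  · simp only [pl_add_left, pl_smul_left, a, c, L.pr.left.polar_X_X, L.dual', L.xx, mul_zero, mul_one,
      add_zero]
    exact ZModModule.add_self _
  · simp only [pl_add_left, pl_smul_left, a, c, L.pr.left.polar_X_X, L.dual, L.yy, mul_zero, mul_one,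
      add_zero]
    exact ZModModule.add_self _
  · have h1 : polar ⇑qm a x = 0 := by rw [plc]; exact L.xx
    have h2 : polar ⇑qm c x = 1 := by rw [plc]; exact L.dual
    simp only [pl_add_left, pl_smul_left, h1, h2, polar_self_v, mul_zero, mul_one, add_zero]
    rw [plc y x]
    have key : ∀ p q e : ZMod 2, p + (p + q * e) + q * e = 0 := by decide
    exact key _ _ _
  · have h1 : polar ⇑qm a y = 1 := by rw [plc]; exact L.dual'
    have h2 : polar ⇑qm c y = 0 := by rw [plc]; exact L.yy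
    simp only [pl_add_left, pl_smul_left, h1, h2, polar_self_v, mul_zero, mul_one, add_zero]
    have key : ∀ p q e : ZMod 2, p + (p + q * e) + q * e = 0 := by decide
    exact key _ _ _
  · obtain ⟨k1, k2, k3, k4⟩ := hk
    simp only [pl_add_right, pl_smul_right, a, c, k1, k2, k3, k4, mul_zero, add_zero]

theorem four_sep {k : V8} (hk : Four T T' x y k) (hk0 : k ≠ 0) :
    ∃ v, Four T T' x y v ∧ polar ⇑qm k v = 1 := by
  obtain ⟨b, hb⟩ := sep_v hk0
  obtain ⟨v, hv, hkv⟩ := L.four_proj b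
  exact ⟨v, hv, (hkv k hk).trans hb⟩

theorem exists_pair_perp {n : V8} (hn : Four T T' x y n) (hn0 : n ≠ 0) : ∃ v v', Four T T' x y v ∧
    Four T T' x y v' ∧ polar ⇑qm n v = 0 ∧ polar ⇑qm n v' = 0 ∧ polar ⇑qm v v' = 1 := by
  obtain ⟨a, ha, hna⟩ := L.four_sep hn hn0
  obtain ⟨k, hk0, hk⟩ := exists_mem_orth (Q := qm) ![T.X T'.z x, T.X T'.z y, x, y, n, a] (by simp)
  have hk4 : Four T T' x y k := ⟨by rw [plc]; exact hk 0, by rw [plc]; exact hk 1,
    by rw [plc]; exact hk 2, by rw [plc]; exact hk 3⟩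
  have hnk : polar ⇑qm n k = 0 := hk 4
  have hka : polar ⇑qm k a = 0 := by rw [plc]; exact hk 5
  obtain ⟨v, hv, hkv⟩ := L.four_sep hk4 hk0
  refine ⟨k, v + polar ⇑qm v a • n + polar ⇑qm n v • a, hk4, ?_, hnk, ?_, ?_⟩
  · have hsm : ∀ (c : ZMod 2) {m : V8}, Four T T' x y m → Four T T' x y (c • m) := fun c m hm => by
      rcases bit_cases c with rfl | rfl
      · rw [zero_smul]; exact L.four_zero
      · rw [one_smul]; exact hm
    exact L.four_add (L.four_add hv (hsm _ hn)) (hsm _ ha)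
  · simp only [pl_add_right, pl_smul_right, polar_self_v, hna, mul_zero, add_zero, mul_one,
      ZModModule.add_self]
  · simp only [pl_add_right, pl_smul_right, hkv, hka, plc k n, hnk, mul_zero, add_zero]

theorem exists_singular {n : V8} (hn : Four T T' x y n) (hn0 : n ≠ 0) :
    ∃ s, Four T T' x y s ∧ qm s = 0 ∧ polar ⇑qm n s = 1 := by
  obtain ⟨a, ha, hna⟩ := L.four_sep hn hn0
  obtain ⟨v, v', hv, hv', hnv, hnv', hvv⟩ := L.exists_pair_perp hn hn0
  rcases bit_cases (qm a) with hqa | hqa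
  · exact ⟨a, ha, hqa, hna⟩
  have h3 := Q_add (Q := qm) v v'
  rw [hvv] at h3
  have h4 : polar ⇑qm a (v + v') = polar ⇑qm a v + polar ⇑qm a v' := pl_add_right (Q := qm) a v v'
  have key : ∀ p q r s : ZMod 2, 1 + p + r = 0 ∨ 1 + q + s = 0 ∨ 1 + (p + q + 1) + (r + s) = 0 := by decide
  rcases key (qm v) (qm v') (polar ⇑qm a v) (polar ⇑qm a v') with h | h | h
  · exact ⟨a + v, L.four_add ha hv, by rw [Q_add, hqa, h], by rw [pl_add_right, hna, hnv, add_zero]⟩
  · exact ⟨a + v', L.four_add ha hv', by rw [Q_add, hqa, h], by rw [pl_add_right, hna, hnv', add_zero]⟩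
  · exact ⟨a + (v + v'), L.four_add ha (L.four_add hv hv'), by rw [Q_add, hqa, h3, h4, h],
      by rw [pl_add_right, pl_add_right, hna, hnv, hnv', add_zero, add_zero]⟩

/-- Only the whole space is closed under sums and Eichler transformations. -/
theorem four_top (M : V8 → Prop) (hsub : ∀ m, M m → Four T T' x y m)
    (hadd : ∀ m m', M m → M m' → M (m + m'))
    (heich : ∀ s v, Four T T' x y s → Four T T' x y v → qm s = 0 → polar ⇑qm s v = 0 →
      ∀ m, M m → M (ap (eich qm s v) m))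
    {n : V8} (hn : M n) (hn0 : n ≠ 0) {k : V8} (hk : Four T T' x y k) : M k := by
  obtain ⟨s, hs, hqs, hns⟩ := L.exists_singular (hsub n hn) hn0
  have hs0 : s ≠ 0 := fun e => by rw [e, pl_zero_right] at hns; exact zero_ne_one hns
  have hout : ∀ v, Four T T' x y v → polar ⇑qm s v = 0 →
      M (v + (polar ⇑qm n v + qm v) • s) := by
    intro v hv hsv
    have h := hadd _ _ hn (heich s v hs hv hqs hsv n hn)
    rw [eich2 hqs hsv, plc s n, hns, one_smul, mul_one, add_assoc n v, ← add_assoc n n,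
      ZModModule.add_self, zero_add, plc v n] at h
    exact h
  obtain ⟨v1, v2, hv1, hv2, hs1, hs2, h12⟩ := L.exists_pair_perp hs hs0
  have hMs : M s := by
    have h := hadd _ _ (hadd _ _ (hout v1 hv1 hs1) (hout v2 hv2 hs2))
      (hout (v1 + v2) (L.four_add hv1 hv2) (by rw [pl_add_right, hs1, hs2, add_zero]))
    rw [pl_add_right, Q_add, h12] at h
    have e : v1 + (polar ⇑qm n v1 + qm v1) • s + (v2 + (polar ⇑qm n v2 + qm v2) • s) +
        (v1 + v2 + (polar ⇑qm n v1 + polar ⇑qm n v2 + (qm v1 + qm v2 + 1)) • s) = s := by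
      rw [show v1 + (polar ⇑qm n v1 + qm v1) • s + (v2 + (polar ⇑qm n v2 + qm v2) • s) +
        (v1 + v2 + (polar ⇑qm n v1 + polar ⇑qm n v2 + (qm v1 + qm v2 + 1)) • s) =
        (v1 + v1) + (v2 + v2) + ((polar ⇑qm n v1 + qm v1) + (polar ⇑qm n v2 + qm v2) +
          (polar ⇑qm n v1 + polar ⇑qm n v2 + (qm v1 + qm v2 + 1))) • s by module,
        ZModModule.add_self, ZModModule.add_self, zero_add, zero_add]
      have key : ∀ p q r t : ZMod 2, (p + r) + (q + t) + (p + q + (r + t + 1)) = 1 := by decide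
      rw [key, one_smul]
    rwa [e] at h
  have hperp : ∀ v, Four T T' x y v → polar ⇑qm s v = 0 → M v := fun v hv hsv => by
    have h := hout v hv hsv
    rcases bit_cases (polar ⇑qm n v + qm v) with e | e <;> rw [e] at h
    · rwa [zero_smul, add_zero] at h
    · rw [one_smul] at h
      have := hadd _ _ h hMs
      rwa [add_assoc, ZModModule.add_self, add_zero] at this
  rcases bit_cases (polar ⇑qm s k) with e | e
  · exact hperp k hk e
  · have := hadd _ _ hn (hperp (n + k) (L.four_add (hsub n hn) hk)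
      (by rw [pl_add_right, e, plc s n, hns, ZModModule.add_self]))
    rwa [← add_assoc, ZModModule.add_self, zero_add] at this

end Ln

/-- Both generators of the line come from common elements. -/
structure Full (T T' : Wk G) (x y : V8) : Prop where
  ln : Ln T T' x y
  fx : T.sec T'.z x * T.z ∈ T'.Q
  fy : T.sec T'.z y * T.z ∈ T'.Q

namespace Ln

variable {T T' : Wk G} {x y : V8} (L : Ln T T' x y)

include L

/-- The shear of the line. -/
theorem exists_shear : ∃ h : IsoGrp qm, h ∈ Cfsg.Omega (ZMod 2) ⇑qm ∧ h * T.ρ T'.z = T.ρ T'.z * h ∧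
    ap h (T.X T'.z x) = T.X T'.z x + T.X T'.z y ∧ ap h (T.X T'.z y) = T.X T'.z y ∧
    ∀ v, T.X T'.z v = 0 → ap h v = v + polar ⇑qm y v • T.X T'.z y := by
  set a := T.X T'.z x with ha
  set c := T.X T'.z y with hc
  have hq : qm c = 0 := L.pr.left.qm_X y
  have hcy : polar ⇑qm c y = 0 := by rw [plc]; exact L.yy
  have hca : polar ⇑qm c a = 0 := L.pr.left.polar_X_X y x
  have hcc : polar ⇑qm c c = 0 := L.pr.left.polar_X_X y y
  have h1 : ap (eich qm c y) a = a + c := by
    rw [eich2 hq hcy, hca, zero_smul, add_zero, mul_zero, add_zero, L.dual', one_smul]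
  have h2 : ap (eich qm c y) c = c := by
    rw [eich2 hq hcy, hcc, zero_smul, add_zero, mul_zero, add_zero, L.yy, zero_smul, add_zero]
  refine ⟨eich qm c y, eich_omega _ _, T.comm_iff_X fun v => ?_, h1, h2, fun v hv => ?_⟩
  · have e2 : polar ⇑qm (ap (eich qm c y) v) c = polar ⇑qm v c := by
      have h := polar_ap (eich qm c y) v c
      rwa [h2] at h
    have e1 : polar ⇑qm (ap (eich qm c y) v) a = polar ⇑qm v a + polar ⇑qm v c := by
      have h := polar_ap (eich qm c y) v (a + c)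
      rwa [map_add, h1, h2, add_assoc, ZModModule.add_self, add_zero, pl_add_right (Q := qm) v] at h
    rw [L.form, L.form v, e1, e2, map_add, map_smul, map_smul, h1, h2]
    module
  · rw [eich2 hq hcy, plc c v, (L.mem_fixed.1 hv).2, zero_smul, add_zero, mul_zero, add_zero]

theorem exists_full (hf : T.sec T'.z x * T.z ∈ T'.Q) : Full T T' x y := by
  refine ⟨L, hf, ?_⟩
  obtain ⟨h, hΩ, hc, h1, -, -⟩ := L.exists_shear
  obtain ⟨g, hgz, hga, rfl⟩ := L.pr.left.exists_lift hΩ hc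
  have hga' : g * T'.z = T'.z * g := mul_inv_eq_iff_eq_mul.1 hga
  have hgf : g * (T.sec T'.z x * T.z) * g⁻¹ = T.sec T'.z (ap (T.ρ g) x) * T.z := by
    rw [← L.pr.left.sec_natural hgz hga]
    calc g * (T.sec T'.z x * T.z) * g⁻¹ = g * T.sec T'.z x * (T.z * g⁻¹) := by group
      _ = g * T.sec T'.z x * (g⁻¹ * T.z) := by rw [(show Commute g T.z from hgz).inv_left.eq]
      _ = _ := by group
  have hfQ : T.sec T'.z x * T.z ∈ T.Q := mul_mem (L.pr.left.sec_mem x) T.data.z_mem
  have hm1 := mul_mem hfQ (T.data.norm g hgz _ hfQ)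
  have hm2 := mul_mem hf (T'.data.norm g hga' _ hf)
  have hcf : T.c (T.sec T'.z x * T.z * (g * (T.sec T'.z x * T.z) * g⁻¹)) = T.X T'.z y := by
    rw [T.c_mul _ hfQ _ (T.data.norm g hgz _ hfQ), T.ρ_conj g hgz _ hfQ, L.pr.c_meet, h1, ← add_assoc,
      ZModModule.add_self, zero_add]
  obtain ⟨v, hv, he⟩ := L.pr.exists_vec hm1 hm2 (fun e => L.swap.Xx_ne (by rw [← hcf, e, T.c_one]))
  rw [he, L.pr.c_meet] at hcf
  rwa [he, L.pr.left.sec_congr hcf] at hm2

end Ln

namespace Full

variable {T T' : Wk G} {x y : V8} (L : Full T T' x y)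

include L

theorem swap : Full T T' y x := ⟨L.ln.swap, L.fy, L.fx⟩

theorem fix_line {e : G} (he : e ∈ T'.Q) (hez : e * T.z = T.z * e) :
    ap (T.ρ e) (T.X T'.z x) = T.X T'.z x := by
  have hm : T.sec T'.z x * T.z ∈ T.Q := mul_mem (L.ln.pr.left.sec_mem x) T.data.z_mem
  rw [← L.ln.pr.c_meet, ← T.ρ_conj e hez _ hm, L.ln.pr.meet_cent' he hez hm L.fx, mul_inv_cancel_right]

theorem fix_all {e : G} (he : e ∈ T'.Q) (hez : e * T.z = T.z * e) (v : V8) :
    ap (T.ρ e) (T.X T'.z v) = T.X T'.z v := by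
  rw [L.ln.form v, map_add, map_smul, map_smul, L.fix_line he hez, L.swap.fix_line he hez]

theorem move_fixed {e : G} (he : e ∈ T'.Q) (hez : e * T.z = T.z * e) {u : V8} (hu : T.X T'.z u = 0) :
    ∃ α β : ZMod 2, T.X e u = α • T.X T'.z x + β • T.X T'.z y := by
  refine L.ln.exists_line fun u' hu' => ?_
  have hd := L.ln.pr.left.commute_of_fix (T.li_mem u) (by rw [T.c_li]; exact hu)
  have hd' := L.ln.pr.left.commute_of_fix (T.li_mem u') (by rw [T.c_li]; exact hu')
  obtain ⟨h1, h2⟩ := L.ln.pr.comm_mem he hez (T.li_mem u) hd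
  have h := (T.commute_iff (T.li_mem u') h1).1 (L.ln.pr.meet_cent h1 h2 (T.li_mem u') hd')
  rwa [T.c_mul _ (T.data.norm e hez _ (T.li_mem u)) _ (inv_mem (T.li_mem u)), T.c_inv (T.li_mem u),
    T.ρ_conj e hez _ (T.li_mem u), T.c_li, T.c_li] at h

/-- Images `u ↦ u + ⟨n, u⟩ w` of elements of the other radical. -/
def Adm (T T' : Wk G) (x y w n : V8) : Prop :=
  Ln.Four T T' x y n ∧ ∃ e ∈ T'.Q, e * T.z = T.z * e ∧
    ∀ u, T.X T'.z u = 0 → ap (T.ρ e) u + u = polar ⇑qm n u • w

theorem move_mul {e e' : G} (he : e ∈ T'.Q) (hez : e * T.z = T.z * e) (he' : e' ∈ T'.Q)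
    (he'z : e' * T.z = T.z * e') {u : V8} (hu : T.X T'.z u = 0) :
    ap (T.ρ (e * e')) u + u = (ap (T.ρ e) u + u) + (ap (T.ρ e') u + u) := by
  obtain ⟨α, β, h⟩ := L.move_fixed he' he'z hu
  have hfix : ap (T.ρ e) (ap (T.ρ e') u + u) = ap (T.ρ e') u + u := by
    rw [show ap (T.ρ e') u + u = T.X e' u from rfl, h, map_add, map_smul, map_smul, L.fix_line he hez,
      L.swap.fix_line he hez]
  rw [T.ρ_mul e e' hez he'z, ap_mul]
  rw [map_add] at hfix
  calc ap (T.ρ e) (ap (T.ρ e') u) + u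
      = (ap (T.ρ e) (ap (T.ρ e') u) + ap (T.ρ e) u) + (ap (T.ρ e) u + u) := by
        rw [add_assoc, ← add_assoc (ap (T.ρ e) u), ZModModule.add_self, zero_add]
    _ = _ := by rw [hfix, add_comm]

theorem conj_move {e : G} (he : e ∈ T'.Q) (hez : e * T.z = T.z * e) {h : IsoGrp qm}
    (hΩ : h ∈ Cfsg.Omega (ZMod 2) ⇑qm) (hc : h * T.ρ T'.z = T.ρ T'.z * h) :
    ∃ e' ∈ T'.Q, e' * T.z = T.z * e' ∧ ∀ u, T.X T'.z u = 0 → ∃ u', T.X T'.z u' = 0 ∧ u = ap h u' ∧
      ap (T.ρ e') u + u = ap h (ap (T.ρ e) u' + u') := by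
  obtain ⟨g, hgz, hga, rfl⟩ := L.ln.pr.left.exists_lift hΩ hc
  have hgi : g⁻¹ * T.z = T.z * g⁻¹ := (show Commute g T.z from hgz).inv_left.eq
  have hgez : g * e * T.z = T.z * (g * e) := ((show Commute g T.z from hgz).mul_left hez).eq
  refine ⟨g * e * g⁻¹, T'.data.norm g (mul_inv_eq_iff_eq_mul.1 hga) e he,
    ((show Commute (g * e) T.z from hgez).mul_left hgi).eq, fun u hu => ?_⟩
  refine ⟨ap (T.ρ g)⁻¹ u, ?_, (ap_ap_inv _ _).symm, ?_⟩
  · rw [T.X_eq_zero]
    apply ap_inj (T.ρ g)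
    rw [← ap_mul, hc, ap_mul, ap_ap_inv, T.X_eq_zero.1 hu]
  · rw [T.ρ_mul _ _ hgez hgi, T.ρ_mul _ _ hgz hez, T.ρ_inv hgz, map_add, ap_ap_inv, ap_mul, ap_mul]

theorem adm_add {w : V8} {m n : V8}
    (hm : Adm T T' x y w m) (hn : Adm T T' x y w n) : Adm T T' x y w (m + n) := by
  obtain ⟨hm4, e, he, hez, hem⟩ := hm
  obtain ⟨hn4, e', he', he'z, hen⟩ := hn
  refine ⟨L.ln.four_add hm4 hn4, e * e', mul_mem he he',
    ((show Commute e T.z from hez).mul_left he'z).eq, fun u hu => ?_⟩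
  rw [L.move_mul he hez he' he'z hu, hem u hu, hen u hu, pl_add_left, add_smul]

theorem adm_eich {s v : V8} (hs : Ln.Four T T' x y s) (hv : Ln.Four T T' x y v) (hqs : qm s = 0)
    (hsv : polar ⇑qm s v = 0) {m : V8} (hm : Adm T T' x y (T.X T'.z x) m) :
    Adm T T' x y (T.X T'.z x) (ap (eich qm s v) m) := by
  set h := eich qm s v
  have hfix : ∀ k, polar ⇑qm s k = 0 → polar ⇑qm v k = 0 → ap h k = k := fun k h1 h2 => by
    rw [eich2 hqs hsv, h1, h2]; simp
  have hx := hfix _ hs.1 hv.1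
  have hy := hfix _ hs.2.1 hv.2.1
  have hpol : ∀ w k, ap h k = k → polar ⇑qm (ap h w) k = polar ⇑qm w k := fun w k hk => by
    conv_lhs => rw [← hk, polar_ap]
  have hc : h * T.ρ T'.z = T.ρ T'.z * h := T.comm_iff_X fun w => by
    rw [L.ln.form, L.ln.form w, hpol w _ hx, hpol w _ hy, map_add, map_smul, map_smul, hx, hy]
  obtain ⟨hm4, e, he, hez, hem⟩ := hm
  obtain ⟨e', he', he'z, hmove⟩ := L.conj_move he hez (eich_omega s v) hc
  refine ⟨⟨?_, ?_, ?_, ?_⟩, e', he', he'z, fun u hu => ?_⟩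
  · rw [hpol m _ hx]; exact hm4.1
  · rw [hpol m _ hy]; exact hm4.2.1
  · rw [hpol m _ (hfix x hs.2.2.1 hv.2.2.1)]; exact hm4.2.2.1
  · rw [hpol m _ (hfix y hs.2.2.2 hv.2.2.2)]; exact hm4.2.2.2
  · obtain ⟨u', hu', huu, heq⟩ := hmove u hu
    rw [heq, hem u' hu', map_smul, hx, huu, polar_ap]

theorem adm_transfer {n : V8} (hn : Adm T T' x y (T.X T'.z x) n) : Adm T T' x y (T.X T'.z y) n := by
  obtain ⟨h, hΩ, hc, h1, h2, h3⟩ := L.ln.exists_shear
  obtain ⟨hn4, e, he, hez, hen⟩ := hn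
  obtain ⟨e', he', he'z, hmove⟩ := L.conj_move he hez hΩ hc
  refine ⟨hn4, e * e', mul_mem he he', ((show Commute e T.z from hez).mul_left he'z).eq, fun u hu => ?_⟩
  obtain ⟨u', hu', huu, heq⟩ := hmove u hu
  have hsame : polar ⇑qm n u = polar ⇑qm n u' := by
    rw [huu, h3 u' hu', pl_add_right, pl_smul_right, hn4.2.1, mul_zero, add_zero]
  rw [L.move_mul he hez he' he'z hu, heq, hen u hu, hen u' hu', map_smul, h1, hsame, smul_add, ← add_assoc,
    ZModModule.add_self, zero_add]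

theorem exists_adm {e : G} (he : e ∈ T'.Q) (hez : e * T.z = T.z * e) {u0 : V8}
    (hu0 : T.X T'.z u0 = 0) (h0 : polar ⇑qm x (T.X e u0) = 1) :
    ∃ n, n ≠ 0 ∧ Adm T T' x y (T.X T'.z x) n := by
  obtain ⟨h, hΩ, hc, h1, h2, h3⟩ := L.swap.ln.exists_shear
  obtain ⟨e', he', he'z, hmove⟩ := L.conj_move he hez hΩ hc
  set b := ap (T.ρ e)⁻¹ x + x with hb
  have hbU : T.X T'.z b = 0 := by
    have hpol : ∀ w, ap (T.ρ e) w = w → polar ⇑qm (ap (T.ρ e)⁻¹ x) w = polar ⇑qm x w := fun w hw => by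
      rw [← polar_ap (T.ρ e), ap_ap_inv, hw]
    refine L.ln.mem_fixed.2 ⟨?_, ?_⟩
    · rw [hb, pl_add_left, hpol _ (L.fix_line he hez), ZModModule.add_self]
    · rw [hb, pl_add_left, hpol _ (L.swap.fix_line he hez), ZModModule.add_self]
  obtain ⟨hbx, hby⟩ := L.ln.mem_fixed.1 hbU
  set n := b + polar ⇑qm b y • T.X T'.z x + polar ⇑qm b x • T.X T'.z y with hn
  have hn4 : Ln.Four T T' x y n := by
    have hxa : polar ⇑qm (T.X T'.z x) x = 0 := by rw [plc]; exact L.ln.xx
    have hxc : polar ⇑qm (T.X T'.z y) x = 1 := by rw [plc]; exact L.ln.dual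
    have hya : polar ⇑qm (T.X T'.z x) y = 1 := by rw [plc]; exact L.ln.dual'
    have hyc : polar ⇑qm (T.X T'.z y) y = 0 := by rw [plc]; exact L.ln.yy
    refine ⟨?_, ?_, ?_, ?_⟩ <;>
      simp only [hn, pl_add_left, pl_smul_left, L.ln.pr.left.polar_X_X, hbx, hby, hxa, hxc, hya, hyc,
        mul_zero, mul_one, add_zero, ZModModule.add_self]
  have hnu : ∀ u, T.X T'.z u = 0 → polar ⇑qm n u = polar ⇑qm x (T.X e u) := by
    intro u hu
    obtain ⟨hux, huy⟩ := L.ln.mem_fixed.1 hu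
    rw [hn, pl_add_left, pl_add_left, pl_smul_left, pl_smul_left, plc (T.X T'.z x) u,
      plc (T.X T'.z y) u, hux, huy, mul_zero, mul_zero, add_zero, add_zero, hb, pl_add_left,
      Wk.X, pl_add_right]
    congr 1
    rw [← polar_ap (T.ρ e), ap_ap_inv]
  refine ⟨n, fun e0 => ?_, hn4, e * e', mul_mem he he', ((show Commute e T.z from hez).mul_left he'z).eq,
    fun u hu => ?_⟩
  · have := hnu u0 hu0
    rw [e0, pl_zero_left, h0] at this
    exact zero_ne_one this
  · obtain ⟨u', hu', huu, heq⟩ := hmove u hu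
    rw [L.move_mul he hez he' he'z hu, heq, hnu u hu]
    obtain ⟨α, β, hα⟩ := L.move_fixed he hez hu'
    have hsame : ap (T.ρ e) u + u = T.X e u' := by
      show T.X e u = _
      rw [huu, h3 u' hu', T.X_add, ← T.X_apply_gm, ← T.X_apply_gm e (_ • _), map_smul, T.X_apply_gm,
        T.X_apply_gm, T.X_eq_zero.2 (L.fix_line he hez), smul_zero, add_zero]
    have hxu : T.X e u = T.X e u' := hsame
    rw [hsame, show ap (T.ρ e) u' + u' = T.X e u' from rfl, hxu, hα, map_add, map_smul, map_smul, h1, h2,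
      L.ln.polar_line, L.ln.xx, L.ln.dual, mul_zero, zero_add, mul_one]
    have key : ∀ (a b : ZMod 2) (p q : V8), a • p + b • q + (a • p + b • (q + p)) = b • p := by
      intro a b p q
      rw [smul_add, ← add_assoc (a • p) (b • q) (b • p), ← add_assoc, ZModModule.add_self, zero_add]
    exact key _ _ _ _

theorem exists_move : ∃ e ∈ T'.Q, e * T.z = T.z * e ∧ ∃ u, T.X T'.z u = 0 ∧ T.X e u ≠ 0 := by
  classical
  by_contra hno
  push Not at hno
  set R := T.sec T'.z x * T.z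
  set S := T.sec T'.z y * T.z
  have hz : ∀ v, T'.X T.z v = 0 → v ∈ ({0, T'.c R, T'.c S, T'.c (R * S)} : Finset V8) := by
    intro v hv
    have hez := L.ln.pr.right.commute_of_fix (T'.li_mem v) (by rw [T'.c_li]; exact hv)
    have hm : ∃ f, f ∈ T.Q ∧ f ∈ T'.Q ∧ T'.c f = v := by
      rcases L.ln.fix_fixed (T'.li_mem v) hez
          (fun u hu => T.X_eq_zero.1 (hno _ (T'.li_mem v) hez u hu)) with h | h
      · exact ⟨_, h, T'.li_mem v, T'.c_li v⟩
      · refine ⟨_, h, mul_mem (T'.li_mem v) T'.data.z_mem, ?_⟩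
        rw [T'.c_mul _ (T'.li_mem v) _ T'.data.z_mem, T'.c_z, add_zero, T'.c_li]
    obtain ⟨f, hf, hf', rfl⟩ := hm
    by_cases hf1 : f = 1
    · simp [hf1, T'.c_one]
    obtain ⟨p, hp, rfl⟩ := L.ln.pr.exists_vec hf hf' hf1
    have key : ∀ q, T.X T'.z p = T.X T'.z q → T.sec T'.z p * T.z = T.sec T'.z q * T.z :=
      fun q hq => by rw [L.ln.pr.left.sec_congr hq]
    have hform := L.ln.form p
    rcases bit_cases (polar ⇑qm p (T.X T'.z y)) with e1 | e1 <;>
      rcases bit_cases (polar ⇑qm p (T.X T'.z x)) with e2 | e2 <;>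
      rw [e1, e2] at hform <;> simp only [zero_smul, one_smul, zero_add, add_zero] at hform
    · exact absurd hform hp
    · rw [key y hform]; simp [S]
    · rw [key x hform]; simp [R]
    · have hsum : T.X T'.z p = T.X T'.z (x + y) := by rw [T.X_add, hform]
      have hRS : R * S ∈ T.Q ∧ R * S ∈ T'.Q :=
        ⟨mul_mem (mul_mem (L.ln.pr.left.sec_mem x) T.data.z_mem)
          (mul_mem (L.ln.pr.left.sec_mem y) T.data.z_mem), mul_mem L.fx L.fy⟩
      have hc : T.c (R * S) = T.X T'.z (x + y) := by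
        rw [T.c_mul _ (mul_mem (L.ln.pr.left.sec_mem x) T.data.z_mem) _
          (mul_mem (L.ln.pr.left.sec_mem y) T.data.z_mem), L.ln.pr.c_meet, L.ln.pr.c_meet, T.X_add]
      obtain ⟨w, hw, hweq⟩ := L.ln.pr.exists_vec hRS.1 hRS.2 (fun e => hp (by
        rw [hsum, ← hc, e, T.c_one]))
      have : T.X T'.z p = T.X T'.z w := by rw [hsum, ← hc, hweq, L.ln.pr.c_meet]
      rw [key w this, ← hweq]; simp
  have hker := card_ker_gm (T'.ρ T.z)
  have hle : Nat.card (LinearMap.ker (gm (T'.ρ T.z))) ≤ 4 := by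
    refine le_trans (Nat.card_le_card_of_injective
      (fun v => (⟨v.1, hz v.1 (LinearMap.mem_ker.1 v.2)⟩ : ({0, T'.c R, T'.c S, T'.c (R * S)} : Finset V8)))
      (fun a b h => Subtype.ext (congrArg (fun s : ↥({0, T'.c R, T'.c S, T'.c (R * S)} : Finset V8) =>
        (s : V8)) h))) ?_
    rw [Nat.card_eq_fintype_card, Fintype.card_coe]
    exact Finset.card_le_four
  have h4 := finrank_res_le L.ln.pr.right.ρ_sq
  rw [hker] at hle
  have : 2 ^ 4 ≤ 2 ^ (8 - Module.finrank (ZMod 2) (resSpace (T'.ρ T.z))) :=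
    Nat.pow_le_pow_right (by norm_num) (by omega)
  omega

theorem false : False := by
  classical
  obtain ⟨n, hn0, hn⟩ : ∃ n, n ≠ 0 ∧ Adm T T' x y (T.X T'.z x) n := by
    obtain ⟨e, he, hez, u, hu, hne⟩ := L.exists_move
    obtain ⟨α, β, hab⟩ := L.move_fixed he hez hu
    rcases bit_cases β with hβ | hβ
    · have hα : α = 1 := (bit_cases α).resolve_left fun hα => hne (by rw [hab, hα, hβ]; simp)
      obtain ⟨n, hn0, hn4, hrest⟩ := L.swap.exists_adm he hez hu
        (by rw [hab, L.ln.polar_line, L.ln.yy, L.ln.dual', hα, mul_zero, add_zero, mul_one])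
      obtain ⟨h1, h2⟩ := L.swap.adm_transfer ⟨hn4, hrest⟩
      exact ⟨n, hn0, L.swap.ln.four_swap h1, h2⟩
    · exact L.exists_adm he hez hu (by rw [hab, L.ln.polar_line, L.ln.xx, L.ln.dual, hβ, mul_zero,
        zero_add, mul_one])
  have hall : ∀ k, Ln.Four T T' x y k → Adm T T' x y (T.X T'.z x) k := fun k hk =>
    L.ln.four_top _ (fun m h => h.1) (fun m m' h h' => L.adm_add h h')
      (fun s v hs hv hq hsv m hm => L.adm_eich hs hv hq hsv hm) hn hn0 hk
  choose ex hex hexz hexu using fun k : { k // Ln.Four T T' x y k } => (hall k.1 k.2).2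
  choose ey hey heyz heyu using fun k : { k // Ln.Four T T' x y k } => (L.adm_transfer (hall k.1 k.2)).2
  set φ : { k // Ln.Four T T' x y k } × { k // Ln.Four T T' x y k } → LinearMap.ker (gm (T'.ρ T.z)) :=
    fun p => ⟨T'.c (ex p.1 * ey p.2), LinearMap.mem_ker.2 (L.ln.pr.right.fix_of_commute
      (mul_mem (hex _) (hey _))
      ((show Commute (ex p.1) T.z from hexz _).mul_left (heyz _)).eq)⟩ with hφ
  have hmove : ∀ (p : { k // Ln.Four T T' x y k } × { k // Ln.Four T T' x y k }) (u : V8),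
      T.X T'.z u = 0 → ap (T.ρ (ex p.1 * ey p.2)) u + u =
        polar ⇑qm p.1.1 u • T.X T'.z x + polar ⇑qm p.2.1 u • T.X T'.z y := fun p u hu => by
    rw [L.move_mul (hex _) (hexz _) (hey _) (heyz _) hu, hexu _ u hu, heyu _ u hu]
  have hinj : Function.Injective φ := by
    intro p q hpq
    have hc : T'.c (ex p.1 * ey p.2) = T'.c (ex q.1 * ey q.2) := congrArg (fun v => (v : LinearMap.ker _).1) hpq
    have hsame : ∀ u, T.X T'.z u = 0 → polar ⇑qm p.1.1 u = polar ⇑qm q.1.1 u ∧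
        polar ⇑qm p.2.1 u = polar ⇑qm q.2.1 u := by
      intro u hu
      have hM : ap (T.ρ (ex p.1 * ey p.2)) u = ap (T.ρ (ex q.1 * ey q.2)) u := by
        rcases T'.eq_of_c (mul_mem (hex _) (hey _)) (mul_mem (hex _) (hey _)) hc with h | h
        · rw [h]
        · rw [h, T.ρ_mul _ _ ((show Commute (ex p.1) T.z from hexz _).mul_left (heyz _)).eq
            L.ln.pr.left.comm, ap_mul, T.X_eq_zero.1 hu]
      have h := (hmove p u hu).symm.trans ((congrArg (· + u) hM).trans (hmove q u hu))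
      have hx := congrArg (polar ⇑qm x) h
      have hy := congrArg (polar ⇑qm y) h
      rw [L.ln.polar_line, L.ln.polar_line, L.ln.xx, L.ln.dual] at hx
      rw [L.ln.polar_line, L.ln.polar_line, L.ln.yy, L.ln.dual'] at hy
      simp only [mul_zero, mul_one, zero_add, add_zero] at hx hy
      exact ⟨hy, hx⟩
    have hd : ∀ a b : { k // Ln.Four T T' x y k },
        (∀ u, T.X T'.z u = 0 → polar ⇑qm a.1 u = polar ⇑qm b.1 u) → a = b := by
      intro a b h
      refine Subtype.ext ?_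
      by_contra hne
      obtain ⟨v, hv, h1⟩ := L.ln.four_sep (L.ln.four_add a.2 b.2) (fun e => hne (add_eq_zero_v e))
      rw [pl_add_left, h v (L.ln.four_fixed hv), ZModModule.add_self] at h1
      exact zero_ne_one h1
    exact Prod.ext (hd _ _ fun u hu => (hsame u hu).1) (hd _ _ fun u hu => (hsame u hu).2)
  have hcard := Nat.card_le_card_of_injective φ hinj
  rw [Nat.card_prod, card_ker_gm] at hcard
  have hN : 16 ≤ Nat.card { k // Ln.Four T T' x y k } := by
    let u : Fin 4 → V8 := ![T.X T'.z x, T.X T'.z y, x, y]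
    have h1 := card_le_finrank_orthFam (Q := qm) u
    have h2 : Nat.card (orthFam qm u) ≤ Nat.card { k // Ln.Four T T' x y k } :=
      Nat.card_le_card_of_injective
        (fun k => ⟨k.1, (plc _ _).trans (mem_orthFam.1 k.2 0), (plc _ _).trans (mem_orthFam.1 k.2 1),
          (plc _ _).trans (mem_orthFam.1 k.2 2), (plc _ _).trans (mem_orthFam.1 k.2 3)⟩)
        (fun a b h => Subtype.ext (congrArg (fun s : { k // Ln.Four T T' x y k } => s.1) h))
    rw [Module.natCard_eq_pow_finrank (K := ZMod 2), Nat.card_zmod] at h2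
    have h4 : 4 ≤ Module.finrank (ZMod 2) (orthFam qm u) := by
      have : Fintype.card J8 = 8 := rfl
      omega
    exact le_trans (by norm_num) (le_trans (Nat.pow_le_pow_right (by norm_num : 0 < 2) h4) h2)
  have hpos : 1 ≤ Module.finrank (ZMod 2) (resSpace (T'.ρ T.z)) := by
    by_contra h
    exact L.ln.pr.right.ρ_ne (eq_one_of_resSpace_eq_bot (Submodule.finrank_eq_zero.1 (by omega)))
  have h7 : 2 ^ (8 - Module.finrank (ZMod 2) (resSpace (T'.ρ T.z))) ≤ 2 ^ 7 :=
    Nat.pow_le_pow_right (by norm_num) (by omega)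
  have h256 := Nat.mul_le_mul hN hN
  omega

end Full

namespace Pr

variable {T T' : Wk G} (P : Pr T T')

include P

theorem exists_ne : ∃ v, T'.X T.z v ≠ 0 := by
  by_contra! h
  exact P.right.ρ_ne (ext_ap fun v => by rw [ap_one]; exact T'.X_eq_zero.1 (h v))

/-- Four dimensions. -/
theorem finrank_eq_four : Module.finrank (ZMod 2) (resSpace (T.ρ T'.z)) = 4 := by
  have h4 := finrank_res_le P.left.ρ_sq
  rcases Nat.lt_or_ge (Module.finrank (ZMod 2) (resSpace (T.ρ T'.z))) 4 with hlt | hge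
  swap
  · omega
  exfalso
  rw [← range_gm] at hlt
  have hln : ∀ {x y : V8}, polar ⇑qm x (T.X T'.z y) = 1 → Ln T T' x y := fun {x y} hxy =>
    ⟨P, hxy, fun v => normal_form qm.polarBilin (gm (T.ρ T'.z)) (fun a b => inv_adj P.left.ρ_sq a b)
      (fun a b => pl_comm (Q := qm) a b) (fun a => P.left.polar_self a) nd_qm hxy hlt v⟩
  by_cases hF : ∃ f, f ∈ T.Q ∧ f ∈ T'.Q ∧ f ≠ 1
  · obtain ⟨f, hf, hf', hne⟩ := hF
    obtain ⟨x, hx, rfl⟩ := P.exists_vec hf hf' hne
    obtain ⟨y, hy⟩ := sep_v hx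
    rw [P.left.polar_adj] at hy
    exact ((hln hy).exists_full hf').false
  · push Not at hF
    obtain ⟨x, y, hxy⟩ := exists_pair qm.polarBilin (gm (T.ρ T'.z)) nd_qm
      (fun a b => pl_comm (Q := qm) a b) (fun e => P.left.ρ_ne (ext_ap fun v => by
        rw [ap_one]
        exact T.X_eq_zero.1 (by rw [← T.X_apply_gm, e]; rfl)))
    obtain ⟨v, hv⟩ := P.exists_ne
    set e := T'.sec T.z v
    have he : e ∈ T'.Q := P.right.sec_mem v
    have hez : e * T.z = T.z * e := P.right.sec_comm_a v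
    have hfix : ∀ u, T.X T'.z u = 0 → ap (T.ρ e) u = u := by
      intro u hu
      have hd := P.left.commute_of_fix (T.li_mem u) (by rw [T.c_li]; exact hu)
      obtain ⟨h1, h2⟩ := P.comm_mem he hez (T.li_mem u) hd
      have hone := hF _ h1 h2
      rw [mul_inv_eq_one] at hone
      have := T.ρ_conj e hez _ (T.li_mem u)
      rw [hone, T.c_li] at this
      exact this.symm
    rcases (hln (x := x) (y := y) hxy).fix_fixed he hez hfix with h | h
    · exact P.right.sec_ne hv (hF e h he)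
    · have h1 := hF _ h (mul_mem he T'.data.z_mem)
      refine hv ?_
      rw [← P.right.c_sec, show T'.sec T.z v = T'.z⁻¹ from eq_inv_of_mul_eq_one_left h1,
        T'.c_inv T'.data.z_mem, T'.c_z]

end Pr

end Cfsg.Agent.CoOneUniq
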