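/-
No pair of commuting conjugates: with a Lagrangian commutator space the Pfaffians of the elements of
the other radical are inconsistent (helper9).

* `Fr4` : a symplectic frame modulo the fixed space;  `Fr4.pfaff` : the Pfaffian of a move is one
* `Pr.false` : the conclusion
-/
import Cfsg.Agent.Lib.CoOneUniq.WcLines

set_option autoImplicit false
set_option linter.unusedSectionVars false

namespace Cfsg.Agent.CoOneUniq

open Cfsg.Agent.CoType Cfsg.Agent.Orth
open QuadraticMap (polar)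

variable {G : Type*} [Group G]

namespace Wk

variable (T : Wk G)

theorem X_smul (g : G) (c : ZMod 2) (v : V8) : T.X g (c • v) = c • T.X g v := by
  rw [← T.X_apply_gm, map_smul]; rfl

theorem X_Q {q : G} (hq : q ∈ T.Q) (v : V8) : T.X q v = 0 := T.X_eq_zero.2 (by rw [T.ρ_Q hq, ap_one])

theorem X_z_mul {g : G} (hg : g * T.z = T.z * g) (v : V8) : T.X (T.z * g) v = T.X g v := by
  rw [X, X, T.ρ_mul _ _ rfl hg, T.ρ_Q T.data.z_mem, one_mul]

end Wk

/-- Bits for four coordinates. -/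
abbrev C4 : Type := ZMod 2 × ZMod 2 × ZMod 2 × ZMod 2

/-- A combination of four vectors. -/
def comb (p q p' q' : V8) (c : C4) : V8 := c.1 • p + c.2.1 • q + c.2.2.1 • p' + c.2.2.2 • q'

theorem comb_add (p q p' q' : V8) (c d : C4) :
    comb p q p' q' (c + d) = comb p q p' q' c + comb p q p' q' d := by
  simp only [comb, Prod.fst_add, Prod.snd_add, add_smul]
  abel

set_option synthInstance.maxSize 1000 in
set_option synthInstance.maxHeartbeats 200000 in
theorem exists_three : ∀ a b a' b' : ZMod 2, ∃ c : C4,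
    (c.1 * a + c.2.1 * b + c.2.2.1 * a' + c.2.2.2 * b' = 0 ∧ c ≠ 0) ∧ ∃ d : C4,
    (d.1 * a + d.2.1 * b + d.2.2.1 * a' + d.2.2.2 * b' = 0 ∧ d ≠ 0 ∧ c + d ≠ 0) ∧ ∃ e : C4,
    e.1 * a + e.2.1 * b + e.2.2.1 * a' + e.2.2.2 * b' = 0 ∧
    e ≠ 0 ∧ c + e ≠ 0 ∧ d + e ≠ 0 ∧ c + (d + e) ≠ 0 := by
  decide +kernel

set_option synthInstance.maxSize 1000 in
set_option synthInstance.maxHeartbeats 200000 in
theorem exists_two : ∀ a b a' b' : ZMod 2, ∀ c0 : C4, ∃ c : C4,
    (c.1 * a + c.2.1 * b + c.2.2.1 * a' + c.2.2.2 * b' = 0 ∧ c ≠ 0 ∧ c ≠ c0) ∧ ∃ d : C4,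
    d.1 * a + d.2.1 * b + d.2.2.1 * a' + d.2.2.2 * b' = 0 ∧
    d ≠ 0 ∧ d ≠ c0 ∧ c + d ≠ 0 ∧ c + d ≠ c0 := by
  decide +kernel

theorem kernel_of_pfaff : ∀ a b c d e f : ZMod 2, a * f + b * e + c * d = 0 → ∃ v : C4, v ≠ 0 ∧
    v.2.1 * a + v.2.2.1 * b + v.2.2.2 * c = 0 ∧ v.1 * a + v.2.2.1 * d + v.2.2.2 * e = 0 ∧
    v.1 * b + v.2.1 * d + v.2.2.2 * f = 0 ∧ v.1 * c + v.2.1 * e + v.2.2.1 * f = 0 := by
  decide +kernel

/-- A frame for the commutator form of the image of `a`. -/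
structure Fr4 (T : Wk G) (a : G) where
  p : V8
  q : V8
  p' : V8
  q' : V8
  pq : polar ⇑qm p (T.X a q) = 1
  pq' : polar ⇑qm p' (T.X a q') = 1
  pp' : polar ⇑qm p (T.X a p') = 0
  pqq : polar ⇑qm p (T.X a q') = 0
  qp' : polar ⇑qm q (T.X a p') = 0
  qq' : polar ⇑qm q (T.X a q') = 0

namespace Pr

variable {T T' : Wk G} (P : Pr T T')

include P

theorem exists_range {v : V8} (hv : T.X T'.z v = 0) : ∃ p, T.X T'.z p = v := by
  have h4 := P.finrank_eq_four
  rw [← range_gm] at h4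
  have hker : Module.finrank (ZMod 2) (LinearMap.ker (gm (T.ρ T'.z))) = 4 := by
    have h : Module.finrank (ZMod 2) (LinearMap.range (gm (T.ρ T'.z))) +
        Module.finrank (ZMod 2) (LinearMap.ker (gm (T.ρ T'.z))) = 8 := by
      rw [LinearMap.finrank_range_add_finrank_ker]
      simp [Module.finrank_fintype_fun_eq_card]
    exact Nat.add_left_cancel (h4 ▸ h)
  have hle : LinearMap.range (gm (T.ρ T'.z)) ≤ LinearMap.ker (gm (T.ρ T'.z)) := by
    rintro _ ⟨p, rfl⟩
    exact LinearMap.mem_ker.2 (P.left.X_X p)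
  have hm : v ∈ LinearMap.range (gm (T.ρ T'.z)) := by
    rw [Submodule.eq_of_le_of_finrank_eq hle (h4.trans hker.symm)]
    exact LinearMap.mem_ker.2 hv
  exact hm

theorem exists_fr : Nonempty (Fr4 T T'.z) := by
  have hd := P.left
  set g := gm (T.ρ T'.z)
  obtain ⟨x, y, hxy⟩ := exists_pair qm.polarBilin g nd_qm (fun a b => plc a b) (fun e =>
    P.left.ρ_ne (ext_ap fun v => by
      rw [ap_one]; exact T.X_eq_zero.1 (by rw [← T.X_apply_gm]; exact LinearMap.congr_fun e v)))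
  replace hxy : polar ⇑qm x (T.X T'.z y) = 1 := hxy
  have hyx : polar ⇑qm y (T.X T'.z x) = 1 := by rw [hd.polar_X_comm]; exact hxy
  obtain ⟨t, ht⟩ : ∃ t, T.X T'.z t ≠
      polar ⇑qm t (T.X T'.z y) • T.X T'.z x + polar ⇑qm t (T.X T'.z x) • T.X T'.z y := by
    by_contra! h
    classical
    have hsp : LinearMap.range g ≤ Submodule.span (ZMod 2) {T.X T'.z x, T.X T'.z y} := by
      rintro _ ⟨t, rfl⟩
      rw [T.X_apply_gm, h t, Submodule.mem_span_pair]
      exact ⟨_, _, rfl⟩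
    have h1 := Submodule.finrank_mono hsp
    have h5 := finrank_span_finset_le_card (R := ZMod 2) ({T.X T'.z x, T.X T'.z y} : Finset V8)
    rw [Finset.coe_insert, Finset.coe_singleton, Set.finrank] at h5
    have h6 : Finset.card ({T.X T'.z x, T.X T'.z y} : Finset V8) ≤ 2 := Finset.card_le_two
    have h4 := P.finrank_eq_four
    rw [← range_gm] at h4
    exact absurd (h4.symm.trans_le (h1.trans (h5.trans h6))) (by norm_num)
  set z := t + polar ⇑qm t (T.X T'.z y) • x + polar ⇑qm t (T.X T'.z x) • y with hz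
  have hzx : polar ⇑qm z (T.X T'.z x) = 0 := by
    rw [hz, pl_add_left, pl_add_left, pl_smul_left, pl_smul_left, hd.polar_self, hyx, mul_zero, mul_one,
      add_zero, ZModModule.add_self]
  have hzy : polar ⇑qm z (T.X T'.z y) = 0 := by
    rw [hz, pl_add_left, pl_add_left, pl_smul_left, pl_smul_left, hd.polar_self, hxy, mul_zero, mul_one,
      add_zero, ZModModule.add_self]
  have hgz : T.X T'.z z ≠ 0 := fun e => ht (by
    rw [hz, T.X_add, T.X_add, T.X_smul, T.X_smul, add_assoc] at e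
    exact add_eq_zero_v e)
  obtain ⟨w, hw⟩ := sep_v hgz
  rw [hd.polar_adj] at hw
  set w' := w + polar ⇑qm w (T.X T'.z y) • x + polar ⇑qm w (T.X T'.z x) • y with hw'
  have hwx : polar ⇑qm w' (T.X T'.z x) = 0 := by
    rw [hw', pl_add_left, pl_add_left, pl_smul_left, pl_smul_left, hd.polar_self, hyx, mul_zero, mul_one,
      add_zero, ZModModule.add_self]
  have hwy : polar ⇑qm w' (T.X T'.z y) = 0 := by
    rw [hw', pl_add_left, pl_add_left, pl_smul_left, pl_smul_left, hd.polar_self, hxy, mul_zero, mul_one,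
      add_zero, ZModModule.add_self]
  refine ⟨⟨x, y, z, w', hxy, ?_, ?_, ?_, ?_, ?_⟩⟩
  · rw [hw', T.X_add, T.X_add, T.X_smul, T.X_smul, pl_add_right, pl_add_right, pl_smul_right,
      pl_smul_right, hzx, hzy, mul_zero, mul_zero, add_zero, add_zero, hw]
  · rw [hd.polar_X_comm, hzx]
  · rw [hd.polar_X_comm, hwx]
  · rw [hd.polar_X_comm, hzy]
  · rw [hd.polar_X_comm, hwy]

theorem frame_inj (F : Fr4 T T'.z) {c : C4} (h : T.X T'.z (comb F.p F.q F.p' F.q' c) = 0) : c = 0 := by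
  have hd := P.left
  have e1 := congrArg (polar ⇑qm F.q) h
  have e2 := congrArg (polar ⇑qm F.p) h
  have e3 := congrArg (polar ⇑qm F.q') h
  have e4 := congrArg (polar ⇑qm F.p') h
  simp only [comb, T.X_add, T.X_smul, pl_add_right, pl_smul_right, pl_zero_right, hd.polar_self,
    hd.polar_X_comm F.q F.p, hd.polar_X_comm F.q' F.p', hd.polar_X_comm F.p' F.p,
    hd.polar_X_comm F.q' F.p, hd.polar_X_comm F.p' F.q, hd.polar_X_comm F.q' F.q,
    F.pq, F.pq', F.pp', F.pqq, F.qp', F.qq', mul_zero, mul_one, add_zero, zero_add] at e1 e2 e3 e4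
  obtain ⟨a, b, c, d⟩ := c
  simp only at e1 e2 e3 e4
  simp [e1, e2, e3, e4, Prod.ext_iff]

theorem frame_decomp (F : Fr4 T T'.z) (v : V8) :
    ∃ c, T.X T'.z (comb F.p F.q F.p' F.q' c) = T.X T'.z v := by
  classical
  let φ : C4 → LinearMap.range (gm (T.ρ T'.z)) := fun c =>
    ⟨T.X T'.z (comb F.p F.q F.p' F.q' c), ⟨comb F.p F.q F.p' F.q' c, rfl⟩⟩
  have hi : Function.Injective φ := fun c d h => by
    refine add_left_cancel (a := d) ?_
    have hself : d + d = 0 := (by decide +kernel : ∀ x : C4, x + x = 0) d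
    rw [hself]
    refine P.frame_inj F ?_
    rw [comb_add, T.X_add, show T.X T'.z (comb F.p F.q F.p' F.q' c) = T.X T'.z (comb F.p F.q F.p' F.q' d) from
      congrArg (fun s : LinearMap.range (gm (T.ρ T'.z)) => (s : V8)) h, ZModModule.add_self]
  have hcard : Nat.card (LinearMap.range (gm (T.ρ T'.z))) = Nat.card C4 := by
    rw [Module.natCard_eq_pow_finrank (K := ZMod 2), Nat.card_zmod,
      show Module.finrank (ZMod 2) (LinearMap.range (gm (T.ρ T'.z))) = 4 from by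
        rw [range_gm]; exact P.finrank_eq_four]
    simp
  obtain ⟨c, hc⟩ := ((Nat.bijective_iff_injective_and_card φ).2 ⟨hi, hcard.symm⟩).2
    ⟨T.X T'.z v, ⟨v, rfl⟩⟩
  exact ⟨c, congrArg (fun s : LinearMap.range (gm (T.ρ T'.z)) => (s : V8)) hc⟩

/-- Fixing the commutator space. -/
theorem fix_or_comm {e : G} (he : e ∈ T'.Q) (hez : e * T.z = T.z * e) (x : V8) :
    ap (T.ρ e) (T.X T'.z x) = T.X T'.z x ∨ e * T.sec T'.z x * e⁻¹ * (T.sec T'.z x)⁻¹ ≠ 1 := by
  by_cases h : e * T.sec T'.z x * e⁻¹ * (T.sec T'.z x)⁻¹ = 1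
  · refine Or.inl ?_
    rw [← P.left.c_sec, ← T.ρ_conj e hez _ (P.left.sec_mem x), mul_inv_eq_one.1 h]
  · exact Or.inr h

/-- The image of a section element fixes the commutator space. -/
def Fix (T T' : Wk G) (y : V8) : Prop :=
  ∀ x, ap (T.ρ (T'.sec T.z y)) (T.X T'.z x) = T.X T'.z x

theorem sec'_mem (y : V8) : T'.sec T.z y ∈ T'.Q ∧ T'.sec T.z y * T.z = T.z * T'.sec T.z y :=
  ⟨P.right.sec_mem y, P.right.sec_comm_a y⟩

theorem fix_of_trivial (h : ∀ f, f ∈ T.Q → f ∈ T'.Q → f = 1) (y : V8) : Fix T T' y := fun x => by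
  obtain ⟨he, hez⟩ := P.sec'_mem y
  refine (P.fix_or_comm he hez x).resolve_right fun hne => hne ?_
  obtain ⟨h1, h2⟩ := P.comm_mem he hez P.sec_c_mem.1 P.sec_c_mem.2
  exact h _ h1 h2

theorem fix_of_orth {y0 : V8} (h0 : T'.X T.z y0 ≠ 0) (hf : T'.sec T.z y0 * T'.z ∈ T.Q) {y : V8}
    (hy : polar ⇑qm y (T'.X T.z y0) = 0) : Fix T T' y := fun x => by
  obtain ⟨he, hez⟩ := P.sec'_mem y
  refine (P.fix_or_comm he hez x).resolve_right fun hne => ?_
  set f := T'.sec T.z y0 * T'.z with hfdef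
  have hf' : f ∈ T'.Q := mul_mem (P.right.sec_mem y0) T'.data.z_mem
  have hf1 : f ≠ 1 := fun e => h0 (by rw [← P.symm.c_meet, ← hfdef, e, T'.c_one])
  have heq := P.meet_unique he hez hne hf hf' hf1
  have hrule := P.symm.commutator_rule_one (e := T.sec T'.z x) (P.left.sec_mem x)
    (P.left.sec_comm_a x) (x := y) h0 (by
      rw [← hfdef, ← P.meet_inv hf hf', heq]
      group)
  rw [hy] at hrule
  exact zero_ne_one hrule

theorem move_mem {y : V8} (hy : Fix T T' y) (v : V8) :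
    ∃ p, T.X T'.z p = T.X (T'.sec T.z y) v := by
  refine P.left.mem_X_range fun u hu => ?_
  obtain ⟨p, rfl⟩ := P.exists_range hu
  rw [show T.X (T'.sec T.z y) v = ap (T.ρ (T'.sec T.z y)) v + v from rfl, pl_add_right]
  conv_lhs => arg 1; rw [← hy p, polar_ap]
  exact ZModModule.add_self _

theorem move_adj {y : V8} (u v : V8) :
    polar ⇑qm u (T.X (T'.sec T.z y) v) = polar ⇑qm v (T.X (T'.sec T.z y) u) := by
  obtain ⟨he, hez⟩ := P.sec'_mem y
  have h2 : T.ρ (T'.sec T.z y) * T.ρ (T'.sec T.z y) = 1 := by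
    rw [← T.ρ_mul _ _ hez hez, P.right.sec_sq, T.ρ_one]
  rw [plc v]
  exact (inv_adj h2 u v).symm

theorem move_self {y : V8} (hy : Fix T T' y) (v : V8) : polar ⇑qm v (T.X (T'.sec T.z y) v) = 0 := by
  obtain ⟨p, hp⟩ := P.move_mem hy v
  rw [← show qm (T.X (T'.sec T.z y) v) = polar ⇑qm v (T.X (T'.sec T.z y) v) from inv_sing v, ← hp,
    P.left.qm_X]

theorem move_add {u v : V8} (hu : Fix T T' u) (hv : Fix T T' v) (w : V8) :
    T.X (T'.sec T.z (u + v)) w = T.X (T'.sec T.z u) w + T.X (T'.sec T.z v) w +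
      polar ⇑qm v (T'.X T.z u) • T.X T'.z w := by
  obtain ⟨he, hez⟩ := P.sec'_mem v
  obtain ⟨he', he'z⟩ := P.sec'_mem u
  set k := polar ⇑qm v (T'.X T.z u)
  have hkz : pw T'.z k * T.z = T.z * pw T'.z k := by
    rw [pw]; split
    · simp
    · exact P.left.comm
  have hmul : ∀ {e e' : G}, e * T.z = T.z * e → e' * T.z = T.z * e' → ∀ w,
      ap (T.ρ e) (T.X e' w) = T.X e' w → T.X (e * e') w = T.X e w + T.X e' w := by
    intro e e' h1 h2 w hfix
    rw [Wk.X, T.ρ_mul e e' h1 h2, ap_mul]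
    rw [Wk.X, map_add] at hfix
    calc ap (T.ρ e) (ap (T.ρ e') w) + w
        = (ap (T.ρ e) (ap (T.ρ e') w) + ap (T.ρ e) w) + (ap (T.ρ e) w + w) := by
          rw [add_assoc, ← add_assoc (ap (T.ρ e) w), ZModModule.add_self, zero_add]
      _ = _ := by rw [hfix, add_comm]; rfl
  have hk : T.X (pw T'.z k) w = k • T.X T'.z w := by
    rcases bit_cases k with h | h <;> rw [h]
    · rw [pw_zero, zero_smul, T.X_Q (one_mem _)]
    · rw [pw_one, one_smul]
  rw [P.right.sec_add, hmul ((show Commute _ T.z from hez).mul_left he'z).eq hkz w ?_, hmul hez he'z w ?_, hk,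
    add_comm (T.X (T'.sec T.z v) w)]
  · obtain ⟨p, hp⟩ := P.move_mem hu w
    rw [← hp, hv p]
  · rw [hk, map_smul, T.ρ_mul _ _ hez he'z, ap_mul, hu w, hv w]

theorem fix_add {u v : V8} (hu : Fix T T' u) (hv : Fix T T' v) : Fix T T' (u + v) := fun x => by
  apply T.X_eq_zero.1
  rw [P.move_add hu hv, T.X_eq_zero.2 (hu x), T.X_eq_zero.2 (hv x), P.left.X_X, smul_zero, add_zero,
    add_zero]

theorem npair_sec {y : V8} (hy : T'.X T.z y ≠ 0) : NPair T (T.z * T'.sec T.z y) := by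
  obtain ⟨he, hez⟩ := P.sec'_mem y
  refine ⟨(P.cj _).1 ?_, ?_, fun e => P.right.sec_ne hy (mul_eq_left.1 e), fun hcj => ?_⟩
  · rw [Wk.sec, ← mul_assoc, T.z_sq, one_mul]
    exact P.right.cj.conj _
  · rw [mul_assoc, hez]
  · rw [← mul_assoc, T.z_sq, one_mul, ← P.cj] at hcj
    refine hy ?_
    rw [← P.right.c_sec, hcj.eq_z he, T'.c_z]

theorem move_ker {y : V8} (hy : T'.X T.z y ≠ 0) (hfy : Fix T T' y) {v : V8}
    (hv : T.X (T'.sec T.z y) v = 0) : T.X T'.z v = 0 := by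
  obtain ⟨he, hez⟩ := P.sec'_mem y
  obtain ⟨U, hU, P2⟩ := (P.npair_sec hy).exists_pr
  have h4 := P2.finrank_eq_four
  rw [hU, T.ρ_mul _ _ rfl hez, T.ρ_Q T.data.z_mem, one_mul] at h4
  have hk : ∀ ρ : IsoGrp qm, Module.finrank (ZMod 2) (resSpace ρ) = 4 →
      Module.finrank (ZMod 2) (LinearMap.ker (gm ρ)) = 4 := by
    intro ρ h
    rw [← range_gm] at h
    have h8 : Module.finrank (ZMod 2) (LinearMap.range (gm ρ)) +
        Module.finrank (ZMod 2) (LinearMap.ker (gm ρ)) = 8 := by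
      rw [LinearMap.finrank_range_add_finrank_ker]
      simp [Module.finrank_fintype_fun_eq_card]
    exact Nat.add_left_cancel (h ▸ h8)
  have hle : LinearMap.ker (gm (T.ρ T'.z)) ≤ LinearMap.ker (gm (T.ρ (T'.sec T.z y))) := by
    intro u hu
    obtain ⟨p, rfl⟩ := P.exists_range (LinearMap.mem_ker.1 hu)
    exact LinearMap.mem_ker.2 (T.X_eq_zero.2 (hfy p))
  have := Submodule.eq_of_le_of_finrank_eq hle ((hk _ P.finrank_eq_four).trans (hk _ h4).symm)
  exact LinearMap.mem_ker.1 (this.ge (LinearMap.mem_ker.2 hv))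

theorem false : False := by
  obtain ⟨F⟩ := P.exists_fr
  obtain ⟨F'⟩ := P.symm.exists_fr
  set M : V8 → V8 → V8 → ZMod 2 := fun y u v => polar ⇑qm u (T.X (T'.sec T.z y) v) with hM
  have Madj : ∀ y u v, M y u v = M y v u := fun y u v => P.move_adj u v
  set Pf : V8 → ZMod 2 := fun y =>
    M y F.p F.q * M y F.p' F.q' + M y F.p F.p' * M y F.q F.q' + M y F.p F.q' * M y F.q F.p' with hPfdef
  set τ : V8 → ZMod 2 := fun y => M y F.p F.q + M y F.p' F.q' with hτdef
  have Madd : ∀ {u v}, Fix T T' u → Fix T T' v → ∀ r s, M (u + v) r s = M u r s + M v r s +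
      polar ⇑qm v (T'.X T.z u) * polar ⇑qm r (T.X T'.z s) := by
    intro u v hu hv r s
    simp only [hM, P.move_add hu hv, pl_add_right, pl_smul_right]
  have hPf : ∀ y, T'.X T.z y ≠ 0 → Fix T T' y → Pf y = 1 := by
    intro y hy hfy
    rcases bit_cases (Pf y) with h | h
    swap
    · exact h
    exfalso
    obtain ⟨c, hc0, h1, h2, h3, h4⟩ := kernel_of_pfaff _ _ _ _ _ _ h
    obtain ⟨a, b, a', b'⟩ := c
    simp only at h1 h2 h3 h4
    set v := comb F.p F.q F.p' F.q' (a, b, a', b') with hv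
    have hself : ∀ r, M y r r = 0 := fun r => P.move_self hfy r
    have hrow : ∀ r, M y r v = a * M y r F.p + b * M y r F.q + a' * M y r F.p' + b' * M y r F.q' := by
      intro r
      simp only [hM, hv, comb, T.X_add, T.X_smul, pl_add_right, pl_smul_right]
    have r1 : M y F.p v = 0 := by
      rw [hrow, hself, mul_zero, zero_add]; exact h1
    have r2 : M y F.q v = 0 := by
      rw [hrow, hself, mul_zero, add_zero, Madj y F.q F.p]; exact h2
    have r3 : M y F.p' v = 0 := by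
      rw [hrow, hself, mul_zero, add_zero, Madj y F.p' F.p, Madj y F.p' F.q]; exact h3
    have r4 : M y F.q' v = 0 := by
      rw [hrow, hself, mul_zero, add_zero, Madj y F.q' F.p, Madj y F.q' F.q, Madj y F.q' F.p']; exact h4
    obtain ⟨w, hw⟩ := P.move_mem hfy v
    have hYv : T.X (T'.sec T.z y) v = 0 := by
      refine eq_of_polar fun r => ?_
      rw [pl_zero_left, ← hw]
      obtain ⟨d, hd⟩ := P.frame_decomp F r
      rw [P.left.polar_adj, ← hd, ← P.left.polar_adj, hw, plc]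
      simp only [hM] at r1 r2 r3 r4
      simp only [comb, pl_add_left, pl_smul_left, r1, r2, r3, r4, mul_zero, add_zero]
    exact hc0 (P.frame_inj F (P.move_ker hy hfy hYv))
  have hM0 : polar ⇑qm F.p (T.X T'.z F.q) = 1 ∧ polar ⇑qm F.p' (T.X T'.z F.q') = 1 := ⟨F.pq, F.pq'⟩
  have Pfadd : ∀ {u v}, Fix T T' u → Fix T T' v → Pf (u + v) = Pf u + Pf v +
      (M u F.p F.q * M v F.p' F.q' + M v F.p F.q * M u F.p' F.q' + M u F.p F.p' * M v F.q F.q' +
        M v F.p F.p' * M u F.q F.q' + M u F.p F.q' * M v F.q F.p' + M v F.p F.q' * M u F.q F.p') +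
      polar ⇑qm v (T'.X T.z u) * (1 + τ u + τ v) := by
    intro u v hu hv
    simp only [hPfdef, hτdef, Madd hu hv, F.pq, F.pq', F.pp', F.pqq, F.qp', F.qq']
    have key : ∀ k : ZMod 2, k * k = k := by decide
    linear_combination key (polar ⇑qm v (T'.X T.z u))
  have τadd : ∀ {u v}, Fix T T' u → Fix T T' v → τ (u + v) = τ u + τ v := by
    intro u v hu hv
    simp only [hτdef, Madd hu hv, F.pq, F.pq']
    have key : ∀ k : ZMod 2, k + k = 0 := by decide
    linear_combination key (polar ⇑qm v (T'.X T.z u))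
  set L : C4 → V8 := comb F'.p F'.q F'.p' F'.q' with hL
  have hne : ∀ c, c ≠ 0 → T'.X T.z (L c) ≠ 0 := fun c hc e => hc (P.symm.frame_inj F' e)
  by_cases hF : ∃ f, f ∈ T.Q ∧ f ∈ T'.Q ∧ f ≠ 1
  · obtain ⟨f, hf, hf', hf1⟩ := hF
    obtain ⟨y0, h0, rfl⟩ := P.symm.exists_vec hf' hf hf1
    obtain ⟨he0, he0z⟩ := P.sec'_mem y0
    have hρ : T.ρ (T'.sec T.z y0) = T.ρ T'.z := by
      have h := (T.ρ_ker _ ((show Commute (T'.sec T.z y0) T.z from he0z).mul_left P.left.comm).eq).2 hf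
      rw [T.ρ_mul _ _ he0z P.left.comm] at h
      rw [eq_inv_of_mul_eq_one_left h, inv_eq_of_mul_eq_one_right P.left.ρ_sq]
    have hX0 : ∀ v, T.X (T'.sec T.z y0) v = T.X T'.z v := fun v => by rw [Wk.X, hρ]; rfl
    have hfix0 : Fix T T' y0 := fun x => T.X_eq_zero.1 (by rw [hX0, P.left.X_X])
    have hM00 : ∀ r s, M y0 r s = polar ⇑qm r (T.X T'.z s) := fun r s => by simp only [hM, hX0]
    obtain ⟨c0, hc0⟩ := P.symm.frame_decomp F' y0
    obtain ⟨c, ⟨hc, hc1, hc2⟩, d, hd, hd1, hd2, hcd1, hcd2⟩ := exists_two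
      (polar ⇑qm F'.p (T'.X T.z y0)) (polar ⇑qm F'.q (T'.X T.z y0))
      (polar ⇑qm F'.p' (T'.X T.z y0)) (polar ⇑qm F'.q' (T'.X T.z y0)) c0
    have horth : ∀ e : C4, e.1 * polar ⇑qm F'.p (T'.X T.z y0) + e.2.1 * polar ⇑qm F'.q (T'.X T.z y0) +
        e.2.2.1 * polar ⇑qm F'.p' (T'.X T.z y0) + e.2.2.2 * polar ⇑qm F'.q' (T'.X T.z y0) = 0 →
        polar ⇑qm (L e) (T'.X T.z y0) = 0 := by
      intro e he
      simp only [hL, comb, pl_add_left, pl_smul_left]
      exact he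
    have hself : ∀ e e' : C4, e + e' = 0 → e = e' := by decide +kernel
    have hτ1 : ∀ {e : C4}, polar ⇑qm (L e) (T'.X T.z y0) = 0 → e ≠ 0 → e ≠ c0 → τ (L e) = 1 := by
      intro e he he0 hec
      have hfe := P.fix_of_orth h0 hf he
      have hsum : T'.X T.z (L e + y0) ≠ 0 := by
        rw [T'.X_add, ← hc0, ← T'.X_add, ← comb_add]
        exact hne _ fun e' => hec (hself _ _ e')
      have h := hPf _ hsum (P.fix_add hfe hfix0)
      rw [Pfadd hfe hfix0, hPf _ (hne _ he0) hfe, hPf _ h0 hfix0] at h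
      rw [show polar ⇑qm y0 (T'.X T.z (L e)) = 0 by rw [P.right.polar_X_comm, he]] at h
      simp only [hM00, F.pq, F.pq', F.pp', F.pqq, F.qp', F.qq', mul_zero, zero_mul, mul_one, one_mul,
        add_zero] at h
      simp only [hτdef]
      have key : ∀ p q : ZMod 2, 1 + 1 + (p + q) = 1 → p + q = 1 := by decide
      exact key _ _ h
    have hcd : polar ⇑qm (L (c + d)) (T'.X T.z y0) = 0 := by
      rw [hL, comb_add, pl_add_left, horth c hc, horth d hd, add_zero]
    have h := hτ1 hcd hcd1 hcd2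
    rw [hL, comb_add, τadd (P.fix_of_orth h0 hf (horth c hc)) (P.fix_of_orth h0 hf (horth d hd)),
      hτ1 (horth c hc) hc1 hc2, hτ1 (horth d hd) hd1 hd2, ZModModule.add_self] at h
    exact zero_ne_one h
  · push Not at hF
    have hfix := P.fix_of_trivial hF
    have τ0 : τ 0 = 0 := by
      have h := τadd (hfix 0) (hfix 0)
      rwa [add_zero, ZModModule.add_self] at h
    have τsm : ∀ (k : ZMod 2) v, τ (k • v) = k * τ v := fun k v => by
      rcases bit_cases k with rfl | rfl <;> simp [τ0]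
    obtain ⟨c, ⟨hc, hc0⟩, d, ⟨hd, hd0, hcd⟩, e, he, he0, hce, hde, hcde⟩ :=
      exists_three (τ F'.p) (τ F'.q) (τ F'.p') (τ F'.q')
    have hτ : ∀ g : C4, τ (L g) = g.1 * τ F'.p + g.2.1 * τ F'.q + g.2.2.1 * τ F'.p' + g.2.2.2 * τ F'.q' :=
      fun g => by simp only [hL, comb, τadd (hfix _) (hfix _), τsm]
    have hβ : ∀ g g' : C4, τ (L g) = 0 → τ (L g') = 0 → g ≠ 0 → g' ≠ 0 → g + g' ≠ 0 →
        M (L g) F.p F.q * M (L g') F.p' F.q' + M (L g') F.p F.q * M (L g) F.p' F.q' +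
        M (L g) F.p F.p' * M (L g') F.q F.q' + M (L g') F.p F.p' * M (L g) F.q F.q' +
        M (L g) F.p F.q' * M (L g') F.q F.p' + M (L g') F.p F.q' * M (L g) F.q F.p' +
        polar ⇑qm (L g') (T'.X T.z (L g)) = 1 := by
      intro g g' h h' hg hg' hgg
      have hs := hPf _ (hne _ hgg) (hfix _)
      rw [hL, comb_add, Pfadd (hfix _) (hfix _)] at hs
      rw [← hL, hPf _ (hne _ hg) (hfix _), hPf _ (hne _ hg') (hfix _), h, h'] at hs
      have key : ∀ p k : ZMod 2, 1 + 1 + p + k * (1 + 0 + 0) = 1 → p + k = 1 := by decide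
      exact key _ _ hs
    have tc := (hτ c).trans hc
    have td := (hτ d).trans hd
    have te := (hτ e).trans he
    have tde : τ (L (d + e)) = 0 := by
      rw [hL, comb_add, τadd (hfix _) (hfix _), ← hL, td, te, add_zero]
    have h1 := hβ c d tc td hc0 hd0 hcd
    have h2 := hβ c e tc te hc0 he0 hce
    have h3 := hβ c (d + e) tc tde hc0 hde hcde
    rw [show L (d + e) = L d + L e by rw [hL, comb_add]] at h3
    simp only [Madd (hfix (L d)) (hfix (L e)), F.pq, F.pq', F.pp', F.pqq, F.qp', F.qq',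
      pl_add_left] at h3
    simp only [hτdef] at tc
    refine one_ne_zero (α := ZMod 2) ?_
    linear_combination h3 - h1 - h2 - (polar ⇑qm (L e) (T'.X T.z (L d))) * tc

end Pr

/-- There is no such pair. -/
theorem NPair.false {T : Wk G} {a : G} (h : NPair T a) : False := by
  obtain ⟨T', -, P⟩ := h.exists_pr
  exact P.false

end Cfsg.Agent.CoOneUniq
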