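/-
An involution with centraliser of type `2^(1+8).Ω⁺₈(2)` in a group with trivial odd core and centre is
not weakly closed in the radical of its centraliser (helper9).

* `eq_pCore` : the generalised Fitting subgroup of the centraliser
* `exists_conj_mem` : a second conjugate in the radical
-/
import Cfsg.Agent.Lib.CoOneUniq.WcLagrange
import Cfsg.Agent.Lib.U62Rec.HypMain
import Cfsg.Agent.Lib.Co1Centralizer.Image
import Cfsg.Agent.Lib.HallHigman.PSolvable
import Cfsg.Agent.Lib.LocalCharP.Basic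

set_option autoImplicit false

namespace Cfsg.Agent.CoOneUniq

open Cfsg.Agent.CoType Cfsg.Agent.Orth
open QuadraticMap (polar)

variable {G : Type*} [Group G] [Finite G]

/-- The generalised Fitting subgroup is the core. -/
theorem eq_pCore (t : G) (hcon : Cfsg.IsPConstrained 2 (Subgroup.centralizer ({t} : Set G)))
    (e : (Subgroup.centralizer ({t} : Set G)) ⧸ Cfsg.pCore 2 (Subgroup.centralizer ({t} : Set G)) ≃*
      Cfsg.Omega (ZMod 2) (Cfsg.quadFormPlus 4 (ZMod 2))) :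
    Cfsg.generalizedFittingSubgroup (Subgroup.centralizer ({t} : Set G)) =
      Cfsg.pCore 2 (Subgroup.centralizer ({t} : Set G)) := by
  haveI : Fact (Nat.Prime 2) := ⟨Nat.prime_two⟩
  haveI := Co1Centralizer.isSimpleGroup_omega
  set C := Subgroup.centralizer ({t} : Set G)
  set P := Cfsg.pCore 2 C
  haveI hPn : P.Normal := Cores.pCore_normal 2 C
  let f : C →* ↥(Cfsg.Omega (ZMod 2) (Cfsg.quadFormPlus 4 (ZMod 2))) :=
    e.toMonoidHom.comp (QuotientGroup.mk' P)
  have f_surj : Function.Surjective f := e.surjective.comp (QuotientGroup.mk'_surjective P)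
  have f_ker : ∀ c : C, f c = 1 ↔ c ∈ P := fun c => by
    show e (QuotientGroup.mk' P c) = 1 ↔ _
    rw [map_eq_one_iff e e.injective, QuotientGroup.mk'_apply, QuotientGroup.eq_one_iff]
  have hΩ : Cfsg.pPrimeCore 2 ↥(Cfsg.Omega (ZMod 2) (Cfsg.quadFormPlus 4 (ZMod 2))) = ⊥ := by
    rcases (Cores.pPrimeCore_normal 2
      ↥(Cfsg.Omega (ZMod 2) (Cfsg.quadFormPlus 4 (ZMod 2)))).eq_bot_or_eq_top with h | h
    · exact h
    · have hc := Cores.coprime_card_pPrimeCore
        (G := ↥(Cfsg.Omega (ZMod 2) (Cfsg.quadFormPlus 4 (ZMod 2)))) 2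
      rw [h, Subgroup.card_top,
        show Nat.card ↥(Cfsg.Omega (ZMod 2) (Cfsg.quadFormPlus 4 (ZMod 2))) = 174182400 from card_omega] at hc
      norm_num at hc
  have hO : Cfsg.pPrimeCore 2 C = ⊥ := by
    refine le_bot_iff.1 ?_
    rw [← (Cores.disjoint_pCore_pPrimeCore (G := C) (p := 2)).eq_bot]
    refine le_inf (fun c hc => (f_ker c).1 ?_) le_rfl
    have := Cores.map_pPrimeCore_le f f_surj 2 ⟨c, hc, rfl⟩
    rwa [hΩ, Subgroup.mem_bot] at this
  refine LocalCharP.generalizedFittingSubgroup_eq_pCore fun c hc => ?_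
  have h2 := HallHigman.pPrimePCore_eq_pCore (p := 2) hO
  have hp : IsPGroup 2 ↥(Cfsg.pPrimePCore 2 C) := h2 ▸ Cores.isPGroup_pCore 2 C
  obtain ⟨S⟩ : Nonempty (Sylow 2 ↥(Cfsg.pPrimePCore 2 C)) := inferInstance
  have hS : (S : Subgroup ↥(Cfsg.pPrimePCore 2 C)) = ⊤ := (S.3 (hp.to_subgroup ⊤) le_top).symm
  have h := hcon S (x := c) (Subgroup.mem_centralizer_iff.2 fun y hy => by
    rw [hS, ← MonoidHom.range_eq_map, Subgroup.range_subtype, SetLike.mem_coe, h2] at hy
    exact Subgroup.mem_centralizer_iff.1 hc y hy)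
  rwa [h2] at h

/-- Weak closure fails. -/
theorem exists_conj_mem (hO : Cfsg.oddCore G = ⊥) (hZ : Subgroup.center G = ⊥) (t : G) (ht : orderOf t = 2)
    (Qc : Subgroup (Subgroup.centralizer ({t} : Set G))) [Qc.Normal]
    (hF : Cfsg.generalizedFittingSubgroup (Subgroup.centralizer ({t} : Set G)) = Qc)
    (hQ : Cfsg.IsExtraspecial 2 Qc) (hcard : Nat.card Qc = 2 ^ 9)
    (e : (Subgroup.centralizer ({t} : Set G)) ⧸ Qc ≃*
      Cfsg.Omega (ZMod 2) (Cfsg.quadFormPlus 4 (ZMod 2))) :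
    ∃ g : G, (∃ hq : g * t * g⁻¹ ∈ Subgroup.centralizer ({t} : Set G),
      (⟨g * t * g⁻¹, hq⟩ : Subgroup.centralizer ({t} : Set G)) ∈ Qc) ∧ g * t * g⁻¹ ≠ t := by
  by_contra hno
  obtain ⟨T, rfl, hTQ⟩ := exists_wk t ht Qc hF hQ hcard e (by
    rintro g ⟨x, hx, hxg⟩
    by_contra hne
    have hxg' : (x : G) = g * t * g⁻¹ := hxg
    have hm : g * t * g⁻¹ ∈ Subgroup.centralizer ({t} : Set G) := hxg' ▸ x.2
    exact hno ⟨g, ⟨hm, by rwa [show (⟨g * t * g⁻¹, hm⟩ : Subgroup.centralizer ({t} : Set G)) = x from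
      Subtype.ext hxg'.symm]⟩, hne⟩)
  -- some conjugate commutes with the involution
  obtain ⟨g, hg, hne⟩ : ∃ g : G, Commute T.z (g * T.z * g⁻¹) ∧ g * T.z * g⁻¹ ≠ T.z := by
    by_contra! h
    have hiso : Cfsg.IsIsolatedInvolution T.z := ⟨ht, h⟩
    have htop := U62Rec.centralizer_sup_oddCore hiso
    rw [hO, sup_bot_eq] at htop
    have hmem : T.z ∈ Subgroup.center G := Subgroup.mem_center_iff.2 fun x =>
      Subgroup.mem_centralizer_singleton_iff.1 (htop ▸ Subgroup.mem_top x)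
    rw [hZ, Subgroup.mem_bot] at hmem
    exact T.z_ne hmem
  set a := g * T.z * g⁻¹ with hadef
  have haz : a * T.z = T.z * a := hg.eq.symm
  have haQ : a ∉ T.Q := fun h => hne (T.wc g h)
  obtain ⟨x, hx, hxq⟩ := exists_sing (ρ := T.ρ a)
    (by rw [← T.ρ_mul a a haz haz, (show T.Cj a from ⟨g, rfl⟩).sq, T.ρ_one])
    (fun h => haQ ((T.ρ_ker a haz).1 h)) (T.ρ_mem a haz)
  have hcja : T.Cj a := ⟨g, rfl⟩
  set q := T.li x
  set b := q * a * q⁻¹ with hbdef
  set p := a * q * a⁻¹ * q⁻¹ with hpdef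
  have hpQ : p ∈ T.Q := mul_mem (T.data.norm a haz q (T.li_mem x)) (inv_mem (T.li_mem x))
  have hcp : T.c p = ap (T.ρ a) x + x := by
    rw [hpdef, T.c_mul _ (T.data.norm a haz q (T.li_mem x)) _ (inv_mem (T.li_mem x)),
      T.c_inv (T.li_mem x), T.ρ_conj a haz q (T.li_mem x), T.c_li]
  have hab : a * b = p := by rw [hbdef, hpdef, hcja.inv]; group
  have hp2 : p * p = 1 := by rw [T.sq p hpQ, hcp, hxq, pw_zero]
  have hcom : b * a = a * b := by
    have h1 := inv_eq_of_mul_eq_one_right (show a * b * (a * b) = 1 by rw [hab]; exact hp2)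
    rwa [mul_inv_rev, (hcja.conj q).inv, hcja.inv] at h1
  have hp1 : p ≠ 1 := fun h => hx (by rw [← hcp, h, T.c_one])
  have hpz : ¬ T.Cj p := fun h => hx (by rw [← hcp, h.eq_z hpQ, T.c_z])
  -- move `a` to the involution
  refine NPair.false (T := T) (a := g⁻¹ * b * g) ⟨?_, ?_, ?_, ?_⟩
  · simpa using (hcja.conj q).conj g⁻¹
  · calc g⁻¹ * b * g * T.z = g⁻¹ * (b * a) * g := by rw [hadef]; group
      _ = g⁻¹ * (a * b) * g := by rw [hcom]
      _ = T.z * (g⁻¹ * b * g) := by rw [hadef]; group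
  · intro h
    refine hp1 ?_
    rw [← hab, show b = a by
      calc b = g * (g⁻¹ * b * g) * g⁻¹ := by group
        _ = a := by rw [h, hadef], hcja.sq]
  · intro h
    refine hpz ?_
    have := h.conj g
    rwa [show g * (T.z * (g⁻¹ * b * g)) * g⁻¹ = p by rw [← hab, hadef]; group] at this

end Cfsg.Agent.CoOneUniq
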